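import Mathlib
import Cfsg.Agent.Lib.Helper2.Frobenius
import Cfsg.Agent.Lib.Helper2.Tate
import Cfsg.Agent.Lib.Helper11.ZJ9
import Cfsg.Agent.Lib.Helper10.PrimeToPLift

set_option autoImplicit false
set_option linter.style.haveILetI false

/-!
# Transport lemmas for normal `p`-complements (for the Glauberman–Thompson theorem)
-/

namespace Cfsg.Agent.Helper31.GT

open Cfsg Cfsg.Agent.Helper2 Cfsg.Agent.Helper11.ZJ
open scoped Pointwise

universe u

variable {G : Type*} [Group G]

theorem hnpc_iff [Finite G] {p : ℕ} [hp : Fact p.Prime] :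
    HasNormalPComplement p G ↔
      ∃ N : Subgroup G, N.Normal ∧ (Nat.card N).Coprime p ∧ ∃ k : ℕ, N.index = p ^ k := by
  constructor
  · rintro ⟨P, K, hKn, hKc⟩
    obtain ⟨a, ha⟩ := IsPGroup.iff_card.mp P.isPGroup'
    refine ⟨K, hKn, ?_, a, ?_⟩
    · rw [← hKc.index_eq_card]
      exact ((Nat.Prime.coprime_iff_not_dvd hp.out).mpr P.not_dvd_index).symm
    · rw [hKc.symm.index_eq_card, ha]
  · rintro ⟨N, hN, hcop, k, hk⟩
    exact hasNormalPComplement_of_card_coprime_of_index_pow N hN hcop k hk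

theorem hnpc_of_surjective {G' : Type*} [Group G'] [Finite G] [Finite G'] {p : ℕ}
    [hp : Fact p.Prime] (f : G →* G') (hf : Function.Surjective f)
    (h : HasNormalPComplement p G) : HasNormalPComplement p G' := by
  rw [hnpc_iff] at h ⊢
  obtain ⟨N, hN, hcop, k, hk⟩ := h
  refine ⟨N.map f, hN.map f hf, Nat.Coprime.coprime_dvd_left (Subgroup.card_map_dvd N f) hcop, ?_⟩
  have h1 : (N.map f).index ∣ p ^ k := hk ▸ Subgroup.index_map_dvd N hf
  obtain ⟨j, -, hj⟩ := (Nat.dvd_prime_pow hp.out).mp h1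
  exact ⟨j, hj⟩

theorem hnpc_of_ker_coprime {G' : Type*} [Group G'] [Finite G] [Finite G'] {p : ℕ}
    [hp : Fact p.Prime] (f : G →* G') (hf : Function.Surjective f)
    (hker : (Nat.card f.ker).Coprime p)
    (h : HasNormalPComplement p G') : HasNormalPComplement p G := by
  rw [hnpc_iff] at h ⊢
  obtain ⟨N, hN, hcop, k, hk⟩ := h
  refine ⟨N.comap f, hN.comap f, ?_, k, ?_⟩
  · rw [Nat.coprime_comm, Nat.Prime.coprime_iff_not_dvd hp.out]
    intro hdvd
    obtain ⟨x, hx⟩ := exists_prime_orderOf_dvd_card' p hdvd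
    have hxN : f (x : G) ∈ N := x.2
    have h1 : (f (x : G)) ^ p = 1 := by
      rw [← map_pow, ← hx, ← Subgroup.orderOf_coe, pow_orderOf_eq_one, map_one]
    have h2 : (f (x : G)) ^ Nat.card N = 1 := by
      have h3 : (⟨f (x : G), hxN⟩ : ↥N) ^ Nat.card ↥N = 1 := pow_card_eq_one'
      have h4 := congrArg Subtype.val h3
      rwa [Subgroup.coe_pow] at h4
    have h3 := pow_gcd_eq_one.mpr ⟨h2, h1⟩
    rw [Nat.Coprime.gcd_eq_one hcop, pow_one] at h3
    have h4 : (x : G) ∈ f.ker := h3
    have h5 : orderOf (x : G) ∣ Nat.card f.ker := by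
      have : orderOf (⟨(x : G), h4⟩ : ↥f.ker) ∣ Nat.card ↥f.ker := orderOf_dvd_natCard _
      rwa [← Subgroup.orderOf_coe] at this
    rw [Subgroup.orderOf_coe, hx] at h5
    have := Nat.Coprime.eq_one_of_dvd hker.symm h5
    exact hp.out.one_lt.ne' this
  · rw [Subgroup.index_comap_of_surjective N hf, hk]

theorem pn_mono [Finite G] {p : ℕ} [Fact p.Prime] {M₁ M₂ : Subgroup G} (h : M₁ ≤ M₂)
    (h2 : HasNormalPComplement p ↥M₂) : HasNormalPComplement p ↥M₁ :=
  hasNormalPComplement_of_mulEquiv (Subgroup.subgroupOfEquivOfLe h)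
    (hasNormalPComplement_subgroup h2 (M₁.subgroupOf M₂))

theorem pn_map {G' : Type*} [Group G'] [Finite G] [Finite G'] {p : ℕ} [Fact p.Prime]
    (f : G →* G') (M : Subgroup G) (h : HasNormalPComplement p ↥M) :
    HasNormalPComplement p ↥(M.map f) :=
  hnpc_of_surjective (f.subgroupMap M) (f.subgroupMap_surjective M) h

theorem pn_top [Finite G] {p : ℕ} [Fact p.Prime] :
    HasNormalPComplement p ↥(⊤ : Subgroup G) ↔ HasNormalPComplement p G :=
  ⟨fun h => hasNormalPComplement_of_mulEquiv Subgroup.topEquiv h,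
    fun h => hasNormalPComplement_of_mulEquiv Subgroup.topEquiv.symm h⟩

/-- Frobenius: a group without normal `p`-complement has a nontrivial `p`-subgroup whose
normalizer has no normal `p`-complement. -/
theorem exists_bad_local [Finite G] {p : ℕ} [Fact p.Prime] (h : ¬ HasNormalPComplement p G) :
    ∃ X : Subgroup G, IsPGroup p X ∧ X ≠ ⊥ ∧
      ¬ HasNormalPComplement p ↥(Subgroup.normalizer (X : Set G)) := by
  by_contra hcon
  push Not at hcon
  exact h (frobenius_aux p _ G rfl (frobCond_of_local hcon))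

/-- The induction hypothesis of the Glauberman–Thompson theorem. -/
def IHyp (p : ℕ) (n : ℕ) : Prop :=
  ∀ (X : Type u) [Group X] [Finite X], Nat.card X < n → ∀ R : Sylow p X,
    HasNormalPComplement p ↥(Subgroup.normalizer (ZJ (R : Subgroup X) : Set X)) →
      HasNormalPComplement p X

/-- The induction hypothesis applied to a proper subgroup. -/
theorem ih_sub {G : Type u} [Group G] [Finite G] {p : ℕ} [Fact p.Prime]
    (ih : IHyp.{u} p (Nat.card G)) (M : Subgroup G) (hM : M ≠ ⊤) (R : Sylow p ↥M)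
    (h : HasNormalPComplement p
      ↥(M ⊓ Subgroup.normalizer (ZJ ((R : Subgroup ↥M).map M.subtype) : Set G))) :
    HasNormalPComplement p ↥M := by
  have hcard : Nat.card ↥M < Nat.card G := by
    have := card_lt_of_lt' (lt_top_iff_ne_top.mpr hM)
    rwa [Subgroup.card_top] at this
  apply ih ↥M hcard R
  set Z := ZJ (R : Subgroup ↥M) with hZ
  have hinj : M.subtype.ker ⊓ (R : Subgroup ↥M) = ⊥ := by
    rw [M.ker_subtype, bot_inf_eq]
  have hmap : ZJ ((R : Subgroup ↥M).map M.subtype) = Z.map M.subtype :=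
    W_comm_map M.subtype (R : Subgroup ↥M) hinj
  have hle : (Subgroup.normalizer (Z : Set ↥M)).map M.subtype ≤
      M ⊓ Subgroup.normalizer (ZJ ((R : Subgroup ↥M).map M.subtype) : Set G) := by
    apply le_inf (Subgroup.map_subtype_le _)
    rw [hmap]
    exact Subgroup.le_normalizer_map M.subtype
  have h1 := pn_mono hle h
  exact hasNormalPComplement_of_mulEquiv
    (Subgroup.equivMapOfInjective _ M.subtype M.subtype_injective).symm h1

/-- Conjugation invariance of the hypothesis. -/
theorem hyp_conj [Finite G] {p : ℕ} [Fact p.Prime] (P : Sylow p G)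
    (h : HasNormalPComplement p ↥(Subgroup.normalizer (ZJ (P : Subgroup G) : Set G))) (g : G) :
    HasNormalPComplement p
      ↥(Subgroup.normalizer (ZJ ((g • P : Sylow p G) : Subgroup G) : Set G)) := by
  have h1 : ((g • P : Sylow p G) : Subgroup G) =
      (P : Subgroup G).map (MulAut.conj g).toMonoidHom := rfl
  have h2 : ZJ ((g • P : Sylow p G) : Subgroup G) =
      (ZJ (P : Subgroup G)).map (MulAut.conj g).toMonoidHom := by
    rw [h1]
    exact (W_map goodAx_comm (MulAut.conj g) _).symm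
  have h3 := pn_map (MulAut.conj g).toMonoidHom _ h
  rw [Subgroup.map_equiv_normalizer_eq] at h3
  exact pn_mono (le_of_eq (by rw [h2])) h3

/-- The hypothesis for all Sylow subgroups. -/
theorem hyp_all [Finite G] {p : ℕ} [Fact p.Prime] (P : Sylow p G)
    (h : HasNormalPComplement p ↥(Subgroup.normalizer (ZJ (P : Subgroup G) : Set G)))
    (P' : Sylow p G) :
    HasNormalPComplement p ↥(Subgroup.normalizer (ZJ (P' : Subgroup G) : Set G)) := by
  obtain ⟨g, rfl⟩ := MulAction.exists_smul_eq G P P'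
  exact hyp_conj P h g

/-- Reduction modulo a normal `p'`-subgroup. -/
theorem hnpc_of_quot_coprime {G : Type u} [Group G] [Finite G] {p : ℕ} [hp : Fact p.Prime]
    (ih : IHyp.{u} p (Nat.card G)) (D : Subgroup G) [hDn : D.Normal]
    (hD : (Nat.card D).Coprime p) (hD1 : D ≠ ⊥) (P : Sylow p G)
    (h : HasNormalPComplement p ↥(Subgroup.normalizer (ZJ (P : Subgroup G) : Set G))) :
    HasNormalPComplement p G := by
  set mk := QuotientGroup.mk' D with hmk
  have hsurj : Function.Surjective mk := QuotientGroup.mk'_surjective D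
  have hker : mk.ker = D := QuotientGroup.ker_mk' D
  apply hnpc_of_ker_coprime mk hsurj (by rw [hker]; exact hD)
  have hcard : Nat.card (G ⧸ D) < Nat.card G := by
    rw [Subgroup.card_eq_card_quotient_mul_card_subgroup D]
    have h1 : 1 < Nat.card D := by
      rcases Nat.lt_or_ge 1 (Nat.card D) with h | h
      · exact h
      · exfalso
        have : Nat.card D = 1 := le_antisymm h Nat.card_pos
        exact hD1 (Subgroup.card_eq_one.mp this)
    have h2 : 0 < Nat.card (G ⧸ D) := Nat.card_pos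
    nlinarith
  set Pb : Sylow p (G ⧸ D) := P.mapSurjective hsurj with hPb
  have hPbc : (Pb : Subgroup (G ⧸ D)) = (P : Subgroup G).map mk := Sylow.coe_mapSurjective hsurj P
  apply ih (G ⧸ D) hcard Pb
  have hinj : mk.ker ⊓ (P : Subgroup G) = ⊥ := by
    rw [hker]
    obtain ⟨k, hk⟩ := IsPGroup.iff_card.mp P.isPGroup'
    apply (Subgroup.disjoint_of_coprime_natCard _).eq_bot
    rw [hk]
    exact Nat.Coprime.pow_right k hD
  have hZ : ZJ (Pb : Subgroup (G ⧸ D)) = (ZJ (P : Subgroup G)).map mk := by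
    rw [hPbc]
    exact W_comm_map mk (P : Subgroup G) hinj
  set Z := ZJ (P : Subgroup G) with hZdef
  have hZp : IsPGroup p Z := P.isPGroup'.to_le (W_le goodAx_comm _)
  have hle : Subgroup.normalizer (ZJ (Pb : Subgroup (G ⧸ D)) : Set (G ⧸ D)) ≤
      (Subgroup.normalizer (Z : Set G)).map mk := by
    rw [hZ]
    intro gb hgb
    obtain ⟨g, rfl⟩ := hsurj gb
    have hconj : MulAut.conj g • Z ≤ Z ⊔ D := by
      rintro _ ⟨z, hz, rfl⟩
      show g * z * g⁻¹ ∈ Z ⊔ D
      have h1 : mk (g * z * g⁻¹) ∈ Z.map mk := by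
        rw [map_mul, map_mul, map_inv]
        exact (Subgroup.mem_normalizer_iff.mp hgb (mk z)).mp (Subgroup.mem_map_of_mem mk hz)
      obtain ⟨z', hz', hzz⟩ := h1
      have h2 : z'⁻¹ * (g * z * g⁻¹) ∈ D := by
        rw [← hker, MonoidHom.mem_ker, map_mul, map_inv, hzz, inv_mul_cancel]
      have h3 : g * z * g⁻¹ = z' * (z'⁻¹ * (g * z * g⁻¹)) := by group
      rw [h3]
      exact Subgroup.mul_mem _ (Subgroup.mem_sup_left hz') (Subgroup.mem_sup_right h2)
    obtain ⟨m, hm, hmg⟩ := Helper10.exists_mul_mem_normalizer_of_conj_le_sup hZp hD g hconj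
    refine ⟨m * g, hmg, ?_⟩
    have : mk m = 1 := by rw [← MonoidHom.mem_ker, hker]; exact hm
    rw [map_mul, this, one_mul]
  exact pn_mono hle (pn_map mk _ h)

/-- The quotient by a normal `p`-subgroup `H < P`, when the normalizers of the `p`-subgroups
strictly containing `H` have normal `p`-complements. -/
theorem hnpc_quot_of_pgroup {G : Type u} [Group G] [Finite G] {p : ℕ} [hp : Fact p.Prime]
    (ih : IHyp.{u} p (Nat.card G)) (H : Subgroup G) [hHn : H.Normal] (hH1 : H ≠ ⊥)
    (P : Sylow p G) (hHP : H < (P : Subgroup G))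
    (hloc : ∀ L : Subgroup G, H < L → L ≤ (P : Subgroup G) →
      (P : Subgroup G) ≤ Subgroup.normalizer (L : Set G) →
      HasNormalPComplement p ↥(Subgroup.normalizer (L : Set G))) :
    HasNormalPComplement p (G ⧸ H) := by
  set mk := QuotientGroup.mk' H with hmk
  have hsurj : Function.Surjective mk := QuotientGroup.mk'_surjective H
  have hker : mk.ker = H := QuotientGroup.ker_mk' H
  have hmk1 : ∀ g : G, mk g = 1 ↔ g ∈ H := fun g => QuotientGroup.eq_one_iff g
  have hcard : Nat.card (G ⧸ H) < Nat.card G := by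
    rw [Subgroup.card_eq_card_quotient_mul_card_subgroup H]
    have h1 : 1 < Nat.card H := by
      rcases Nat.lt_or_ge 1 (Nat.card H) with h | h
      · exact h
      · exfalso
        have : Nat.card H = 1 := le_antisymm h Nat.card_pos
        exact hH1 (Subgroup.card_eq_one.mp this)
    have h2 : 0 < Nat.card (G ⧸ H) := Nat.card_pos
    nlinarith
  set Pb : Sylow p (G ⧸ H) := P.mapSurjective hsurj with hPb
  have hPbc : (Pb : Subgroup (G ⧸ H)) = (P : Subgroup G).map mk := Sylow.coe_mapSurjective hsurj P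
  apply ih (G ⧸ H) hcard Pb
  set Zb := ZJ (Pb : Subgroup (G ⧸ H)) with hZb
  set L := Zb.comap mk with hL
  have hPbne : (Pb : Subgroup (G ⧸ H)) ≠ ⊥ := by
    obtain ⟨u, hu, hu'⟩ := SetLike.exists_of_lt hHP
    intro h
    have h1 : mk u ∈ (Pb : Subgroup (G ⧸ H)) := by
      rw [hPbc]; exact Subgroup.mem_map_of_mem _ hu
    rw [h, Subgroup.mem_bot, hmk1] at h1
    exact hu' h1
  have hZbne : Zb ≠ ⊥ := ZJ_ne_bot Pb.isPGroup' hPbne
  have hLP : L ≤ (P : Subgroup G) := by
    intro x hx
    have h1 : mk x ∈ (Pb : Subgroup (G ⧸ H)) := W_le goodAx_comm _ (Subgroup.mem_comap.mp hx)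
    rw [hPbc] at h1
    obtain ⟨u, hu, hux⟩ := h1
    have h2 : u⁻¹ * x ∈ H := by
      rw [← hmk1, map_mul, map_inv, hux, inv_mul_cancel]
    have h3 : x = u * (u⁻¹ * x) := by group
    rw [h3]
    exact (P : Subgroup G).mul_mem hu ((le_of_lt hHP) h2)
  have hHL : H < L := by
    refine lt_of_le_of_ne ?_ ?_
    · intro x hx
      rw [hL, Subgroup.mem_comap, (hmk1 x).mpr hx]
      exact Zb.one_mem
    · intro heq
      apply hZbne
      rw [eq_bot_iff]
      intro zb hzb
      obtain ⟨z, rfl⟩ := hsurj zb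
      have h1 : z ∈ L := hzb
      rw [← heq] at h1
      rw [Subgroup.mem_bot]
      exact (hmk1 z).mpr h1
  have hPL : (P : Subgroup G) ≤ Subgroup.normalizer (L : Set G) := by
    intro u hu
    have h3 : mk u ∈ Subgroup.normalizer (Zb : Set (G ⧸ H)) := by
      apply le_normalizer_W goodAx_comm (Pb : Subgroup (G ⧸ H))
      rw [hPbc]
      exact Subgroup.mem_map_of_mem _ hu
    rw [hL, ← Subgroup.comap_normalizer_eq_of_surjective Zb hsurj]
    exact h3
  have h1 := pn_map mk _ (hloc L hHL hLP hPL)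
  have h2 : (Subgroup.normalizer (L : Set G)).map mk = Subgroup.normalizer (Zb : Set (G ⧸ H)) := by
    rw [hL, ← Subgroup.comap_normalizer_eq_of_surjective Zb hsurj,
      Subgroup.map_comap_eq_self_of_surjective hsurj]
  exact pn_mono (le_of_eq h2.symm) h1

end Cfsg.Agent.Helper31.GT
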