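import Mathlib
import Cfsg.Agent.Lib.Helper10.FixedCount

set_option autoImplicit false

/-!
# Itô: a nontrivial normal subgroup inside a factor of `G = AB` (A, B abelian)

Elementary lemmas used for S0573.
-/

namespace Cfsg.Agent.Helper31.Ito

open scoped commutatorElement

variable {G : Type*} [Group G]

/-- If `L = H K` (as a set) with `H ⊓ K = ⊥`, then `|L| = |H| |K|`. -/
lemma card_eq_mul_of_factorization (H K L : Subgroup G) (hH : H ≤ L) (hK : K ≤ L)
    (hdisj : H ⊓ K = ⊥) (hfac : ∀ x ∈ L, ∃ h ∈ H, ∃ k ∈ K, x = h * k) :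
    Nat.card L = Nat.card H * Nat.card K := by
  rw [← Nat.card_prod]
  symm
  apply Nat.card_congr
  refine Equiv.ofBijective
    (fun hk : H × K => (⟨hk.1 * hk.2, L.mul_mem (hH hk.1.2) (hK hk.2.2)⟩ : L)) ⟨?_, ?_⟩
  · rintro ⟨⟨h, hh⟩, ⟨k, hk⟩⟩ ⟨⟨h', hh'⟩, ⟨k', hk'⟩⟩ e
    simp only [Subtype.mk.injEq] at e
    have hmem : h'⁻¹ * h ∈ H ⊓ K := by
      refine ⟨H.mul_mem (H.inv_mem hh') hh, ?_⟩
      have : h'⁻¹ * h = k' * k⁻¹ := by
        calc h'⁻¹ * h = h'⁻¹ * (h * k) * k⁻¹ := by group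
          _ = h'⁻¹ * (h' * k') * k⁻¹ := by rw [e]
          _ = k' * k⁻¹ := by group
      rw [this]; exact K.mul_mem hk' (K.inv_mem hk)
    rw [hdisj, Subgroup.mem_bot] at hmem
    have h1 : h = h' := by
      calc h = h' * (h'⁻¹ * h) := by group
        _ = h' := by rw [hmem, mul_one]
    subst h1
    have h2 : k = k' := mul_left_cancel e
    subst h2
    rfl
  · rintro ⟨x, hx⟩
    obtain ⟨h, hh, k, hk, rfl⟩ := hfac x hx
    exact ⟨(⟨h, hh⟩, ⟨k, hk⟩), rfl⟩

/-- If `G = K H` (as a set), then `|G : H|` divides `|K|`. -/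
lemma index_dvd_card_of_factorization [Finite G] (H K : Subgroup G)
    (h : ∀ g : G, ∃ k ∈ K, ∃ x ∈ H, g = k * x) : H.index ∣ Nat.card K := by
  have horb : MulAction.orbit K ((1 : G) : G ⧸ H) = Set.univ := by
    ext q
    simp only [Set.mem_univ, iff_true]
    obtain ⟨g, rfl⟩ := QuotientGroup.mk_surjective q
    obtain ⟨k, hk, x, hx, rfl⟩ := h g
    refine ⟨⟨k, hk⟩, ?_⟩
    show ((k * 1 : G) : G ⧸ H) = ((k * x : G) : G ⧸ H)
    rw [QuotientGroup.eq]
    simpa using hx
  have h1 := MulAction.index_stabilizer (G := K) (x := ((1 : G) : G ⧸ H))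
  rw [horb, Set.ncard_univ] at h1
  have h2 : (MulAction.stabilizer K ((1 : G) : G ⧸ H)).index ∣ Nat.card K :=
    Subgroup.index_dvd_card _
  rw [h1] at h2
  exact h2

lemma exists_eq_mul_of_mem_sup {s t : Subgroup G} (ht : t.Normal) {x : G} (hx : x ∈ s ⊔ t) :
    ∃ y ∈ s, ∃ z ∈ t, x = y * z := by
  haveI := ht
  obtain ⟨y, hy, z, hz, h⟩ := Subgroup.mem_sup_of_normal_right.mp hx
  exact ⟨y, hy, z, hz, h.symm⟩

lemma fact_swap (A B : Subgroup G) (hAB : ∀ g : G, ∃ a ∈ A, ∃ b ∈ B, g = a * b) :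
    ∀ g : G, ∃ b ∈ B, ∃ a ∈ A, g = b * a := by
  intro g
  obtain ⟨a, ha, b, hb, h⟩ := hAB g⁻¹
  refine ⟨b⁻¹, B.inv_mem hb, a⁻¹, A.inv_mem ha, ?_⟩
  rw [← mul_inv_rev, ← h, inv_inv]

lemma mem_center_of_comm (A B : Subgroup G) (hAB : ∀ g : G, ∃ a ∈ A, ∃ b ∈ B, g = a * b)
    {x : G} (hA : ∀ a ∈ A, a * x = x * a) (hB : ∀ b ∈ B, b * x = x * b) :
    x ∈ Subgroup.center G := by
  rw [Subgroup.mem_center_iff]
  intro g
  obtain ⟨a, ha, b, hb, rfl⟩ := hAB g
  calc a * b * x = a * (b * x) := by group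
    _ = a * (x * b) := by rw [hB b hb]
    _ = (a * x) * b := by group
    _ = (x * a) * b := by rw [hA a ha]
    _ = x * (a * b) := by group

/-- If `Z(G) = 1`, `A ≤ K ⊴ G` and `Z(K) ≠ 1` then `Z(K)` is a nontrivial normal subgroup of `G`
inside `A`. -/
lemma exists_normal_le_of_center_ne_bot (A B : Subgroup G) [IsMulCommutative A]
    [IsMulCommutative B] (hAB : ∀ g : G, ∃ a ∈ A, ∃ b ∈ B, g = a * b)
    (hZ : Subgroup.center G = ⊥) (K : Subgroup G) (hK : K.Normal) (hAK : A ≤ K)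
    (hne : K ⊓ Subgroup.centralizer (K : Set G) ≠ ⊥) :
    ∃ N : Subgroup G, N.Normal ∧ N ≠ ⊥ ∧ N ≤ A := by
  refine ⟨K ⊓ Subgroup.centralizer (K : Set G), ?_, hne, ?_⟩
  · haveI := hK
    infer_instance
  · intro z hz
    obtain ⟨a, ha, b, hb, rfl⟩ := hAB z
    have hzc : ∀ k ∈ K, k * (a * b) = (a * b) * k := fun k hk =>
      (Subgroup.mem_centralizer_iff.mp hz.2 k hk)
    have hb1 : b ∈ Subgroup.center G := by
      apply mem_center_of_comm A B hAB
      · intro a' ha'
        have h1 := hzc a' (hAK ha')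
        have h2 : a' * a = a * a' := setLike_mul_comm ha' ha
        calc a' * b = a⁻¹ * (a * a') * b := by group
          _ = a⁻¹ * (a' * a) * b := by rw [h2]
          _ = a⁻¹ * (a' * (a * b)) := by group
          _ = a⁻¹ * ((a * b) * a') := by rw [h1]
          _ = b * a' := by group
      · intro b' hb'
        exact setLike_mul_comm hb' hb
    rw [hZ, Subgroup.mem_bot] at hb1
    rw [hb1, mul_one]
    exact ha

/-- Minimal normal subgroup below a nontrivial normal subgroup. -/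
lemma exists_minimal_normal [Finite G] (V : Subgroup G) (hV : V.Normal) (hV1 : V ≠ ⊥) :
    ∃ N : Subgroup G, N.Normal ∧ N ≠ ⊥ ∧ N ≤ V ∧
      ∀ M : Subgroup G, M.Normal → M ≠ ⊥ → M ≤ N → M = N := by
  obtain ⟨N, hN, hmin⟩ := Set.exists_min_image {M : Subgroup G | M.Normal ∧ M ≠ ⊥ ∧ M ≤ V}
    (fun M => Nat.card M) (Set.toFinite _) ⟨V, hV, hV1, le_rfl⟩
  refine ⟨N, hN.1, hN.2.1, hN.2.2, ?_⟩
  intro M hM hM1 hMN
  exact Subgroup.eq_of_le_of_card_ge hMN (hmin M ⟨hM, hM1, hMN.trans hN.2.2⟩)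

/-- A minimal normal subgroup which is abelian has prime exponent. -/
lemma exists_prime_exponent [Finite G] (N : Subgroup G) (hN : N.Normal) (hN1 : N ≠ ⊥)
    (hcomm : ∀ x ∈ N, ∀ y ∈ N, x * y = y * x)
    (hmin : ∀ M : Subgroup G, M.Normal → M ≠ ⊥ → M ≤ N → M = N) :
    ∃ p : ℕ, p.Prime ∧ ∀ x ∈ N, x ^ p = 1 := by
  have hcard : Nat.card N ≠ 1 := by
    intro h
    exact hN1 (Subgroup.card_eq_one.mp h)
  obtain ⟨p, hp, hpd⟩ := Nat.exists_prime_and_dvd hcard
  haveI : Fact p.Prime := ⟨hp⟩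
  obtain ⟨x, hx⟩ := exists_prime_orderOf_dvd_card' p hpd
  let M : Subgroup G :=
    { carrier := {y | y ∈ N ∧ y ^ p = 1}
      mul_mem' := by
        rintro y z ⟨hy, hy1⟩ ⟨hz, hz1⟩
        refine ⟨N.mul_mem hy hz, ?_⟩
        have hc : Commute y z := hcomm y hy z hz
        rw [hc.mul_pow, hy1, hz1, one_mul]
      one_mem' := ⟨N.one_mem, one_pow p⟩
      inv_mem' := by
        rintro y ⟨hy, hy1⟩
        exact ⟨N.inv_mem hy, by rw [inv_pow, hy1, inv_one]⟩ }
  have hMN : M ≤ N := fun y hy => hy.1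
  have hMnormal : M.Normal := by
    refine ⟨fun y hy g => ⟨hN.conj_mem y hy.1 g, ?_⟩⟩
    rw [conj_pow, hy.2]
    group
  have hM1 : M ≠ ⊥ := by
    intro h
    have hxM : (x : G) ∈ M := by
      refine ⟨x.2, ?_⟩
      have := pow_orderOf_eq_one x
      rw [hx] at this
      have h2 := congrArg Subtype.val this
      simpa using h2
    rw [h, Subgroup.mem_bot] at hxM
    have : x = 1 := Subtype.ext hxM
    rw [this, orderOf_one] at hx
    exact hp.one_lt.ne hx
  have hMeq := hmin M hMnormal hM1 hMN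
  refine ⟨p, hp, fun y hy => ?_⟩
  have : y ∈ M := by rw [hMeq]; exact hy
  exact this.2

/-- For a minimal normal subgroup `N` centralized by `G'`, every `C_N(g)` is `1` or `N`. -/
lemma inf_centralizer_eq_bot_or_le (N : Subgroup G) (hN : N.Normal)
    (hmin : ∀ M : Subgroup G, M.Normal → M ≠ ⊥ → M ≤ N → M = N)
    (hVK : commutator G ≤ Subgroup.centralizer (N : Set G)) (g : G) :
    N ⊓ Subgroup.centralizer {g} = ⊥ ∨ N ≤ Subgroup.centralizer {g} := by
  by_cases h0 : N ⊓ Subgroup.centralizer {g} = ⊥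
  · exact Or.inl h0
  · right
    have hnormal : (N ⊓ Subgroup.centralizer {g}).Normal := by
      refine ⟨fun x hx h => ⟨hN.conj_mem x hx.1 h, ?_⟩⟩
      show h * x * h⁻¹ ∈ Subgroup.centralizer {g}
      rw [Subgroup.mem_centralizer_iff]
      intro y hy
      rw [Set.mem_singleton_iff] at hy
      subst hy
      have hg : y * x = x * y := by
        have := Subgroup.mem_centralizer_iff.mp hx.2 y (Set.mem_singleton y)
        exact this
      set c : G := h⁻¹ * y * h * y⁻¹ with hc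
      have hcV : c ∈ commutator G := by
        have : c = ⁅h⁻¹, y⁆ := by rw [commutatorElement_def, inv_inv]
        rw [this]
        exact Subgroup.commutator_mem_commutator (Subgroup.mem_top _) (Subgroup.mem_top _)
      have hcx : c * x = x * c := by
        have := Subgroup.mem_centralizer_iff.mp (hVK hcV) x hx.1
        exact this.symm
      have hcy : c * y = h⁻¹ * y * h := by rw [hc]; group
      calc y * (h * x * h⁻¹) = h * (h⁻¹ * y * h) * x * h⁻¹ := by group
        _ = h * (c * y) * x * h⁻¹ := by rw [hcy]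
        _ = h * c * (y * x) * h⁻¹ := by group
        _ = h * c * (x * y) * h⁻¹ := by rw [hg]
        _ = h * (c * x) * y * h⁻¹ := by group
        _ = h * (x * c) * y * h⁻¹ := by rw [hcx]
        _ = h * x * (c * y) * h⁻¹ := by group
        _ = h * x * (h⁻¹ * y * h) * h⁻¹ := by rw [hcy]
        _ = h * x * h⁻¹ * y := by group
    have := hmin _ hnormal h0 inf_le_left
    rw [← this]
    exact inf_le_right

/-- `p`-elements centralize a minimal normal `p`-subgroup with the dichotomy property. -/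
lemma le_centralizer_of_pow_eq_one [Finite G] {p : ℕ} [Fact p.Prime] (N : Subgroup G)
    (hN : N.Normal) (hN1 : N ≠ ⊥) (hp : IsPGroup p N)
    (hdich : ∀ g : G, N ⊓ Subgroup.centralizer {g} = ⊥ ∨ N ≤ Subgroup.centralizer {g})
    (y : G) (k : ℕ) (hy : y ^ (p ^ k) = 1) : N ≤ Subgroup.centralizer {y} := by
  rcases hdich y with h0 | h0
  · exfalso
    haveI := hN
    have hR : IsPGroup p (Subgroup.zpowers y) := by
      have hdvd : orderOf y ∣ p ^ k := orderOf_dvd_of_pow_eq_one hy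
      obtain ⟨j, -, hj⟩ := (Nat.dvd_prime_pow (Fact.out : p.Prime)).mp hdvd
      apply IsPGroup.of_card (n := j)
      rw [Nat.card_zpowers, hj]
    have hfix : N ⊓ Subgroup.centralizer ((Subgroup.zpowers y : Subgroup G) : Set G) = ⊥ := by
      rw [eq_bot_iff, ← h0]
      apply inf_le_inf_left
      apply Subgroup.centralizer_le
      intro z hz
      rw [Set.mem_singleton_iff] at hz
      subst hz
      exact Subgroup.mem_zpowers z
    have hmod := Cfsg.Agent.Helper10.card_modEq_one_of_inf_centralizer_eq_bot N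
      (Subgroup.zpowers y) hR hfix
    obtain ⟨j, hj⟩ := hp.exists_card_eq
    have hj0 : j ≠ 0 := by
      rintro rfl
      rw [pow_zero] at hj
      exact hN1 (Subgroup.card_eq_one.mp hj)
    have hpd : p ∣ Nat.card N := by
      rw [hj]; exact dvd_pow_self p hj0
    have h1 : Nat.card N % p = 0 := Nat.mod_eq_zero_of_dvd hpd
    have h2 : Nat.card N % p = 1 % p := hmod
    rw [h1, Nat.mod_eq_of_lt (Fact.out : p.Prime).one_lt] at h2
    exact absurd h2 (by norm_num)
  · exact h0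


/-- The contradictory configuration: both factors act nontrivially on the minimal normal
subgroup `N ≤ G'`. -/
lemma false_of_config [Finite G] (A B : Subgroup G) [IsMulCommutative A] [IsMulCommutative B]
    (hAB : ∀ g : G, ∃ a ∈ A, ∃ b ∈ B, g = a * b) (hZ : Subgroup.center G = ⊥)
    (N : Subgroup G) (hN : N.Normal) (hN1 : N ≠ ⊥)
    (hVK : commutator G ≤ Subgroup.centralizer (N : Set G))
    {p : ℕ} [Fact p.Prime] (hexp : ∀ x ∈ N, x ^ p = 1)
    (hpel : ∀ (y : G) (k : ℕ), y ^ (p ^ k) = 1 → N ≤ Subgroup.centralizer {y})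
    (a : G) (ha : a ∈ A) (ha0 : N ⊓ Subgroup.centralizer {a} = ⊥)
    (b : G) (hb : b ∈ B) (hb0 : N ⊓ Subgroup.centralizer {b} = ⊥) : False := by
  haveI := hN
  have hBA := fact_swap A B hAB
  have cA : ∀ x ∈ A, ∀ y ∈ A, x * y = y * x := fun x hx y hy => setLike_mul_comm hx hy
  have cB : ∀ x ∈ B, ∀ y ∈ B, x * y = y * x := fun x hx y hy => setLike_mul_comm hx hy
  -- trivial intersections
  have hBN : B ⊓ N = ⊥ := by
    rw [eq_bot_iff, ← hb0]
    intro x hx
    refine ⟨hx.2, ?_⟩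
    show x ∈ Subgroup.centralizer {b}
    rw [Subgroup.mem_centralizer_iff]
    intro y hy
    rw [Set.mem_singleton_iff] at hy
    subst hy
    exact cB y hb x hx.1
  have hABi : A ⊓ B = ⊥ := by
    rw [eq_bot_iff, ← hZ]
    intro x hx
    exact mem_center_of_comm A B hAB (fun a' ha' => cA a' ha' x hx.1) (fun b' hb' => cB b' hb' x hx.2)
  -- the subgroup A₁
  set A₁ : Subgroup G := A ⊓ (B ⊔ N) with hA₁
  have hA₁A : A₁ ≤ A := inf_le_left
  have hA₁BN : A₁ ≤ B ⊔ N := inf_le_right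
  have hcard1 : Nat.card (B ⊔ N : Subgroup G) = Nat.card B * Nat.card N :=
    card_eq_mul_of_factorization B N (B ⊔ N) le_sup_left le_sup_right hBN
      (fun x hx => exists_eq_mul_of_mem_sup hN hx)
  have hcard2 : Nat.card (B ⊔ N : Subgroup G) = Nat.card B * Nat.card A₁ := by
    apply card_eq_mul_of_factorization B A₁ (B ⊔ N) le_sup_left hA₁BN
    · rw [eq_bot_iff, ← hABi]
      intro x hx
      exact ⟨hA₁A hx.2, hx.1⟩
    · intro x hx
      obtain ⟨b', hb', a', ha', rfl⟩ := hBA x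
      refine ⟨b', hb', a', ⟨ha', ?_⟩, rfl⟩
      have : a' = b'⁻¹ * (b' * a') := by group
      rw [this]
      exact Subgroup.mul_mem _ (Subgroup.inv_mem _ (Subgroup.mem_sup_left hb')) hx
  have hcardA₁ : Nat.card A₁ = Nat.card N := by
    have h := hcard1.symm.trans hcard2
    exact (Nat.eq_of_mul_eq_mul_left Nat.card_pos h).symm
  -- N is a p-group
  have hpN : IsPGroup p N := by
    intro x
    refine ⟨1, ?_⟩
    apply Subtype.ext
    rw [pow_one]
    simpa using hexp x x.2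
  obtain ⟨k, hk⟩ := hpN.exists_card_eq
  -- A₁ centralizes N
  have hA₁K : ∀ x ∈ A₁, ∀ n ∈ N, x * n = n * x := by
    intro x hx n hn
    have hx1 : x ^ (p ^ k) = 1 := by
      have := pow_card_eq_one' (G := A₁) (x := ⟨x, hx⟩)
      rw [hcardA₁, hk] at this
      have h2 := congrArg Subtype.val this
      simpa using h2
    have := hpel x k hx1 hn
    rw [Subgroup.mem_centralizer_iff] at this
    exact this x (Set.mem_singleton x)
  -- commutators of A₁ with B lie in N
  have hcommN : ∀ x ∈ A₁, ∀ b' ∈ B, b' * x * b'⁻¹ * x⁻¹ ∈ N := by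
    intro x hx b' hb'
    obtain ⟨b₁, hb₁, n, hn, rfl⟩ := exists_eq_mul_of_mem_sup hN (hA₁BN hx)
    have h1 : b' * b₁ = b₁ * b' := cB b' hb' b₁ hb₁
    have : b' * (b₁ * n) * b'⁻¹ * (b₁ * n)⁻¹ = b₁ * ((b' * n * b'⁻¹) * n⁻¹) * b₁⁻¹ := by
      calc b' * (b₁ * n) * b'⁻¹ * (b₁ * n)⁻¹ = (b' * b₁) * n * b'⁻¹ * n⁻¹ * b₁⁻¹ := by group
        _ = (b₁ * b') * n * b'⁻¹ * n⁻¹ * b₁⁻¹ := by rw [h1]
        _ = b₁ * ((b' * n * b'⁻¹) * n⁻¹) * b₁⁻¹ := by group
    rw [this]
    exact hN.conj_mem _ (N.mul_mem (hN.conj_mem n hn b') (N.inv_mem hn)) b₁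
  -- X = A₁ N
  set X : Subgroup G := A₁ ⊔ N with hX
  have hXmem : ∀ x ∈ X, ∃ a₁ ∈ A₁, ∃ n ∈ N, x = a₁ * n := fun x hx =>
    exists_eq_mul_of_mem_sup hN hx
  have hXG : ∀ (g : G), ∀ x ∈ X, g * x * g⁻¹ * x⁻¹ ∈ N := by
    intro g x hx
    obtain ⟨a₁, ha₁, n, hn, rfl⟩ := hXmem x hx
    obtain ⟨a', ha', b', hb', rfl⟩ := hAB g
    have hm := hcommN a₁ ha₁ b' hb'
    set m := b' * a₁ * b'⁻¹ * a₁⁻¹ with hmdef
    have h1 : a' * a₁ = a₁ * a' := cA a' ha' a₁ (hA₁A ha₁)
    have e1 : (a' * b') * a₁ * (a' * b')⁻¹ * a₁⁻¹ = a' * m * a'⁻¹ := by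
      calc (a' * b') * a₁ * (a' * b')⁻¹ * a₁⁻¹
          = a' * (b' * a₁ * b'⁻¹ * a₁⁻¹) * (a₁ * a'⁻¹ * a₁⁻¹) := by group
        _ = a' * m * (a'⁻¹ * (a' * a₁) * a'⁻¹ * a₁⁻¹) := by rw [hmdef]; group
        _ = a' * m * (a'⁻¹ * (a₁ * a') * a'⁻¹ * a₁⁻¹) := by rw [h1]
        _ = a' * m * a'⁻¹ := by group
    have e2 : (a' * b') * (a₁ * n) * (a' * b')⁻¹ * (a₁ * n)⁻¹
        = ((a' * b') * a₁ * (a' * b')⁻¹ * a₁⁻¹) *
          (a₁ * (((a' * b') * n * (a' * b')⁻¹) * n⁻¹) * a₁⁻¹) := by group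
    rw [e2, e1]
    exact N.mul_mem (hN.conj_mem m hm a')
      (hN.conj_mem _ (N.mul_mem (hN.conj_mem n hn _) (N.inv_mem hn)) a₁)
  have hXconj : ∀ (g : G), ∀ x ∈ X, g * x * g⁻¹ ∈ X := by
    intro g x hx
    have : g * x * g⁻¹ = (g * x * g⁻¹ * x⁻¹) * x := by group
    rw [this]
    exact X.mul_mem (Subgroup.mem_sup_right (hXG g x hx)) hx
  have hXn : X.Normal := ⟨fun x hx g => hXconj g x hx⟩
  -- X ≤ B N
  have hXB : ∀ x ∈ X, ∃ b₁ ∈ B, ∃ n ∈ N, x = b₁ * n := by
    intro x hx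
    have : x ∈ B ⊔ N := (sup_le hA₁BN le_sup_right) hx
    exact exists_eq_mul_of_mem_sup hN this
  -- the centralizer of X
  set C : Subgroup G := Subgroup.centralizer (X : Set G) with hC
  haveI hCn : C.Normal := by
    haveI := hXn
    exact Subgroup.normal_centralizer
  -- s ∈ C_G(N) ⟹ s ^ p ∈ C
  have hpowC : ∀ s : G, s ∈ Subgroup.centralizer (N : Set G) → s ^ p ∈ C := by
    intro s hs
    rw [hC, Subgroup.mem_centralizer_iff]
    intro x hx
    have hm := hXG s x hx
    set m := s * x * s⁻¹ * x⁻¹ with hmdef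
    have hsm : s * m = m * s := ((Subgroup.mem_centralizer_iff.mp hs) m hm).symm
    have key : ∀ j : ℕ, s ^ j * x * (s ^ j)⁻¹ = m ^ j * x := by
      intro j
      induction j with
      | zero => simp
      | succ j ih =>
        have hsmj : s * m ^ j = m ^ j * s := (Commute.pow_right (show Commute s m from hsm) j)
        calc s ^ (j + 1) * x * (s ^ (j + 1))⁻¹ = s * (s ^ j * x * (s ^ j)⁻¹) * s⁻¹ := by
              rw [pow_succ']; group
          _ = s * (m ^ j * x) * s⁻¹ := by rw [ih]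
          _ = (s * m ^ j) * (x * s⁻¹) := by group
          _ = (m ^ j * s) * (x * s⁻¹) := by rw [hsmj]
          _ = m ^ j * (s * x * s⁻¹ * x⁻¹) * x := by group
          _ = m ^ (j + 1) * x := by rw [← hmdef, pow_succ]
    have h := key p
    rw [hexp m hm, one_mul] at h
    calc x * s ^ p = (s ^ p * x * (s ^ p)⁻¹) * s ^ p := by rw [h]
      _ = s ^ p * x := by group
  -- p-elements of A and B lie in C
  have hApC : ∀ y ∈ A, ∀ j : ℕ, y ^ (p ^ j) = 1 → y ∈ C := by
    intro y hy j hyj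
    have hyN := hpel y j hyj
    rw [hC, Subgroup.mem_centralizer_iff]
    intro x hx
    obtain ⟨a₁, ha₁, n, hn, rfl⟩ := hXmem x hx
    have h1 : y * a₁ = a₁ * y := cA y hy a₁ (hA₁A ha₁)
    have h2 : y * n = n * y := by
      have := Subgroup.mem_centralizer_iff.mp (hyN hn) y (Set.mem_singleton y)
      exact this
    calc a₁ * n * y = a₁ * (n * y) := by group
      _ = a₁ * (y * n) := by rw [h2]
      _ = (a₁ * y) * n := by group
      _ = (y * a₁) * n := by rw [h1]
      _ = y * (a₁ * n) := by group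
  have hBpC : ∀ y ∈ B, ∀ j : ℕ, y ^ (p ^ j) = 1 → y ∈ C := by
    intro y hy j hyj
    have hyN := hpel y j hyj
    rw [hC, Subgroup.mem_centralizer_iff]
    intro x hx
    obtain ⟨b₁, hb₁, n, hn, rfl⟩ := hXB x hx
    have h1 : y * b₁ = b₁ * y := cB y hy b₁ hb₁
    have h2 : y * n = n * y := by
      have := Subgroup.mem_centralizer_iff.mp (hyN hn) y (Set.mem_singleton y)
      exact this
    calc b₁ * n * y = b₁ * (n * y) := by group
      _ = b₁ * (y * n) := by rw [h2]
      _ = (b₁ * y) * n := by group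
      _ = (y * b₁) * n := by rw [h1]
      _ = y * (b₁ * n) := by group
  -- quotient by C
  set f : G →* G ⧸ C := QuotientGroup.mk' C with hf
  have hfker : ∀ y : G, f y = 1 ↔ y ∈ C := fun y => by
    rw [hf, QuotientGroup.mk'_apply, QuotientGroup.eq_one_iff]
  have hcop : ∀ (D : Subgroup G), (∀ y ∈ D, ∀ j : ℕ, y ^ (p ^ j) = 1 → y ∈ C) →
      ¬ p ∣ Nat.card (D.map f) := by
    intro D hD hdvd
    obtain ⟨q, hq⟩ := exists_prime_orderOf_dvd_card' p hdvd
    obtain ⟨y, hy, hyq⟩ := Subgroup.mem_map.mp q.2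
    have hoq : orderOf (f y) = p := by
      rw [hyq, Subgroup.orderOf_coe, hq]
    have hy0 : orderOf y ≠ 0 := (orderOf_pos y).ne'
    obtain ⟨e, m, hm, hem⟩ := Nat.exists_eq_pow_mul_and_not_dvd hy0 p (Fact.out : p.Prime).ne_one
    have h1 : (y ^ m) ^ (p ^ e) = 1 := by
      rw [← pow_mul, mul_comm, ← hem, pow_orderOf_eq_one]
    have h2 : y ^ m ∈ C := hD (y ^ m) (D.pow_mem hy m) e h1
    have h3 : f y ^ m = 1 := by
      rw [← map_pow, hfker]; exact h2
    have h4 : orderOf (f y) ∣ m := orderOf_dvd_of_pow_eq_one h3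
    rw [hoq] at h4
    exact hm h4
  have hcopA := hcop A hApC
  have hcopB := hcop B hBpC
  have hcopQ : ¬ p ∣ Nat.card (G ⧸ C) := by
    have hidx : (A.map f).index ∣ Nat.card (B.map f) := by
      apply index_dvd_card_of_factorization
      intro q
      obtain ⟨g, rfl⟩ := QuotientGroup.mk'_surjective C q
      obtain ⟨b', hb', a', ha', rfl⟩ := hBA g
      exact ⟨f b', Subgroup.mem_map_of_mem f hb', f a', Subgroup.mem_map_of_mem f ha', map_mul f b' a'⟩
    intro hdvd
    rw [← Subgroup.card_mul_index (A.map f)] at hdvd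
    rcases (Nat.Prime.dvd_mul (Fact.out : p.Prime)).mp hdvd with h | h
    · exact hcopA h
    · exact hcopB (dvd_trans h hidx)
  -- C_G(N) ≤ C
  have hKC : ∀ s : G, s ∈ Subgroup.centralizer (N : Set G) → s ∈ C := by
    intro s hs
    have h1 : f s ^ p = 1 := by
      rw [← map_pow, hfker]; exact hpowC s hs
    have h2 : orderOf (f s) ∣ p := orderOf_dvd_of_pow_eq_one h1
    have h3 : orderOf (f s) ∣ Nat.card (G ⧸ C) := orderOf_dvd_natCard (f s)
    rcases (Nat.dvd_prime (Fact.out : p.Prime)).mp h2 with h | h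
    · rw [orderOf_eq_one_iff] at h
      exact (hfker s).mp h
    · rw [h] at h3
      exact absurd h3 hcopQ
  -- every element of A₁ is central
  have hA₁Z : ∀ x ∈ A₁, x = 1 := by
    intro x hx
    have hxc : x ∈ Subgroup.center G := by
      apply mem_center_of_comm A B hAB
      · intro a' ha'
        exact cA a' ha' x (hA₁A hx)
      · intro b' hb'
        have hm := hcommN x hx b' hb'
        set m := b' * x * b'⁻¹ * x⁻¹ with hmdef
        have hbx : b' * x * b'⁻¹ = m * x := by rw [hmdef]; group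
        set c : G := a * b' * a⁻¹ * b'⁻¹ with hcdef
        have hcV : c ∈ commutator G := by
          have : c = ⁅a, b'⁆ := by rw [commutatorElement_def]
          rw [this]
          exact Subgroup.commutator_mem_commutator (Subgroup.mem_top _) (Subgroup.mem_top _)
        have hcC : c ∈ C := hKC c (hVK hcV)
        have hxX : x ∈ X := Subgroup.mem_sup_left hx
        have hbxX : b' * x * b'⁻¹ ∈ X := hXconj b' x hxX
        have hcc : c * (b' * x * b'⁻¹) = (b' * x * b'⁻¹) * c := by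
          have := Subgroup.mem_centralizer_iff.mp hcC _ hbxX
          exact this.symm
        have hax : a * x = x * a := cA a ha x (hA₁A hx)
        have e1 : a * (b' * x * b'⁻¹) * a⁻¹ = (a * m * a⁻¹) * x := by
          rw [hbx]
          calc a * (m * x) * a⁻¹ = (a * m * a⁻¹) * ((a * x) * a⁻¹) := by group
            _ = (a * m * a⁻¹) * ((x * a) * a⁻¹) := by rw [hax]
            _ = (a * m * a⁻¹) * x := by group
        have e2 : a * (b' * x * b'⁻¹) * a⁻¹ = m * x := by
          have hab : a * b' = c * b' * a := by rw [hcdef]; group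
          calc a * (b' * x * b'⁻¹) * a⁻¹ = (a * b') * x * (a * b')⁻¹ := by group
            _ = (c * b' * a) * x * (c * b' * a)⁻¹ := by rw [hab]
            _ = c * (b' * ((a * x) * a⁻¹) * b'⁻¹) * c⁻¹ := by group
            _ = c * (b' * ((x * a) * a⁻¹) * b'⁻¹) * c⁻¹ := by rw [hax]
            _ = (c * (b' * x * b'⁻¹)) * c⁻¹ := by group
            _ = ((b' * x * b'⁻¹) * c) * c⁻¹ := by rw [hcc]
            _ = b' * x * b'⁻¹ := by group
            _ = m * x := hbx
        have e3 : a * m * a⁻¹ = m := by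
          have := e1.symm.trans e2
          exact mul_right_cancel this
        have hm1 : m ∈ N ⊓ Subgroup.centralizer {a} := by
          refine ⟨hm, ?_⟩
          show m ∈ Subgroup.centralizer {a}
          rw [Subgroup.mem_centralizer_iff]
          intro y hy
          rw [Set.mem_singleton_iff] at hy
          subst hy
          calc y * m = (y * m * y⁻¹) * y := by group
            _ = m * y := by rw [e3]
        rw [ha0, Subgroup.mem_bot] at hm1
        calc b' * x = (b' * x * b'⁻¹ * x⁻¹) * x * b' := by group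
          _ = x * b' := by rw [← hmdef, hm1, one_mul]
    rw [hZ, Subgroup.mem_bot] at hxc
    exact hxc
  have hA₁bot : A₁ = ⊥ := by
    rw [eq_bot_iff]
    intro x hx
    rw [Subgroup.mem_bot]
    exact hA₁Z x hx
  have : Nat.card N = 1 := by
    rw [← hcardA₁, hA₁bot]
    exact Subgroup.card_bot
  exact hN1 (Subgroup.card_eq_one.mp this)

end Cfsg.Agent.Helper31.Ito
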