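import Mathlib

set_option autoImplicit false

/-!
# Quadratic action of an element of order `p` (odd) normalizing an abelian `p'`-group

`x` acting quadratically on an abelian group `W` of exponent `p` (`p` odd), and normalizing an
abelian `p'`-group `R` of automorphisms of `W`: then `x` centralizes `R`.
-/

namespace Cfsg.Agent.Helper31.GT

open Finset

section Quad

variable {W : Type*} [CommGroup W]

lemma quad_fix (x : MulAut W) (hq : ∀ w, x (x w) * w = x w * x w) (w : W) :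
    x (x w * w⁻¹) = x w * w⁻¹ := by
  have h : x (x w) = x w * x w * w⁻¹ := eq_mul_inv_of_mul_eq (hq w)
  rw [map_mul, map_inv, h]
  calc x w * x w * w⁻¹ * (x w)⁻¹ = x w * w⁻¹ * (x w * (x w)⁻¹) := by
        simp only [mul_comm, mul_left_comm, mul_assoc]
    _ = x w * w⁻¹ := by rw [mul_inv_cancel, mul_one]

lemma quad_pow_apply (x : MulAut W) (hq : ∀ w, x (x w) * w = x w * x w) (w : W) (j : ℕ) :
    (x ^ j) w = w * (x w * w⁻¹) ^ j := by
  induction j with
  | zero => simp
  | succ j ih =>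
    rw [pow_succ', MulAut.mul_apply, ih, map_mul, map_pow, quad_fix x hq w, pow_succ]
    calc x w * (x w * w⁻¹) ^ j = w * (w⁻¹ * x w) * (x w * w⁻¹) ^ j := by
          rw [mul_inv_cancel_left]
      _ = w * ((x w * w⁻¹) ^ j * (x w * w⁻¹)) := by
          rw [mul_comm w⁻¹ (x w), mul_assoc, mul_comm ((x w * w⁻¹)) ((x w * w⁻¹) ^ j)]

variable {p : ℕ} [hp : Fact p.Prime]

lemma quad_pow_p (hexp : ∀ w : W, w ^ p = 1) (x : MulAut W)
    (hq : ∀ w, x (x w) * w = x w * x w) : x ^ p = 1 := by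
  ext w
  rw [quad_pow_apply x hq, hexp, mul_one, MulAut.one_apply]

lemma quad_trace (hp2 : p ≠ 2) (hexp : ∀ w : W, w ^ p = 1) (x : MulAut W)
    (hq : ∀ w, x (x w) * w = x w * x w) (w : W) :
    ∏ j ∈ range p, (x ^ j) w = 1 := by
  have h1 : ∀ j ∈ range p, (x ^ j) w = w * (x w * w⁻¹) ^ j := fun j _ => quad_pow_apply x hq w j
  rw [prod_congr rfl h1, prod_mul_distrib, prod_const, card_range, hexp, one_mul,
    prod_pow_eq_pow_sum]
  have hodd : Odd p := hp.out.odd_of_ne_two hp2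
  obtain ⟨k, hk⟩ := hodd
  have hsum : ∑ i ∈ range p, i = p * k := by
    have h2 := Finset.sum_range_id_mul_two p
    have h3 : p * (p - 1) = p * k * 2 := by
      rw [hk]; simp; ring
    omega
  rw [hsum, pow_mul, hexp, one_pow]

/-- The fixed-point-free case: an abelian `p'`-group `A` acting on `W`, normalized by a quadratic
`x` acting on `A` without fixed points, acts trivially. -/
theorem quad_fpf {A : Type*} [CommGroup A] [Finite A] (hp2 : p ≠ 2) (hexp : ∀ w : W, w ^ p = 1)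
    (x : MulAut W) (hq : ∀ w, x (x w) * w = x w * x w)
    (ρ : A →* MulAut W) (ξ : A →* A) (hξ : ∀ a, ρ (ξ a) = x * ρ a * x⁻¹)
    (hξp : ∀ a, ξ^[p] a = a) (hfix : ∀ a, ξ a = a → a = 1)
    (hcop : (Nat.card A).Coprime p) : ∀ a w, ρ a w = w := by
  classical
  haveI := Fintype.ofFinite A
  have hξj : ∀ (j : ℕ) (a : A), ρ (ξ^[j] a) = x ^ j * ρ a * (x ^ j)⁻¹ := by
    intro j
    induction j with
    | zero => intro a; simp
    | succ j ih =>
      intro a
      rw [Function.iterate_succ_apply', hξ, ih, pow_succ']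
      group
  have hconj : ∀ (j : ℕ) (a : A), ρ a * x ^ j * (ρ a)⁻¹ = ρ (a / ξ^[j] a) * x ^ j := by
    intro j a
    rw [map_div, hξj, div_eq_mul_inv]
    group
  have hinj : ∀ j, 0 < j → j < p → Function.Injective (fun a : A => a / ξ^[j] a) := by
    intro j hj0 hjp a b hab
    have hab' : a / ξ^[j] a = b / ξ^[j] b := hab
    have hc : ξ^[j] (a / b) = a / b := by
      rw [iterate_map_div]
      rw [div_eq_div_iff_mul_eq_mul] at hab' ⊢
      rw [mul_comm, ← hab', mul_comm]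
    have h1 : Function.IsPeriodicPt ξ j (a / b) := hc
    have h2 : Function.IsPeriodicPt ξ p (a / b) := hξp _
    have h3 := h1.gcd h2
    have hcop' : Nat.gcd j p = 1 := by
      rw [Nat.gcd_comm]
      exact (Nat.Prime.coprime_iff_not_dvd hp.out).mpr (Nat.not_dvd_of_pos_of_lt hj0 hjp)
    rw [hcop'] at h3
    have h4 : ξ (a / b) = a / b := h3
    have h5 := hfix _ h4
    exact div_eq_one.mp h5
  set ν : W → W := fun w => ∏ a : A, ρ a w with hν
  have hνinv : ∀ (b : A) (w : W), ρ b (ν w) = ν w := by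
    intro b w
    simp only [hν, map_prod]
    apply Fintype.prod_equiv (Equiv.mulLeft b)
    intro a
    simp [map_mul]
  have hinner : ∀ (a : A) (w : W),
      ∏ j ∈ range (p - 1), (ρ a * x ^ (j + 1) * (ρ a)⁻¹) w = w⁻¹ := by
    intro a w
    have h1 := quad_trace hp2 hexp x hq ((ρ a)⁻¹ w)
    have h2 := congrArg (ρ a) h1
    rw [map_prod, map_one] at h2
    have hp1 : p = (p - 1) + 1 := by
      have := hp.out.one_lt; omega
    rw [hp1, prod_range_succ'] at h2
    have h3 : (ρ a) ((x ^ 0) ((ρ a)⁻¹ w)) = w := by simp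
    rw [h3] at h2
    have h4 : ∀ j ∈ range (p - 1), (ρ a * x ^ (j + 1) * (ρ a)⁻¹) w =
        (ρ a) ((x ^ (j + 1)) ((ρ a)⁻¹ w)) := by
      intro j _; rfl
    rw [prod_congr rfl h4]
    exact eq_inv_of_mul_eq_one_left h2
  have houter : ∀ (j : ℕ), j < p - 1 → ∀ w : W,
      ∏ a : A, (ρ a * x ^ (j + 1) * (ρ a)⁻¹) w = ν ((x ^ (j + 1)) w) := by
    intro j hj w
    have hb : Function.Bijective (fun a : A => a / ξ^[j + 1] a) :=
      Finite.injective_iff_bijective.mp (hinj (j + 1) (by omega) (by omega))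
    have h1 : ∀ a : A, (ρ a * x ^ (j + 1) * (ρ a)⁻¹) w =
        ρ (a / ξ^[j + 1] a) ((x ^ (j + 1)) w) := by
      intro a
      rw [hconj]; rfl
    rw [Fintype.prod_congr _ _ h1]
    exact Fintype.prod_bijective _ hb _ _ (fun a => rfl)
  intro b w
  have hT : (w⁻¹) ^ Fintype.card A = ∏ j ∈ range (p - 1), ν ((x ^ (j + 1)) w) := by
    calc (w⁻¹) ^ Fintype.card A = ∏ _a : A, w⁻¹ := by
          rw [prod_const, card_univ]
      _ = ∏ a : A, ∏ j ∈ range (p - 1), (ρ a * x ^ (j + 1) * (ρ a)⁻¹) w := by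
          apply Fintype.prod_congr; intro a; rw [hinner]
      _ = ∏ j ∈ range (p - 1), ∏ a : A, (ρ a * x ^ (j + 1) * (ρ a)⁻¹) w := prod_comm
      _ = ∏ j ∈ range (p - 1), ν ((x ^ (j + 1)) w) := by
          apply prod_congr rfl
          intro j hj
          exact houter j (mem_range.mp hj) w
  have hfixT : ρ b ((w⁻¹) ^ Fintype.card A) = (w⁻¹) ^ Fintype.card A := by
    rw [hT, map_prod]
    apply prod_congr rfl
    intro j _
    exact hνinv b _
  rw [map_pow, map_inv] at hfixT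
  have hu : (ρ b w * w⁻¹) ^ Fintype.card A = 1 := by
    rw [mul_pow, inv_pow]
    rw [inv_pow, inv_pow] at hfixT
    rw [inv_inj] at hfixT
    rw [hfixT, mul_inv_cancel]
  have hu2 : (ρ b w * w⁻¹) ^ p = 1 := hexp _
  have h3 := pow_gcd_eq_one.mpr ⟨hu, hu2⟩
  rw [← Nat.card_eq_fintype_card, Nat.Coprime.gcd_eq_one hcop, pow_one] at h3
  exact mul_inv_eq_one.mp h3

/-- An abelian `p'`-group `A` acting faithfully on `W`, normalized by a quadratic `x`:
then `x` centralizes `A`. -/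
theorem quad_centralizes_hom {A : Type*} [CommGroup A] [Finite A] (hp2 : p ≠ 2)
    (hexp : ∀ w : W, w ^ p = 1)
    (x : MulAut W) (hq : ∀ w, x (x w) * w = x w * x w)
    (ρ : A →* MulAut W) (hρ : Function.Injective ρ) (ξ : A →* A)
    (hξ : ∀ a, ρ (ξ a) = x * ρ a * x⁻¹)
    (m : ℕ) (hm : m.Coprime p) (hAm : ∀ a : A, a ^ m = 1) : ∀ a, ξ a = a := by
  classical
  have hξj : ∀ (j : ℕ) (a : A), ρ (ξ^[j] a) = x ^ j * ρ a * (x ^ j)⁻¹ := by
    intro j
    induction j with
    | zero => intro a; simp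
    | succ j ih =>
      intro a
      rw [Function.iterate_succ_apply', hξ, ih, pow_succ']
      group
  have hxp : x ^ p = 1 := quad_pow_p hexp x hq
  have hξp : ∀ a, ξ^[p] a = a := by
    intro a
    apply hρ
    rw [hξj, hxp]
    simp
  set θ : A →* A := MonoidHom.id A / ξ with hθ
  have hθa : ∀ a, θ a = a / ξ a := fun a => rfl
  set A₁ : Subgroup A := θ.range with hA₁
  have hmem : ∀ b : ↥A₁, ξ (b : A) ∈ A₁ := by
    rintro ⟨_, a, rfl⟩
    refine ⟨ξ a, ?_⟩
    show θ (ξ a) = ξ (θ a)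
    rw [hθa, hθa, map_div]
  set ξ₁ : ↥A₁ →* ↥A₁ := (ξ.comp A₁.subtype).codRestrict A₁ hmem with hξ₁
  set ρ₁ : ↥A₁ →* MulAut W := ρ.comp A₁.subtype with hρ₁
  have hcoe : ∀ (j : ℕ) (b : ↥A₁), ((ξ₁^[j] b : ↥A₁) : A) = ξ^[j] (b : A) := by
    intro j
    induction j with
    | zero => intro b; rfl
    | succ j ih =>
      intro b
      rw [Function.iterate_succ_apply', Function.iterate_succ_apply', ← ih]
      rfl
  have h1 : ∀ b : ↥A₁, ρ₁ (ξ₁ b) = x * ρ₁ b * x⁻¹ := fun b => hξ (b : A)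
  have h2 : ∀ b : ↥A₁, ξ₁^[p] b = b := fun b => Subtype.ext (by rw [hcoe, hξp])
  have hpow1 : ∀ c : A, c ^ p = 1 → c = 1 := by
    intro c hc
    have h3 := pow_gcd_eq_one.mpr ⟨hAm c, hc⟩
    rwa [Nat.Coprime.gcd_eq_one hm, pow_one] at h3
  have h3 : ∀ b : ↥A₁, ξ₁ b = b → b = 1 := by
    rintro ⟨b, a, rfl⟩ hb
    have hb' : ξ (θ a) = θ a := congrArg Subtype.val hb
    apply Subtype.ext
    show θ a = 1
    apply hpow1
    have hiter : ∀ j : ℕ, ξ^[j] (θ a) = θ a := by
      intro j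
      induction j with
      | zero => rfl
      | succ j ih => rw [Function.iterate_succ_apply', ih, hb']
    have hN1 : ∏ j ∈ range p, ξ^[j] (θ a) = (θ a) ^ p := by
      rw [prod_congr rfl (fun j _ => hiter j), prod_const, card_range]
    have hN2 : ∏ j ∈ range p, ξ^[j] (θ a) = 1 := by
      have h4 : ∀ j ∈ range p, ξ^[j] (θ a) = ξ^[j] a / ξ^[j + 1] a := by
        intro j _
        rw [hθa, iterate_map_div, Function.iterate_succ_apply]
      rw [prod_congr rfl h4, prod_range_div' (fun j => ξ^[j] a) p, hξp]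
      simp
    rw [← hN1, hN2]
  have hcop : (Nat.card ↥A₁).Coprime p := by
    rw [Nat.coprime_comm, Nat.Prime.coprime_iff_not_dvd hp.out]
    intro hdvd
    obtain ⟨b, hb⟩ := exists_prime_orderOf_dvd_card' p hdvd
    have h4 : (b : A) ^ m = 1 := hAm _
    have h5 : b ^ m = 1 := Subtype.ext (by simpa using h4)
    have h6 := orderOf_dvd_of_pow_eq_one h5
    rw [hb] at h6
    have := Nat.Coprime.eq_one_of_dvd hm.symm h6
    exact hp.out.one_lt.ne' this
  have h4 := quad_fpf hp2 hexp x hq ρ₁ ξ₁ h1 h2 h3 hcop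
  intro a
  have h5 : ρ (θ a) = 1 := by
    ext w
    exact h4 ⟨θ a, a, rfl⟩ w
  have h6 : θ a = 1 := by
    apply hρ
    rw [h5, map_one]
  rw [hθa, div_eq_one] at h6
  exact h6.symm

/-- Subgroup form. -/
theorem quad_centralizes (hp2 : p ≠ 2) (hexp : ∀ w : W, w ^ p = 1)
    (x : MulAut W) (hq : ∀ w, x (x w) * w = x w * x w)
    (R : Subgroup (MulAut W)) [Finite R] (hRc : ∀ r ∈ R, ∀ s ∈ R, r * s = s * r)
    (m : ℕ) (hm : m.Coprime p) (hRm : ∀ r ∈ R, r ^ m = 1)
    (hx : ∀ r ∈ R, x * r * x⁻¹ ∈ R) : ∀ r ∈ R, x * r * x⁻¹ = r := by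
  letI : CommGroup ↥R :=
    { (inferInstance : Group ↥R) with
      mul_comm := fun a b => Subtype.ext (hRc a a.2 b b.2) }
  let ξ : ↥R →* ↥R :=
    { toFun := fun r => ⟨x * r * x⁻¹, hx r r.2⟩
      map_one' := by apply Subtype.ext; simp
      map_mul' := by intro a b; apply Subtype.ext; simp }
  have h := quad_centralizes_hom hp2 hexp x hq R.subtype R.subtype_injective ξ (fun a => rfl) m hm
    (fun a => Subtype.ext (by simpa using hRm a a.2))
  intro r hr
  exact congrArg Subtype.val (h ⟨r, hr⟩)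

end Quad

end Cfsg.Agent.Helper31.GT
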