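import Mathlib
import Cfsg.Agent.Lib.Helper31.QuadAct
import Cfsg.Agent.Lib.Helper31.ItoFactor
import Cfsg.Agent.Lib.Helper11.ZJ9
import Cfsg.Agent.Lib.Helper2.Nilpotent

set_option autoImplicit false
set_option linter.style.haveILetI false

/-!
# `p`-stability in the minimal configuration of the Glauberman–Thompson theorem

`G = K P`, `K ⊴ G`, `O_p(G) ≤ K`, `K / O_p(G)` an abelian `p'`-group, `p` odd: then every element of
`P` acting quadratically on a normal `p`-subgroup `V` lies in the preimage of `O_p(G / C_G(V))`.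
-/

namespace Cfsg.Agent.Helper31.GT

open Cfsg Cfsg.Agent.Helper11.ZJ
open scoped commutatorElement

variable {G : Type*} [Group G]

instance secNormal (V' V'' : Subgroup G) [hV' : V'.Normal] [V''.Normal] :
    (V'.map (QuotientGroup.mk' V'')).Normal :=
  hV'.map _ (QuotientGroup.mk'_surjective _)

/-- The action of `G` on the section `V' V'' / V''`. -/
noncomputable def secAct (V' V'' : Subgroup G) [V'.Normal] [V''.Normal] :
    G →* MulAut ↥(V'.map (QuotientGroup.mk' V'')) :=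
  (MulAut.conjNormal (H := V'.map (QuotientGroup.mk' V''))).comp (QuotientGroup.mk' V'')

lemma secAct_apply_coe (V' V'' : Subgroup G) [V'.Normal] [V''.Normal] (g : G)
    (u : ↥(V'.map (QuotientGroup.mk' V''))) :
    ((secAct V' V'' g u : ↥(V'.map (QuotientGroup.mk' V''))) : G ⧸ V'') =
      (QuotientGroup.mk' V'' g) * (u : G ⧸ V'') * (QuotientGroup.mk' V'' g)⁻¹ := rfl

lemma mem_ker_secAct (V' V'' : Subgroup G) [V'.Normal] [V''.Normal] (g : G) :
    g ∈ (secAct V' V'').ker ↔ ∀ v ∈ V', g * v * g⁻¹ * v⁻¹ ∈ V'' := by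
  rw [MonoidHom.mem_ker]
  constructor
  · intro h v hv
    have h1 := congrArg (fun f => ((f ⟨QuotientGroup.mk' V'' v, Subgroup.mem_map_of_mem _ hv⟩ :
      ↥(V'.map (QuotientGroup.mk' V''))) : G ⧸ V'')) h
    simp only [secAct_apply_coe, MulAut.one_apply] at h1
    rw [← (QuotientGroup.eq_one_iff (N := V'') _)]
    have h2 : ((g * v * g⁻¹ * v⁻¹ : G) : G ⧸ V'') =
        (QuotientGroup.mk' V'' g) * (QuotientGroup.mk' V'' v) * (QuotientGroup.mk' V'' g)⁻¹ *
          (QuotientGroup.mk' V'' v)⁻¹ := by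
      simp
    rw [h2, h1, mul_inv_cancel]
  · intro h
    ext ⟨u, v, hv, rfl⟩
    rw [secAct_apply_coe, MulAut.one_apply]
    have h1 := (QuotientGroup.eq_one_iff (N := V'') _).mpr (h v hv)
    have h2 : ((g * v * g⁻¹ * v⁻¹ : G) : G ⧸ V'') =
        (QuotientGroup.mk' V'' g) * (QuotientGroup.mk' V'' v) * (QuotientGroup.mk' V'' g)⁻¹ *
          (QuotientGroup.mk' V'' v)⁻¹ := by
      simp
    rw [h2] at h1
    exact mul_inv_eq_one.mp h1

/-- Properties of a chief factor `V' / V''` below a normal `p`-subgroup `H`: it is centralized by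
`H` and has exponent `p`. -/
theorem chief_props [Finite G] {p : ℕ} [Fact p.Prime] (H V' V'' : Subgroup G) [hH : H.Normal]
    [hV' : V'.Normal] [hV'' : V''.Normal] (hHp : IsPGroup p H) (h1 : V'' < V') (h2 : V' ≤ H)
    (hchief : ∀ X : Subgroup G, X.Normal → V'' ≤ X → X ≤ V' → X = V'' ∨ X = V') :
    (∀ h ∈ H, ∀ v ∈ V', h * v * h⁻¹ * v⁻¹ ∈ V'') ∧ (∀ v ∈ V', v ^ p ∈ V'') := by
  set mk := QuotientGroup.mk' V'' with hmk
  have hsurj : Function.Surjective mk := QuotientGroup.mk'_surjective _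
  set U := V'.map mk with hU
  set Hb := H.map mk with hHb
  have hUn : U.Normal := hV'.map _ hsurj
  have hHbn : Hb.Normal := hH.map _ hsurj
  have hHbp : IsPGroup p Hb := hHp.map _
  have hUH : U ≤ Hb := Subgroup.map_mono h2
  obtain ⟨v₀, hv₀, hv₀'⟩ := SetLike.exists_of_lt h1
  have hmk1 : ∀ g : G, mk g = 1 ↔ g ∈ V'' := fun g => QuotientGroup.eq_one_iff g
  have hv₀ne : mk v₀ ≠ 1 := fun h => hv₀' ((hmk1 v₀).mp h)
  have hUne : U ≠ ⊥ := by
    intro h
    have : mk v₀ ∈ U := Subgroup.mem_map_of_mem _ hv₀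
    rw [h, Subgroup.mem_bot] at this
    exact hv₀ne this
  have hmin : ∀ M : Subgroup (G ⧸ V''), M.Normal → M ≠ ⊥ → M ≤ U → M = U := by
    intro M hMn hM1 hMU
    have hXn : (M.comap mk).Normal := hMn.comap _
    have hX1 : V'' ≤ M.comap mk := by
      intro x hx
      rw [Subgroup.mem_comap, (hmk1 x).mpr hx]
      exact M.one_mem
    have hX2 : M.comap mk ≤ V' := by
      intro x hx
      obtain ⟨v, hv, hvx⟩ := hMU (Subgroup.mem_comap.mp hx)
      have h3 : mk (v⁻¹ * x) = 1 := by rw [map_mul, map_inv, hvx, inv_mul_cancel]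
      have h4 : v⁻¹ * x ∈ V' := (le_of_lt h1) ((hmk1 _).mp h3)
      have h5 : x = v * (v⁻¹ * x) := by group
      rw [h5]; exact V'.mul_mem hv h4
    have hMeq : M = (M.comap mk).map mk := (Subgroup.map_comap_eq_self_of_surjective hsurj M).symm
    rcases hchief _ hXn hX1 hX2 with h | h
    · exfalso
      apply hM1
      rw [hMeq, h, eq_bot_iff]
      rintro _ ⟨x, hx, rfl⟩
      rw [Subgroup.mem_bot]
      exact (hmk1 x).mpr hx
    · rw [hMeq, h]
  -- `U` is central in `Hb`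
  have hcent : U ≤ Subgroup.centralizer (Hb : Set (G ⧸ V'')) := by
    haveI : Group.IsNilpotent ↥Hb := hHbp.isNilpotent
    haveI : (U.subgroupOf Hb).Normal := hUn.subgroupOf Hb
    have hY : U.subgroupOf Hb ≠ ⊥ := by
      intro h
      rw [Subgroup.subgroupOf_eq_bot, disjoint_iff, inf_eq_left.mpr hUH] at h
      exact hUne h
    have h3 := Helper2.normal_inf_center_ne_bot (U.subgroupOf Hb) hY
    obtain ⟨z, hz1⟩ := (Subgroup.ne_bot_iff_exists_ne_one).mp h3
    have hz21 := (Subgroup.mem_inf.mp z.2).1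
    have hz22 := (Subgroup.mem_inf.mp z.2).2
    have hzU : ((z : ↥Hb) : G ⧸ V'') ∈ U := Subgroup.mem_subgroupOf.mp hz21
    have hzc : ((z : ↥Hb) : G ⧸ V'') ∈ Subgroup.centralizer (Hb : Set (G ⧸ V'')) := by
      rw [Subgroup.mem_centralizer_iff]
      intro y hy
      have := (Subgroup.mem_center_iff.mp hz22) ⟨y, hy⟩
      exact congrArg Subtype.val this
    haveI := hUn
    haveI := hHbn
    have hMn : (U ⊓ Subgroup.centralizer (Hb : Set (G ⧸ V''))).Normal := inferInstance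
    have hM1 : U ⊓ Subgroup.centralizer (Hb : Set (G ⧸ V'')) ≠ ⊥ := by
      intro h
      have : ((z : ↥Hb) : G ⧸ V'') ∈ U ⊓ Subgroup.centralizer (Hb : Set (G ⧸ V'')) := ⟨hzU, hzc⟩
      rw [h, Subgroup.mem_bot] at this
      apply hz1
      apply Subtype.ext
      apply Subtype.ext
      exact this
    have := hmin _ hMn hM1 inf_le_left
    rw [← this]
    exact inf_le_right
  have hcomm : ∀ x ∈ U, ∀ y ∈ U, x * y = y * x := by
    intro x hx y hy
    have := Subgroup.mem_centralizer_iff.mp (hcent hx) y (hUH hy)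
    exact this.symm
  refine ⟨?_, ?_⟩
  · intro h hh v hv
    rw [← hmk1]
    have h3 := Subgroup.mem_centralizer_iff.mp (hcent (Subgroup.mem_map_of_mem mk hv)) (mk h)
      (Subgroup.mem_map_of_mem mk hh)
    rw [map_mul, map_mul, map_mul, map_inv, map_inv, h3]
    group
  · obtain ⟨q, hq, hqexp⟩ := Ito.exists_prime_exponent U hUn hUne hcomm hmin
    have hqp : q = p := by
      have h3 : (mk v₀) ^ q = 1 := hqexp _ (Subgroup.mem_map_of_mem _ hv₀)
      have h4 : orderOf (mk v₀) = q := by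
        rcases (Nat.dvd_prime hq).mp (orderOf_dvd_of_pow_eq_one h3) with h | h
        · exact absurd (orderOf_eq_one_iff.mp h) hv₀ne
        · exact h
      obtain ⟨k, hk⟩ := hHbp ⟨mk v₀, Subgroup.mem_map_of_mem _ (h2 hv₀)⟩
      have h5 : (mk v₀) ^ p ^ k = 1 := by
        have := congrArg Subtype.val hk
        simpa using this
      have h6 := orderOf_dvd_of_pow_eq_one h5
      rw [h4] at h6
      exact (Nat.prime_dvd_prime_iff_eq hq Fact.out).mp (hq.dvd_of_dvd_pow h6)
    intro v hv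
    rw [← hmk1, map_pow, ← hqp]
    exact hqexp _ (Subgroup.mem_map_of_mem _ hv)

/-- The configuration: `G = K P`, `O_p(G) ≤ K ⊴ G`, `K / O_p(G)` abelian of exponent dividing `m`,
`m` prime to `p`. -/
structure Config (p : ℕ) (P : Sylow p G) (K : Subgroup G) (m : ℕ) : Prop where
  Kn : K.Normal
  HK : pCore p G ≤ K
  comm : ∀ k ∈ K, ∀ k' ∈ K, k * k' * k⁻¹ * k'⁻¹ ∈ pCore p G
  cop : m.Coprime p
  pow : ∀ k ∈ K, k ^ m ∈ pCore p G
  gen : K ⊔ (P : Subgroup G) = ⊤

lemma comm_aux {M : Type*} [CommGroup M] (a b c : M) (h : a * b⁻¹ = c * a⁻¹) : b * c = a * a := by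
  rw [mul_inv_eq_iff_eq_mul, mul_right_comm, eq_mul_inv_iff_mul_eq] at h
  rw [h, mul_comm]

/-- In the configuration, commutators `[a, k]` (`k ∈ K`, `a` quadratic) centralize every chief
factor below a normal `p`-subgroup. -/
theorem comm_mem_ker_secAct [Finite G] {p : ℕ} [Fact p.Prime] (hp2 : p ≠ 2) {P : Sylow p G}
    {K : Subgroup G} {m : ℕ} (cfg : Config p P K m) (V' V'' : Subgroup G) [hV' : V'.Normal]
    [hV'' : V''.Normal] (hV'p : IsPGroup p V') (h1 : V'' < V')
    (hchief : ∀ X : Subgroup G, X.Normal → V'' ≤ X → X ≤ V' → X = V'' ∨ X = V')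
    (a : G) (ha : ∀ v ∈ V', ⁅⁅v, a⁆, a⁆ = 1) (k : G) (hk : k ∈ K) :
    a * k * a⁻¹ * k⁻¹ ∈ (secAct V' V'').ker := by
  haveI hHn : (pCore p G).Normal := pCore_normal' p G
  have hHp : IsPGroup p (pCore p G) := isPGroup_pCore'
  have hV'H : V' ≤ pCore p G := le_pCore' hV' hV'p
  obtain ⟨hc1, hc2⟩ := chief_props (pCore p G) V' V'' hHp h1 hV'H hchief
  set mk := QuotientGroup.mk' V'' with hmk
  have hmk1 : ∀ g : G, mk g = 1 ↔ g ∈ V'' := fun g => QuotientGroup.eq_one_iff g
  set φ := secAct V' V'' with hφ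
  have hHker : ∀ h ∈ pCore p G, φ h = 1 := fun h hh =>
    MonoidHom.mem_ker.mp ((mem_ker_secAct V' V'' h).mpr (hc1 h hh))
  have hUcomm : ∀ u u' : ↥(V'.map mk), u * u' = u' * u := by
    rintro ⟨_, v, hv, rfl⟩ ⟨_, v', hv', rfl⟩
    apply Subtype.ext
    show mk v * mk v' = mk v' * mk v
    have h3 := (hmk1 _).mpr (hc1 v (hV'H hv) v' hv')
    rw [map_mul, map_mul, map_mul, map_inv, map_inv] at h3
    calc mk v * mk v' = (mk v * mk v' * (mk v)⁻¹ * (mk v')⁻¹) * (mk v' * mk v) := by group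
      _ = mk v' * mk v := by rw [h3, one_mul]
  letI : CommGroup ↥(V'.map mk) :=
    { (inferInstance : Group ↥(V'.map mk)) with mul_comm := hUcomm }
  have hexp : ∀ w : ↥(V'.map mk), w ^ p = 1 := by
    rintro ⟨_, v, hv, rfl⟩
    apply Subtype.ext
    show (mk v) ^ p = 1
    rw [← map_pow]
    exact (hmk1 _).mpr (hc2 v hv)
  have hq : ∀ w : ↥(V'.map mk), φ a (φ a w) * w = φ a w * φ a w := by
    intro w
    apply comm_aux
    rw [← map_inv, ← map_mul]
    obtain ⟨v, hv, hvw⟩ := w.2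
    have hcomm := commutatorElement_eq_one_iff_mul_comm.mp (ha v hv)
    apply Subtype.ext
    rw [secAct_apply_coe]
    show mk a * ((w : G ⧸ V'') * ((φ a w : ↥(V'.map mk)) : G ⧸ V'')⁻¹) * (mk a)⁻¹ =
      (w : G ⧸ V'') * ((φ a w : ↥(V'.map mk)) : G ⧸ V'')⁻¹
    rw [secAct_apply_coe, ← hvw]
    have e1 : mk v * (mk a * mk v * (mk a)⁻¹)⁻¹ = mk ⁅v, a⁆ := by
      rw [commutatorElement_def]; simp [mul_assoc]
    rw [e1, ← map_inv, ← map_mul, ← map_mul]
    congr 1
    calc a * ⁅v, a⁆ * a⁻¹ = (⁅v, a⁆ * a) * a⁻¹ := by rw [hcomm]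
      _ = ⁅v, a⁆ := by group
  set R := K.map φ with hR
  haveI : Finite ↥R := inferInstance
  have hRc : ∀ r ∈ R, ∀ s ∈ R, r * s = s * r := by
    rintro _ ⟨k₁, hk₁, rfl⟩ _ ⟨k₂, hk₂, rfl⟩
    have h3 := hHker _ (cfg.comm k₁ hk₁ k₂ hk₂)
    rw [map_mul, map_mul, map_mul, map_inv, map_inv] at h3
    calc φ k₁ * φ k₂ = (φ k₁ * φ k₂ * (φ k₁)⁻¹ * (φ k₂)⁻¹) * (φ k₂ * φ k₁) := by group
      _ = φ k₂ * φ k₁ := by rw [h3, one_mul]
  have hRm : ∀ r ∈ R, r ^ m = 1 := by
    rintro _ ⟨k₁, hk₁, rfl⟩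
    rw [← map_pow]
    exact hHker _ (cfg.pow k₁ hk₁)
  have hx : ∀ r ∈ R, φ a * r * (φ a)⁻¹ ∈ R := by
    rintro _ ⟨k₁, hk₁, rfl⟩
    refine ⟨a * k₁ * a⁻¹, cfg.Kn.conj_mem k₁ hk₁ a, ?_⟩
    rw [map_mul, map_mul, map_inv]
  have h4 := quad_centralizes hp2 hexp (φ a) hq R hRc m cfg.cop hRm hx (φ k)
    (Subgroup.mem_map_of_mem _ hk)
  rw [MonoidHom.mem_ker, map_mul, map_mul, map_mul, map_inv, map_inv, h4, mul_inv_cancel]

/-- Stability: an element centralizing `V''` and `V' / V''` has a power (to `|V''|`) centralizing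
`V'`. -/
lemma pow_card_mem_centralizer [Finite G] (V' V'' : Subgroup G) [V'.Normal] [V''.Normal] (s : G)
    (hs1 : s ∈ Subgroup.centralizer (V'' : Set G)) (hs2 : s ∈ (secAct V' V'').ker) :
    s ^ Nat.card V'' ∈ Subgroup.centralizer (V' : Set G) := by
  rw [mem_ker_secAct] at hs2
  rw [Subgroup.mem_centralizer_iff]
  intro v hv
  set z := s * v * s⁻¹ * v⁻¹ with hz
  have hzV : z ∈ V'' := hs2 v hv
  have hzs : Commute s z := ((Subgroup.mem_centralizer_iff.mp hs1) z hzV).symm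
  have hsv : s * v * s⁻¹ = z * v := by rw [hz]; group
  have hn : ∀ n : ℕ, s ^ n * v * (s ^ n)⁻¹ = z ^ n * v := by
    intro n
    induction n with
    | zero => simp
    | succ n ih =>
      calc s ^ (n + 1) * v * (s ^ (n + 1))⁻¹ = s * (s ^ n * v * (s ^ n)⁻¹) * s⁻¹ := by
            rw [pow_succ']; group
        _ = s * (z ^ n * v) * s⁻¹ := by rw [ih]
        _ = (s * z ^ n) * s⁻¹ * (s * v * s⁻¹) := by group
        _ = (z ^ n * s) * s⁻¹ * (z * v) := by rw [(hzs.pow_right n).eq, hsv]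
        _ = z ^ (n + 1) * v := by rw [pow_succ]; group
  have hz1 : z ^ Nat.card V'' = 1 := by
    have h1 : (⟨z, hzV⟩ : ↥V'') ^ Nat.card ↥V'' = 1 := pow_card_eq_one'
    have h2 := congrArg Subtype.val h1
    rw [Subgroup.coe_pow] at h2
    exact h2
  have h3 := hn (Nat.card V'')
  rw [hz1, one_mul] at h3
  calc v * s ^ Nat.card V'' = (s ^ Nat.card V'' * v * (s ^ Nat.card V'')⁻¹) * s ^ Nat.card V'' := by
        rw [h3]
    _ = s ^ Nat.card V'' * v := by group

/-- A subgroup centralizing all chief factors below the normal `p`-subgroup `V` consists of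
elements of `p`-power order modulo `C_G(V)`. -/
theorem exists_pow_mem_centralizer [Finite G] {p : ℕ} [Fact p.Prime] (V : Subgroup G)
    (hVp : IsPGroup p V) (D : Subgroup G)
    (hD : ∀ (V' V'' : Subgroup G) [V'.Normal] [V''.Normal], V'' < V' → V' ≤ V →
      (∀ X : Subgroup G, X.Normal → V'' ≤ X → X ≤ V' → X = V'' ∨ X = V') →
      D ≤ (secAct V' V'').ker) :
    ∀ (n : ℕ) (V' : Subgroup G), V'.Normal → V' ≤ V → Nat.card V' = n →
      ∀ d ∈ D, ∃ j : ℕ, d ^ p ^ j ∈ Subgroup.centralizer (V' : Set G) := by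
  intro n
  induction n using Nat.strong_induction_on with
  | _ n ih =>
    intro V' hV'n hV'V hcard d hd
    by_cases hbot : V' = ⊥
    · refine ⟨0, ?_⟩
      rw [hbot, Subgroup.mem_centralizer_iff]
      intro h hh
      have : h = 1 := Subgroup.mem_bot.mp hh
      rw [this]; simp
    · obtain ⟨V'', hV''S, hmax⟩ := Set.exists_max_image {X : Subgroup G | X.Normal ∧ X < V'}
        (fun X => Nat.card X) (Set.toFinite _) ⟨⊥, inferInstance, bot_lt_iff_ne_bot.mpr hbot⟩
      obtain ⟨hV''n, hlt⟩ := hV''S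
      haveI := hV'n
      haveI := hV''n
      have hchief : ∀ X : Subgroup G, X.Normal → V'' ≤ X → X ≤ V' → X = V'' ∨ X = V' := by
        intro X hXn h1 h2
        by_cases hX : X = V'
        · exact Or.inr hX
        · left
          have h3 : X < V' := lt_of_le_of_ne h2 hX
          exact (Subgroup.eq_of_le_of_card_ge h1 (hmax X ⟨hXn, h3⟩)).symm
      have hcard'' : Nat.card V'' < n := by
        rw [← hcard]; exact card_lt_of_lt' hlt
      obtain ⟨j, hj⟩ := ih _ hcard'' V'' hV''n ((le_of_lt hlt).trans hV'V) rfl d hd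
      have hsD : d ^ p ^ j ∈ D := D.pow_mem hd _
      have hsker := hD V' V'' hlt hV'V hchief hsD
      have h4 := pow_card_mem_centralizer V' V'' _ hj hsker
      obtain ⟨e, he⟩ := IsPGroup.iff_card.mp (hVp.to_le ((le_of_lt hlt).trans hV'V))
      refine ⟨j + e, ?_⟩
      rw [pow_add, pow_mul, ← he]
      exact h4

lemma le_normalizer_of_conj_mem (S B : Subgroup G) (h : ∀ g ∈ S, ∀ b ∈ B, g * b * g⁻¹ ∈ B) :
    S ≤ Subgroup.normalizer (B : Set G) := by
  intro g hg
  rw [Subgroup.mem_normalizer_iff]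
  intro b
  constructor
  · exact h g hg b
  · intro hb
    have := h g⁻¹ (S.inv_mem hg) _ hb
    simpa [mul_assoc] using this

/-- `p`-stability in the configuration. -/
theorem mem_stabL_of_quadratic [Finite G] {p : ℕ} [Fact p.Prime] (hp2 : p ≠ 2) {P : Sylow p G}
    {K : Subgroup G} {m : ℕ} (cfg : Config p P K m) (V : Subgroup G) [hV : V.Normal]
    (hVp : IsPGroup p V) (a : G) (haP : a ∈ (P : Subgroup G)) (ha : ∀ v ∈ V, ⁅⁅v, a⁆, a⁆ = 1) :
    a ∈ stabL p V := by
  haveI := cfg.Kn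
  set L := stabL p V with hL
  haveI hLn : L.Normal := stabL_normal p V
  set D := Subgroup.normalClosure {g : G | ∃ k ∈ K, g = a * k * a⁻¹ * k⁻¹} with hD
  have hDker : ∀ (V' V'' : Subgroup G) [V'.Normal] [V''.Normal], V'' < V' → V' ≤ V →
      (∀ X : Subgroup G, X.Normal → V'' ≤ X → X ≤ V' → X = V'' ∨ X = V') →
      D ≤ (secAct V' V'').ker := by
    intro V' V'' _ _ hlt hV'V hchief
    apply Subgroup.normalClosure_le_normal
    rintro g ⟨k, hk, rfl⟩
    exact comm_mem_ker_secAct hp2 cfg V' V'' (hVp.to_le hV'V) hlt hchief a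
      (fun v hv => ha v (hV'V hv)) k hk
  have hDpow := exists_pow_mem_centralizer V hVp D hDker (Nat.card V) V hV le_rfl rfl
  have hDL : D ≤ L := le_stabL_of_normal_pow V D Subgroup.normalClosure_normal hDpow
  have hcommL : ∀ k ∈ K, a * k * a⁻¹ * k⁻¹ ∈ L := fun k hk =>
    hDL (Subgroup.subset_normalClosure ⟨k, hk, rfl⟩)
  set mkL := QuotientGroup.mk' L with hmkL
  have hmkL1 : ∀ g : G, mkL g = 1 ↔ g ∈ L := fun g => QuotientGroup.eq_one_iff g
  haveI hKLn : (K.map mkL).Normal := cfg.Kn.map _ (QuotientGroup.mk'_surjective _)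
  set E := (Subgroup.centralizer ((K.map mkL : Subgroup (G ⧸ L)) : Set (G ⧸ L))).comap mkL with hE
  haveI hEn : E.Normal := by rw [hE]; infer_instance
  have hEmem : ∀ g : G, g ∈ E ↔ ∀ k ∈ K, g * k * g⁻¹ * k⁻¹ ∈ L := by
    intro g
    rw [hE, Subgroup.mem_comap, Subgroup.mem_centralizer_iff]
    constructor
    · intro h k hk
      have h1 := h (mkL k) (Subgroup.mem_map_of_mem _ hk)
      rw [← hmkL1, map_mul, map_mul, map_mul, map_inv, map_inv, ← h1]
      group
    · rintro h _ ⟨k, hk, rfl⟩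
      have h1 := (hmkL1 _).mpr (h k hk)
      rw [map_mul, map_mul, map_mul, map_inv, map_inv] at h1
      calc mkL k * mkL g = (mkL g * mkL k * (mkL g)⁻¹ * (mkL k)⁻¹)⁻¹ * (mkL g * mkL k) := by group
        _ = mkL g * mkL k := by rw [h1, inv_one, one_mul]
  have haE : a ∈ E := (hEmem a).mpr hcommL
  set B := L ⊔ (E ⊓ (P : Subgroup G)) with hB
  have hBn : B.Normal := by
    rw [← Subgroup.normalizer_eq_top_iff, eq_top_iff, ← cfg.gen]
    apply sup_le
    · apply le_normalizer_of_conj_mem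
      intro g hg
      have : B ≤ B.comap (MulAut.conj g).toMonoidHom := by
        apply sup_le
        · intro b hb
          rw [Subgroup.mem_comap]
          exact Subgroup.mem_sup_left (hLn.conj_mem b hb g)
        · intro b hb
          rw [Subgroup.mem_comap]
          have h1 := (hEmem b).mp hb.1 g hg
          have h2 : g * b * g⁻¹ = (b * g * b⁻¹ * g⁻¹)⁻¹ * b := by group
          show g * b * g⁻¹ ∈ B
          rw [h2]
          exact B.mul_mem (Subgroup.mem_sup_left (L.inv_mem h1)) (Subgroup.mem_sup_right hb)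
      intro b hb
      exact this hb
    · apply le_normalizer_of_conj_mem
      intro g hg
      have : B ≤ B.comap (MulAut.conj g).toMonoidHom := by
        apply sup_le
        · intro b hb
          rw [Subgroup.mem_comap]
          exact Subgroup.mem_sup_left (hLn.conj_mem b hb g)
        · intro b hb
          rw [Subgroup.mem_comap]
          exact Subgroup.mem_sup_right ⟨hEn.conj_mem b hb.1 g,
            (P : Subgroup G).mul_mem ((P : Subgroup G).mul_mem hg hb.2)
              ((P : Subgroup G).inv_mem hg)⟩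
      intro b hb
      exact this hb
  have hBpow : ∀ b ∈ B, ∃ j : ℕ, b ^ p ^ j ∈ Subgroup.centralizer (V : Set G) := by
    intro b hb
    have h1 : mkL b ∈ B.map mkL := Subgroup.mem_map_of_mem _ hb
    rw [hB, Subgroup.map_sup, QuotientGroup.map_mk'_self, bot_sup_eq] at h1
    have hT : IsPGroup p ((E ⊓ (P : Subgroup G)).map mkL) :=
      (P.isPGroup'.to_le inf_le_right).map mkL
    obtain ⟨i, hi⟩ := hT ⟨mkL b, h1⟩
    have h2 : (mkL b) ^ p ^ i = 1 := by
      have := congrArg Subtype.val hi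
      rw [Subgroup.coe_pow] at this
      exact this
    rw [← map_pow, hmkL1] at h2
    obtain ⟨j, hj⟩ := stabL_pow V h2
    refine ⟨i + j, ?_⟩
    rw [pow_add, pow_mul]
    exact hj
  have hBL : B ≤ L := le_stabL_of_normal_pow V B hBn hBpow
  exact hBL (Subgroup.mem_sup_right ⟨haE, haP⟩)

theorem hst_of_config [Finite G] {p : ℕ} [Fact p.Prime] (hp2 : p ≠ 2) {P : Sylow p G}
    {K : Subgroup G} {m : ℕ} (cfg : Config p P K m) :
    ∀ (V : Subgroup G) [V.Normal], IsPGroup p V → ∀ A : Subgroup G, A ≤ (P : Subgroup G) →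
      ⁅⁅V, A⁆, A⁆ = ⊥ → A ≤ stabL p V := by
  intro V hV hVp A hAP hq a haA
  apply mem_stabL_of_quadratic hp2 cfg V hVp a (hAP haA)
  intro v hv
  have h1 : ⁅⁅v, a⁆, a⁆ ∈ ⁅⁅V, A⁆, A⁆ :=
    Subgroup.commutator_mem_commutator (Subgroup.commutator_mem_commutator hv haA) haA
  rw [hq] at h1
  exact Subgroup.mem_bot.mp h1

/-- In the configuration with `C_G(O_p(G)) ≤ O_p(G)`, `Z(J(P))` is normal in `G`. -/
theorem ZJ_normal_of_config [Finite G] {p : ℕ} [Fact p.Prime] (hp2 : p ≠ 2) {P : Sylow p G}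
    {K : Subgroup G} {m : ℕ} (cfg : Config p P K m)
    (hc : Subgroup.centralizer (pCore p G : Set G) ≤ pCore p G) :
    (ZJ (P : Subgroup G)).Normal := by
  haveI := W_characteristic' goodAx_comm hp2 hc P (hst_of_config hp2 cfg)
  infer_instance

end Cfsg.Agent.Helper31.GT
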