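import Mathlib
import Cfsg.Agent.Lib.Helper31.GTPNil
import Cfsg.Agent.Lib.Helper31.GTStable
import Cfsg.Agent.Lib.Helper76.PSolvable
import Cfsg.Agent.Lib.Helper54.Solv
import Cfsg.Agent.Lib.Helper64.Basic
import Cfsg.Agent.Lib.Helper2.CyclicSylow

set_option autoImplicit false
set_option linter.style.haveILetI false

/-!
# The Glauberman–Thompson normal `p`-complement theorem (abelian-version `Z(J(P))`)
-/

namespace Cfsg.Agent.Helper31.GT

open Cfsg Cfsg.Agent.Helper2 Cfsg.Agent.Helper11.ZJ
open scoped Pointwise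

universe u

variable {G : Type*} [Group G]

/-- If `G = M K` with `K` normal and `H ≤ M ⊓ K`, then `|G : M|` divides `|K : H|`. -/
lemma index_dvd_relIndex_of_sup_eq_top [Finite G] (M K H : Subgroup G) [hK : K.Normal]
    (h : M ⊔ K = ⊤) (hHM : H ≤ M) : M.index ∣ H.relIndex K := by
  have horb : MulAction.orbit K ((1 : G) : G ⧸ M) = Set.univ := by
    ext q
    simp only [Set.mem_univ, iff_true]
    obtain ⟨g, rfl⟩ := QuotientGroup.mk_surjective q
    have hg : g ∈ M ⊔ K := by rw [h]; trivial
    rw [sup_comm] at hg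
    obtain ⟨k, hk, x, hx, rfl⟩ := Subgroup.mem_sup_of_normal_left.mp hg
    refine ⟨⟨k, hk⟩, ?_⟩
    show ((k * 1 : G) : G ⧸ M) = ((k * x : G) : G ⧸ M)
    rw [QuotientGroup.eq]
    simpa using hx
  have h1 := MulAction.index_stabilizer (G := K) (x := ((1 : G) : G ⧸ M))
  rw [horb, Set.ncard_univ] at h1
  have h2 : H.subgroupOf K ≤ MulAction.stabilizer K ((1 : G) : G ⧸ M) := by
    intro k hk
    rw [MulAction.mem_stabilizer_iff]
    show (((k : G) * 1 : G) : G ⧸ M) = ((1 : G) : G ⧸ M)
    rw [QuotientGroup.eq]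
    have : (k : G) ∈ M := hHM (Subgroup.mem_subgroupOf.mp hk)
    simpa using M.inv_mem this
  have h3 := Subgroup.index_dvd_of_le h2
  rw [h1, ← Subgroup.index_eq_card] at h3
  exact h3

lemma le_normalizer_sup (S A B : Subgroup G) (hA : S ≤ Subgroup.normalizer (A : Set G))
    (hB : S ≤ Subgroup.normalizer (B : Set G)) : S ≤ Subgroup.normalizer ((A ⊔ B : Subgroup G) : Set G) := by
  apply le_normalizer_of_conj_mem
  intro g hg
  have : A ⊔ B ≤ (A ⊔ B).comap (MulAut.conj g).toMonoidHom := by
    apply sup_le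
    · intro a ha
      rw [Subgroup.mem_comap]
      exact Subgroup.mem_sup_left ((Subgroup.mem_normalizer_iff.mp (hA hg) a).mp ha)
    · intro b hb
      rw [Subgroup.mem_comap]
      exact Subgroup.mem_sup_right ((Subgroup.mem_normalizer_iff.mp (hB hg) b).mp hb)
  intro b hb
  exact this hb

lemma exists_mul_of_mem_sup_of_le_normalizer {A B : Subgroup G}
    (h : B ≤ Subgroup.normalizer (A : Set G)) {w : G} (hw : w ∈ A ⊔ B) :
    ∃ a ∈ A, ∃ b ∈ B, w = a * b := by
  have hle : A ⊔ B ≤ Subgroup.normalizer (A : Set G) := sup_le Subgroup.le_normalizer h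
  have hwN : w ∈ Subgroup.normalizer (A : Set G) := hle hw
  haveI hAn : (A.subgroupOf (Subgroup.normalizer (A : Set G))).Normal :=
    Subgroup.normal_in_normalizer
  have h1 : (⟨w, hwN⟩ : Subgroup.normalizer (A : Set G)) ∈
      A.subgroupOf (Subgroup.normalizer (A : Set G)) ⊔
        B.subgroupOf (Subgroup.normalizer (A : Set G)) := by
    rw [← Subgroup.subgroupOf_sup Subgroup.le_normalizer h, Subgroup.mem_subgroupOf]
    exact hw
  rw [Subgroup.mem_sup_of_normal_left] at h1
  obtain ⟨a, ha, b, hb, hab⟩ := h1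
  refine ⟨a, Subgroup.mem_subgroupOf.mp ha, b, Subgroup.mem_subgroupOf.mp hb, ?_⟩
  have := congrArg Subtype.val hab
  simpa using this.symm

/-- A chain `1 ≤ H ≤ K ≤ G` with `p`-, `p'`-, `p`-factors shows `p`-solvability. -/
theorem isPSolvable_of_chain [Finite G] {p : ℕ} [Fact p.Prime] (H K : Subgroup G) [hH : H.Normal]
    [hK : K.Normal] (hHK : H ≤ K) (hHp : IsPGroup p H) (hKH : (H.relIndex K).Coprime p)
    (hKi : ∃ k : ℕ, K.index = p ^ k) : IsPSolvable p G := by
  refine ⟨3, ![⊥, H, K, ⊤], rfl, rfl, ?_, ?_, ?_⟩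
  · rw [Fin.monotone_iff_le_succ]
    intro i
    fin_cases i
    · exact bot_le
    · exact hHK
    · exact le_top
  · intro i
    fin_cases i
    · exact (inferInstance : (⊥ : Subgroup G).Normal)
    · exact hH
    · exact hK
    · exact (inferInstance : (⊤ : Subgroup G).Normal)
  · intro i
    fin_cases i
    · left
      obtain ⟨a, ha⟩ := IsPGroup.iff_card.mp hHp
      refine ⟨a, ?_⟩
      show (⊥ : Subgroup G).relIndex H = p ^ a
      rw [Subgroup.relIndex_bot_left, ha]
    · right
      exact hKH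
    · left
      obtain ⟨k, hk⟩ := hKi
      refine ⟨k, ?_⟩
      show K.relIndex ⊤ = p ^ k
      rw [Subgroup.relIndex_top_right, hk]

/-- If the Sylow `p`-subgroup `P` is a maximal subgroup and `G / O_p(G)` has the normal
`p`-complement `K / O_p(G)`, then `K / O_p(G)` is abelian: the configuration holds. -/
theorem config_of_max [Finite G] {p : ℕ} [hp : Fact p.Prime] (P : Sylow p G) (K : Subgroup G)
    [hKn : K.Normal] (hHK : pCore p G ≤ K) (hKH : ((pCore p G).relIndex K).Coprime p)
    (hKi : ∃ k : ℕ, K.index = p ^ k)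
    (hmax : ∀ M : Subgroup G, (P : Subgroup G) ≤ M → M = (P : Subgroup G) ∨ M = ⊤) :
    Config p P K ((pCore p G).relIndex K) := by
  set H := pCore p G with hH
  haveI hHn : H.Normal := pCore_normal' p G
  have hHp : IsPGroup p H := isPGroup_pCore'
  set m := H.relIndex K with hm
  have hpow : ∀ k ∈ K, k ^ m ∈ H := fun k hk => Subgroup.pow_relIndex_mem H hk
  have hKP : K ⊓ (P : Subgroup G) ≤ H := by
    intro x hx
    obtain ⟨j, hj⟩ := (isPGroup_subgroup_iff'.mp P.isPGroup') x hx.2
    exact mem_of_pow_mem_of_coprime H x (Nat.Coprime.pow_right j hKH) (hpow x hx.1)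
      (by rw [hj]; exact H.one_mem)
  have hgen : K ⊔ (P : Subgroup G) = ⊤ := by
    rw [← Subgroup.index_eq_one]
    obtain ⟨k, hk⟩ := hKi
    have h1 : (K ⊔ (P : Subgroup G)).index ∣ p ^ k := hk ▸ Subgroup.index_dvd_of_le le_sup_left
    have h2 : (K ⊔ (P : Subgroup G)).index ∣ (P : Subgroup G).index :=
      Subgroup.index_dvd_of_le le_sup_right
    obtain ⟨j, -, hj⟩ := (Nat.dvd_prime_pow hp.out).mp h1
    rcases Nat.eq_zero_or_pos j with h0 | h0
    · rw [hj, h0, pow_zero]
    · exfalso
      apply P.not_dvd_index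
      exact dvd_trans (hj ▸ dvd_pow_self p h0.ne') h2
  set mk := QuotientGroup.mk' H with hmk
  have hmk1 : ∀ g : G, mk g = 1 ↔ g ∈ H := fun g => QuotientGroup.eq_one_iff g
  haveI hKbn : (K.map mk).Normal := hKn.map _ (QuotientGroup.mk'_surjective _)
  set E := (Subgroup.centralizer ((K.map mk : Subgroup (G ⧸ H)) : Set (G ⧸ H))).comap mk with hE
  haveI hEn : E.Normal := by rw [hE]; infer_instance
  have hEmem : ∀ g : G, g ∈ E ↔ ∀ k ∈ K, mk k * mk g = mk g * mk k := by
    intro g
    rw [hE, Subgroup.mem_comap, Subgroup.mem_centralizer_iff]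
    constructor
    · intro h k hk
      exact h (mk k) (Subgroup.mem_map_of_mem _ hk)
    · rintro h _ ⟨k, hk, rfl⟩
      exact h k hk
  have hHE : H ≤ E := by
    intro h hh
    rw [hEmem]
    intro k _
    rw [(hmk1 h).mpr hh, mul_one, one_mul]
  -- the main claim
  have hKE : K ≤ E := by
    by_cases hKeqH : K ≤ H
    · exact hKeqH.trans hHE
    · have hm1 : m ≠ 1 := fun h => hKeqH (Subgroup.relIndex_eq_one.mp h)
      obtain ⟨q, hq, hqm⟩ := Nat.exists_prime_and_dvd hm1
      haveI : Fact q.Prime := ⟨hq⟩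
      have hqp : q ≠ p := by
        intro h
        rw [h] at hqm
        have := Nat.Coprime.eq_one_of_dvd hKH.symm hqm
        exact hp.out.one_lt.ne' this
      have hqK : q ∣ Nat.card K := dvd_trans hqm (Subgroup.relIndex_dvd_card H K)
      obtain ⟨Q⟩ : Nonempty (Sylow q ↥K) := inferInstance
      set Q₀ : Subgroup G := (Q : Subgroup ↥K).map K.subtype with hQ₀
      have hfrat : Subgroup.normalizer (Q₀ : Set G) ⊔ K = ⊤ := Sylow.normalizer_sup_eq_top Q
      have hQ₀K : Q₀ ≤ K := Subgroup.map_subtype_le _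
      have hQ₀q : IsPGroup q Q₀ := Q.isPGroup'.map _
      have hQ₀ne : Q₀ ≠ ⊥ := by
        intro h
        have h1 : (Q : Subgroup ↥K) = ⊥ := by
          rw [eq_bot_iff]
          intro x hx
          have : (x : G) ∈ Q₀ := ⟨x, hx, rfl⟩
          rw [h, Subgroup.mem_bot] at this
          rw [Subgroup.mem_bot]
          exact Subtype.ext this
        exact Q.ne_bot_of_dvd_card hqK h1
      set M := H ⊔ Subgroup.normalizer (Q₀ : Set G) with hM
      have hMK : M ⊔ K = ⊤ := by
        rw [eq_top_iff, ← hfrat]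
        exact sup_le_sup_right le_sup_right K
      have hidx : M.index ∣ m := index_dvd_relIndex_of_sup_eq_top M K H hMK le_sup_left
      have hpM : ¬ p ∣ M.index := by
        intro h
        have := Nat.Coprime.eq_one_of_dvd hKH.symm (dvd_trans h hidx)
        exact hp.out.one_lt.ne' this
      obtain ⟨g, hg⟩ := Helper64.exists_le_map_conj_of_not_dvd_index P M hpM
      set Q₁ : Subgroup G := Q₀.map (MulAut.conj g).toMonoidHom with hQ₁
      have hQ₁K : Q₁ ≤ K := by
        rintro _ ⟨x, hx, rfl⟩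
        exact hKn.conj_mem x (hQ₀K hx) g
      have hQ₁q : IsPGroup q Q₁ := hQ₀q.map _
      have hQ₁ne : Q₁ ≠ ⊥ := by
        intro h
        apply hQ₀ne
        rw [eq_bot_iff]
        intro x hx
        have : (MulAut.conj g) x ∈ Q₁ := ⟨x, hx, rfl⟩
        rw [h, Subgroup.mem_bot] at this
        rw [Subgroup.mem_bot]
        exact (MulAut.conj g).injective (by rw [this, map_one])
      have hMg : M.map (MulAut.conj g).toMonoidHom = H ⊔ Subgroup.normalizer (Q₁ : Set G) := by
        rw [hM, Subgroup.map_sup, Subgroup.map_equiv_normalizer_eq]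
        congr 1
        exact Subgroup.Normal.map_conj_eq H g
      set Y := H ⊔ Q₁ with hY
      have hYK : Y ≤ K := sup_le hHK hQ₁K
      have hPY : (P : Subgroup G) ≤ Subgroup.normalizer (Y : Set G) := by
        refine hg.trans ?_
        rw [hMg]
        apply sup_le
        · exact (le_sup_left : H ≤ Y).trans Subgroup.le_normalizer
        · exact le_normalizer_sup _ H Q₁ (Subgroup.normalizer_eq_top_iff.mpr hHn ▸ le_top) le_rfl
      -- `K = Y`
      have hKY : K ≤ Y := by
        rcases hmax (Y ⊔ (P : Subgroup G)) le_sup_right with h | h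
        · exfalso
          have h1 : Q₁ ≤ (P : Subgroup G) := by
            rw [← h]; exact le_sup_right.trans le_sup_left
          have h2 := IsPGroup.disjoint_of_ne q p hqp Q₁ Q₁ hQ₁q (P.isPGroup'.to_le h1)
          exact hQ₁ne (disjoint_self.mp h2)
        · intro k hk
          have hk' : k ∈ Y ⊔ (P : Subgroup G) := by rw [h]; trivial
          obtain ⟨y, hy, u, hu, rfl⟩ := exists_mul_of_mem_sup_of_le_normalizer hPY hk'
          have huK : u ∈ K := by
            have : u = y⁻¹ * (y * u) := by group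
            rw [this]
            exact K.mul_mem (K.inv_mem (hYK hy)) hk
          exact Y.mul_mem hy ((le_sup_left : H ≤ Y) (hKP ⟨huK, hu⟩))
      -- a central element of `Q₁`
      haveI : Nontrivial ↥Q₁ := (Subgroup.nontrivial_iff_ne_bot Q₁).mpr hQ₁ne
      haveI := hQ₁q.center_nontrivial
      obtain ⟨z, hz⟩ := exists_ne (1 : ↥(Subgroup.center ↥Q₁))
      have hzQ : ((z : ↥Q₁) : G) ∈ Q₁ := (z : ↥Q₁).2
      have hzne : ((z : ↥Q₁) : G) ≠ 1 := by
        intro h
        apply hz
        apply Subtype.ext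
        apply Subtype.ext
        exact h
      have hzc : ∀ x ∈ Q₁, x * ((z : ↥Q₁) : G) = ((z : ↥Q₁) : G) * x := by
        intro x hx
        have := (Subgroup.mem_center_iff.mp z.2) ⟨x, hx⟩
        exact congrArg Subtype.val this
      have hzE : ((z : ↥Q₁) : G) ∈ E := by
        rw [hEmem]
        intro k hk
        obtain ⟨h, hh, x, hx, rfl⟩ := Subgroup.mem_sup_of_normal_left.mp (hKY hk)
        rw [map_mul, (hmk1 h).mpr hh, one_mul, ← map_mul, ← map_mul, hzc x hx]
      have hzH : ((z : ↥Q₁) : G) ∉ H := by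
        intro h
        have h2 := IsPGroup.disjoint_of_ne p q (Ne.symm hqp) H Q₁ hHp hQ₁q
        have h3 : ((z : ↥Q₁) : G) ∈ H ⊓ Q₁ := ⟨h, hzQ⟩
        rw [h2.eq_bot, Subgroup.mem_bot] at h3
        exact hzne h3
      set Y₃ := K ⊓ E with hY₃
      haveI hY₃n : Y₃.Normal := by rw [hY₃]; infer_instance
      rcases hmax (Y₃ ⊔ (P : Subgroup G)) le_sup_right with h | h
      · exfalso
        have h1 : Y₃ ≤ (P : Subgroup G) := by
          rw [← h]; exact le_sup_left
        exact hzH (hKP ⟨hQ₁K hzQ, h1 ⟨hQ₁K hzQ, hzE⟩⟩)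
      · intro k hk
        have hk' : k ∈ Y₃ ⊔ (P : Subgroup G) := by rw [h]; trivial
        obtain ⟨y, hy, u, hu, rfl⟩ := Subgroup.mem_sup_of_normal_left.mp hk'
        have huK : u ∈ K := by
          have : u = y⁻¹ * (y * u) := by group
          rw [this]
          exact K.mul_mem (K.inv_mem hy.1) hk
        exact E.mul_mem hy.2 (hHE (hKP ⟨huK, hu⟩))
  refine ⟨hKn, hHK, ?_, hKH, hpow, hgen⟩
  intro k hk k' hk'
  have h1 := (hEmem k').mp (hKE hk') k hk
  rw [← hmk1, map_mul, map_mul, map_mul, map_inv, map_inv, h1]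
  group

/-- The inductive step of the Glauberman–Thompson theorem. -/
theorem gt_step {G : Type u} [Group G] [Finite G] {p : ℕ} [hp : Fact p.Prime] (hp2 : p ≠ 2)
    (ih : IHyp.{u} p (Nat.card G)) (P : Sylow p G)
    (hN : HasNormalPComplement p ↥(Subgroup.normalizer (ZJ (P : Subgroup G) : Set G))) :
    HasNormalPComplement p G := by
  by_contra hG
  have hall := hyp_all P hN
  -- `O_{p'}(G) = 1`
  have hO : pPrimeCore p G = ⊥ := by
    by_contra h
    haveI := (Helper54.pPrimeCore_mem (G := G) p).1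
    exact hG (hnpc_of_quot_coprime ih (pPrimeCore p G) (Helper54.pPrimeCore_coprime p) h P hN)
  -- the choice of `H`
  set 𝒳 : Set (Subgroup G) := {X | IsPGroup p X ∧ X ≠ ⊥ ∧
    ¬ HasNormalPComplement p ↥(Subgroup.normalizer (X : Set G))} with h𝒳
  obtain ⟨X₀, hX₀⟩ : 𝒳.Nonempty := by
    obtain ⟨X, h1, h2, h3⟩ := exists_bad_local hG
    exact ⟨X, h1, h2, h3⟩
  set ν : Subgroup G → ℕ :=
    fun X => (Nat.card ↥(Subgroup.normalizer (X : Set G))).factorization p with hν
  set μ : Subgroup G → ℕ := fun X => ν X * (Nat.card G + 1) + Nat.card X with hμ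
  obtain ⟨H, hH𝒳, hHmax⟩ := Set.exists_max_image 𝒳 μ (Set.toFinite _) ⟨X₀, hX₀⟩
  obtain ⟨hHp, hH1, hHbad⟩ := hH𝒳
  have hcardle : ∀ X : Subgroup G, Nat.card X ≤ Nat.card G := fun X => Subgroup.card_le_card_group X
  have hν_le : ∀ X ∈ 𝒳, ν X ≤ ν H := by
    intro X hX
    by_contra hlt
    push Not at hlt
    have h1 : ν X * (Nat.card G + 1) + Nat.card X ≤ ν H * (Nat.card G + 1) + Nat.card H :=
      hHmax X hX
    have h2 : (ν H + 1) * (Nat.card G + 1) ≤ ν X * (Nat.card G + 1) := Nat.mul_le_mul_right _ hlt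
    have h3 := hcardle H
    nlinarith
  have hcard_le : ∀ X ∈ 𝒳, ν X = ν H → Nat.card X ≤ Nat.card H := by
    intro X hX heq
    have h1 : ν X * (Nat.card G + 1) + Nat.card X ≤ ν H * (Nat.card G + 1) + Nat.card H :=
      hHmax X hX
    rw [heq] at h1
    omega
  -- `N_G(H) = G`
  have hNH : Subgroup.normalizer (H : Set G) = ⊤ := by
    by_contra hNH
    set N := Subgroup.normalizer (H : Set G) with hN'
    obtain ⟨Q⟩ : Nonempty (Sylow p ↥N) := inferInstance
    set Q' : Subgroup G := (Q : Subgroup ↥N).map N.subtype with hQ'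
    have hQ'p : IsPGroup p Q' := Q.isPGroup'.map _
    have hHQ' : H ≤ Q' := by
      haveI : (H.subgroupOf N).Normal := Subgroup.normal_in_normalizer
      have hp' : IsPGroup p ↥(H.subgroupOf N) := hHp.comap_subtype
      have h1 : H.subgroupOf N ≤ Q := hp'.le_sylow_of_normal Q
      intro x hx
      exact ⟨⟨x, Subgroup.le_normalizer hx⟩, h1 (Subgroup.mem_subgroupOf.mpr hx), rfl⟩
    have hQ'ne : Q' ≠ ⊥ := fun h => hH1 (eq_bot_iff.mpr (h ▸ hHQ'))
    have hbadZ : ¬ HasNormalPComplement p ↥(Subgroup.normalizer (ZJ Q' : Set G)) := by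
      intro h
      apply hHbad
      apply ih_sub ih N hNH Q
      exact pn_mono inf_le_right h
    have hZ𝒳 : ZJ Q' ∈ 𝒳 := ⟨hQ'p.to_le (W_le goodAx_comm _), ZJ_ne_bot hQ'p hQ'ne, hbadZ⟩
    have h1 := hν_le _ hZ𝒳
    have hcardQ' : Nat.card Q' = p ^ ν H := by
      rw [hQ', Subgroup.card_map_of_injective N.subtype_injective]
      exact Q.card_eq_multiplicity
    obtain ⟨P', hP'⟩ := hQ'p.exists_le_sylow
    rcases eq_or_lt_of_le hP' with heq | hlt
    · apply hbadZ
      rw [heq]
      exact hall P'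
    · have h2 := lt_inf_normalizer P'.isPGroup' hlt
      set T := (P' : Subgroup G) ⊓ Subgroup.normalizer (Q' : Set G) with hT
      have hTp : IsPGroup p T := P'.isPGroup'.to_le inf_le_left
      obtain ⟨t, ht⟩ := IsPGroup.iff_card.mp hTp
      have hTle : T ≤ Subgroup.normalizer (ZJ Q' : Set G) :=
        inf_le_right.trans (normalizer_le_normalizer_W goodAx_comm Q')
      have h3 : p ^ t ∣ Nat.card ↥(Subgroup.normalizer (ZJ Q' : Set G)) :=
        ht ▸ Subgroup.card_dvd_of_le hTle
      have h4 : t ≤ ν (ZJ Q') :=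
        (hp.out.pow_dvd_iff_le_factorization Nat.card_pos.ne').mp h3
      have h5 : Nat.card Q' < Nat.card T := card_lt_of_lt' h2
      rw [hcardQ', ht] at h5
      have h6 : ν H < t := (Nat.pow_lt_pow_iff_right hp.out.one_lt).mp h5
      omega
  haveI hHn : H.Normal := Subgroup.normalizer_eq_top_iff.mp hNH
  have hνH : ν H = (Nat.card G).factorization p := by
    simp only [hν]
    rw [hNH, Subgroup.card_top]
  have hgood : ∀ X : Subgroup G, IsPGroup p X → Nat.card H < Nat.card X →
      (∃ P' : Sylow p G, (P' : Subgroup G) ≤ Subgroup.normalizer (X : Set G)) →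
      HasNormalPComplement p ↥(Subgroup.normalizer (X : Set G)) := by
    rintro X hXp hXc ⟨P', hP'⟩
    by_contra hbad
    have hX1 : X ≠ ⊥ := by
      intro h
      rw [h, Subgroup.card_bot] at hXc
      have := Nat.card_pos (α := H)
      omega
    have hX𝒳 : X ∈ 𝒳 := ⟨hXp, hX1, hbad⟩
    have h1 : ν X = ν H := by
      apply le_antisymm (hν_le X hX𝒳)
      rw [hνH]
      have h2 : p ^ (Nat.card G).factorization p ∣
          Nat.card ↥(Subgroup.normalizer (X : Set G)) := by
        rw [← P'.card_eq_multiplicity]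
        exact Subgroup.card_dvd_of_le hP'
      exact (hp.out.pow_dvd_iff_le_factorization Nat.card_pos.ne').mp h2
    have := hcard_le X hX𝒳 h1
    omega
  -- `H = O_p(G)`
  have hHcore : H = pCore p G := by
    have hle : H ≤ pCore p G := le_pCore' hHn hHp
    by_contra hne
    have hlt : H < pCore p G := lt_of_le_of_ne hle hne
    have hnt : Subgroup.normalizer ((pCore p G : Subgroup G) : Set G) = ⊤ :=
      Subgroup.normalizer_eq_top_iff.mpr (pCore_normal' p G)
    have h1 := hgood (pCore p G) isPGroup_pCore' (card_lt_of_lt' hlt)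
      ⟨P, by rw [hnt]; exact le_top⟩
    apply hG
    rw [← pn_top]
    exact pn_mono (le_of_eq hnt.symm) h1
  -- `H < P`
  have hHP : H < (P : Subgroup G) := by
    have hle : H ≤ (P : Subgroup G) := hHcore ▸ pCore_le_sylow' P
    refine lt_of_le_of_ne hle ?_
    intro heq
    apply hG
    rw [← pn_top]
    have h1 : Subgroup.normalizer ((P : Subgroup G) : Set G) = ⊤ := by rw [← heq]; exact hNH
    have h2 : (⊤ : Subgroup G) ≤ Subgroup.normalizer (ZJ (P : Subgroup G) : Set G) :=
      h1 ▸ normalizer_le_normalizer_W goodAx_comm (P : Subgroup G)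
    exact pn_mono h2 hN
  -- `G / H` has a normal `p`-complement
  have hquot : HasNormalPComplement p (G ⧸ H) := by
    apply hnpc_quot_of_pgroup ih H hH1 P hHP
    intro L hHL hLP hPL
    exact hgood L (P.isPGroup'.to_le hLP) (card_lt_of_lt' hHL) ⟨P, hPL⟩
  subst hHcore
  obtain ⟨Nb, hNbn, hNbc, k, hNbk⟩ := hnpc_iff.mp hquot
  set mk := QuotientGroup.mk' (pCore p G) with hmk
  have hsurj : Function.Surjective mk := QuotientGroup.mk'_surjective _
  set K := Nb.comap mk with hK
  haveI hKn : K.Normal := hNbn.comap _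
  have hHK : pCore p G ≤ K := by
    intro x hx
    show mk x ∈ Nb
    have : mk x = 1 := (QuotientGroup.eq_one_iff x).mpr hx
    rw [this]
    exact Nb.one_mem
  have hKH : ((pCore p G).relIndex K).Coprime p := by
    have h1 : (pCore p G).relIndex K = Nat.card Nb := by
      have h2 : pCore p G = (⊥ : Subgroup (G ⧸ pCore p G)).comap mk := by
        rw [MonoidHom.comap_bot, QuotientGroup.ker_mk']
      conv_lhs => rw [h2]
      rw [Subgroup.relIndex_comap, hK, Subgroup.map_comap_eq_self_of_surjective hsurj,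
        Subgroup.relIndex_bot_left]
    rw [h1]
    exact hNbc
  have hKi : ∃ k : ℕ, K.index = p ^ k :=
    ⟨k, by rw [hK, Subgroup.index_comap_of_surjective Nb hsurj]; exact hNbk⟩
  -- `C_G(O_p(G)) ≤ O_p(G)`
  have hc : Subgroup.centralizer (pCore p G : Set G) ≤ pCore p G :=
    Helper76.centralizer_pCore_le
      (isPSolvable_of_chain (pCore p G) K hHK isPGroup_pCore' hKH hKi) hO
  -- `P` is a maximal subgroup
  have hmax : ∀ M : Subgroup G, (P : Subgroup G) ≤ M → M = (P : Subgroup G) ∨ M = ⊤ := by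
    intro M hPM
    by_cases hM : M = ⊤
    · exact Or.inr hM
    · left
      have h1 : HasNormalPComplement p ↥M := by
        apply ih_sub ih M hM (P.subtype hPM)
        have h2 : ((P.subtype hPM : Sylow p ↥M) : Subgroup ↥M).map M.subtype =
            (P : Subgroup G) := by
          rw [Sylow.coe_subtype, Subgroup.subgroupOf_map_subtype, inf_eq_left.mpr hPM]
        rw [h2]
        exact pn_mono inf_le_right hN
      obtain ⟨T, hTn, hTc, j, hTj⟩ := hnpc_iff.mp h1
      set T' := T.map M.subtype with hT'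
      have hT'c : (Nat.card T').Coprime p := by
        rw [hT', Subgroup.card_map_of_injective M.subtype_injective]
        exact hTc
      have hdisj : T' ⊓ pCore p G = ⊥ := by
        apply (Subgroup.disjoint_of_coprime_natCard _).eq_bot
        obtain ⟨a, ha⟩ := IsPGroup.iff_card.mp hHp
        rw [ha]
        exact Nat.Coprime.pow_right a hT'c
      have hT'cent : T' ≤ Subgroup.centralizer (pCore p G : Set G) := by
        rintro _ ⟨t, ht, rfl⟩
        rw [Subgroup.mem_centralizer_iff]
        intro h hh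
        have hhM : h ∈ M := hPM (le_of_lt hHP hh)
        have h3 : (t : G) * h * (t : G)⁻¹ * h⁻¹ ∈ T' := by
          refine ⟨t * ((⟨h, hhM⟩ : ↥M) * t⁻¹ * (⟨h, hhM⟩ : ↥M)⁻¹),
            T.mul_mem ht (hTn.conj_mem _ (T.inv_mem ht) _), ?_⟩
          simp [mul_assoc]
        have h4 : (t : G) * h * (t : G)⁻¹ * h⁻¹ ∈ pCore p G :=
          (pCore p G).mul_mem (hHn.conj_mem h hh _) ((pCore p G).inv_mem hh)
        have h5 : (t : G) * h * (t : G)⁻¹ * h⁻¹ ∈ T' ⊓ pCore p G := ⟨h3, h4⟩
        rw [hdisj, Subgroup.mem_bot] at h5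
        calc h * M.subtype t = ((t : G) * h * (t : G)⁻¹ * h⁻¹)⁻¹ * ((t : G) * h) := by
              simp [mul_assoc]
          _ = M.subtype t * h := by rw [h5, inv_one, one_mul]; rfl
      have hT'bot : T' = ⊥ := by
        rw [eq_bot_iff, ← hdisj]
        exact le_inf le_rfl (hT'cent.trans hc)
      have hTbot : T = ⊥ := by
        rw [eq_bot_iff]
        intro t ht
        have : (t : G) ∈ T' := ⟨t, ht, rfl⟩
        rw [hT'bot, Subgroup.mem_bot] at this
        rw [Subgroup.mem_bot]
        exact Subtype.ext this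
      have hMp : IsPGroup p ↥M := by
        apply IsPGroup.of_card (n := j)
        rw [← hTj, hTbot, Subgroup.index_bot]
      exact P.is_maximal' hMp hPM
  have cfg := config_of_max P K hHK hKH hKi hmax
  haveI := ZJ_normal_of_config hp2 cfg hc
  apply hG
  rw [← pn_top]
  exact pn_mono (le_of_eq (Subgroup.normalizer_eq_top_iff.mpr inferInstance).symm) hN

/-- **Glauberman–Thompson normal `p`-complement theorem** for the abelian-version `Z(J(P))`. -/
theorem glauberman_thompson_all {p : ℕ} [hp : Fact p.Prime] (hp2 : p ≠ 2) :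
    ∀ n : ℕ, IHyp.{u} p n := by
  intro n
  induction n with
  | zero =>
    intro X _ _ h
    exact absurd h (Nat.not_lt_zero _)
  | succ n ih =>
    intro X _ _ hX R hR
    by_cases h : Nat.card X < n
    · exact ih X h R hR
    · have h1 : Nat.card X = n := by omega
      subst h1
      exact gt_step hp2 ih R hR

theorem glauberman_thompson {G : Type u} [Group G] [Finite G] {p : ℕ} [Fact p.Prime] (hp2 : p ≠ 2)
    (P : Sylow p G)
    (hN : HasNormalPComplement p ↥(Subgroup.normalizer (ZJ (P : Subgroup G) : Set G))) :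
    HasNormalPComplement p G :=
  glauberman_thompson_all hp2 (Nat.card G + 1) G (Nat.lt_succ_self _) P hN

end Cfsg.Agent.Helper31.GT
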