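import Mathlib

set_option autoImplicit false

/-!
# Schur's lemma and Burnside's density theorem for an irreducible representation
over an algebraically closed field (in the elementary invariant-subspace formulation).
-/

namespace Cfsg.Agent.Helper31.HH

open Module

variable {K : Type*} [Field K] {V : Type*} [AddCommGroup V] [Module K V]

/-- Elementary irreducibility: the only invariant subspaces are `⊥` and `⊤`. -/
def Irr {Γ : Type*} [Monoid Γ] (σ : Representation K Γ V) : Prop :=
  ∀ W : Submodule K V, (∀ g, W.map (σ g) ≤ W) → W = ⊥ ∨ W = ⊤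

theorem Irr.isIrreducible [Nontrivial V] {Γ : Type*} [Monoid Γ] {σ : Representation K Γ V}
    (h : Irr σ) : σ.IsIrreducible where
  exists_pair_ne := by
    refine ⟨⊥, ⊤, fun hbt => ?_⟩
    have h1 : (⊥ : Subrepresentation σ).toSubmodule = (⊤ : Subrepresentation σ).toSubmodule := by
      rw [hbt]
    have h2 : (⊥ : Submodule K V) = ⊤ := h1
    exact bot_ne_top h2
  eq_bot_or_eq_top := fun W => by
    rcases h W.toSubmodule (fun g => by
      rintro _ ⟨v, hv, rfl⟩; exact W.apply_mem_toSubmodule g hv) with h1 | h1
    · left; exact Subrepresentation.toSubmodule_injective h1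
    · right; exact Subrepresentation.toSubmodule_injective h1

/-- Schur's lemma: an endomorphism commuting with an irreducible representation is a scalar. -/
theorem Irr.schur [IsAlgClosed K] [FiniteDimensional K V] [Nontrivial V] {Γ : Type*} [Monoid Γ]
    {σ : Representation K Γ V} (h : Irr σ) (T : End K V) (hT : ∀ g, Commute T (σ g)) :
    ∃ μ : K, T = μ • 1 := by
  obtain ⟨μ, hμ⟩ := Module.End.exists_eigenvalue T
  refine ⟨μ, ?_⟩
  have hinv : ∀ g, (T.eigenspace μ).map (σ g) ≤ T.eigenspace μ := by
    intro g
    rintro _ ⟨v, hv, rfl⟩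
    rw [SetLike.mem_coe, Module.End.mem_eigenspace_iff] at hv
    rw [Module.End.mem_eigenspace_iff]
    have := congrArg (fun f : End K V => f v) (hT g).eq
    simp only [Module.End.mul_apply] at this
    rw [this, hv, map_smul]
  rcases h _ hinv with h1 | h1
  · exact absurd h1 (Module.End.hasEigenvalue_iff.mp hμ)
  · apply LinearMap.ext
    intro v
    have hv : v ∈ T.eigenspace μ := by rw [h1]; trivial
    rw [Module.End.mem_eigenspace_iff] at hv
    simpa using hv

/-- Burnside's theorem: the group algebra maps onto `End K V`. -/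
theorem Irr.burnside [IsAlgClosed K] [FiniteDimensional K V] [Nontrivial V] {Γ : Type*}
    [Monoid Γ] {σ : Representation K Γ V} (h : Irr σ) :
    Function.Surjective σ.asAlgebraHom := by
  intro e
  haveI := h.isIrreducible
  haveI hsimple : IsSimpleModule (MonoidAlgebra K Γ) σ.asModule := inferInstance
  have hschur : ∀ φ : Module.End (MonoidAlgebra K Γ) σ.asModule,
      ∃ t : K, ∀ m, φ m = t • m := by
    intro φ
    obtain ⟨t, ht⟩ := (IsSimpleModule.algebraMap_end_bijective_of_isAlgClosed
      (A := MonoidAlgebra K Γ) (V := σ.asModule) K).2 φ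
    refine ⟨t, fun m => ?_⟩
    rw [← ht]
    rfl
  let e' : σ.asModule →ₗ[K] σ.asModule :=
    σ.asModuleEquiv.symm.toLinearMap ∘ₗ e ∘ₗ σ.asModuleEquiv.toLinearMap
  let f : Module.End (Module.End (MonoidAlgebra K Γ) σ.asModule) σ.asModule :=
    { toFun := e'
      map_add' := e'.map_add
      map_smul' := fun φ m => by
        obtain ⟨t, ht⟩ := hschur φ
        change e' (φ m) = φ (e' m)
        rw [ht, ht, map_smul] }
  obtain ⟨s, hs⟩ := (Module.Finite.fg_top : (⊤ : Submodule K σ.asModule).FG)
  obtain ⟨r, hr⟩ := jacobson_density f s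
  refine ⟨r, ?_⟩
  have key : ∀ m : σ.asModule, f m = r • m := by
    intro m
    have hm : m ∈ Submodule.span K (s : Set σ.asModule) := by rw [hs]; trivial
    induction hm using Submodule.span_induction with
    | mem m hm => exact hr m hm
    | zero => simp
    | add a b _ _ ha hb => rw [map_add, smul_add, ha, hb]
    | smul c a _ ha =>
      have h1 : f (c • a) = c • f a := e'.map_smul c a
      rw [h1, ha, smul_comm]
  apply LinearMap.ext
  intro v
  have h1 := key (σ.asModuleEquiv.symm v)
  have h2 := congrArg σ.asModuleEquiv h1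
  rw [Representation.asModuleEquiv_map_smul] at h2
  simp only [LinearEquiv.apply_symm_apply] at h2
  rw [← h2]
  change σ.asModuleEquiv (e' (σ.asModuleEquiv.symm v)) = e v
  simp [e']

end Cfsg.Agent.Helper31.HH
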