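import Mathlib
import Cfsg.Agent.Lib.Helper31.HHDense

set_option autoImplicit false

/-!
# Elementary theory of simple invariant subspaces of a representation
-/

namespace Cfsg.Agent.Helper31.HH

open Module

variable {K : Type*} [Field K] {V : Type*} [AddCommGroup V] [Module K V]
variable {M : Type*} [Monoid M] (τ : Representation K M V)

/-- `S` is an invariant subspace. -/
def Inv (S : Submodule K V) : Prop := ∀ g, ∀ s ∈ S, τ g s ∈ S

/-- `S` is a simple invariant subspace. -/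
def Simple (S : Submodule K V) : Prop :=
  Inv τ S ∧ S ≠ ⊥ ∧ ∀ S' : Submodule K V, Inv τ S' → S' ≤ S → S' = ⊥ ∨ S' = S

/-- Equivariant isomorphism of invariant subspaces, realised by an endomorphism of `V`. -/
def EqIso (S S' : Submodule K V) : Prop :=
  ∃ f : V →ₗ[K] V, (∀ s ∈ S, f s ∈ S') ∧ (∀ g, ∀ s ∈ S, f (τ g s) = τ g (f s)) ∧
    (∀ s ∈ S, f s = 0 → s = 0) ∧ (∀ s' ∈ S', ∃ s ∈ S, f s = s')

variable {τ}

theorem Inv.iSup {ι : Sort*} {T : ι → Submodule K V} (h : ∀ i, Inv τ (T i)) : Inv τ (⨆ i, T i) := by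
  intro g s hs
  have : (⨆ i, T i).map (τ g) ≤ ⨆ i, T i := by
    rw [Submodule.map_iSup]
    apply iSup_le
    intro i
    refine le_trans ?_ (le_iSup T i)
    rintro _ ⟨t, ht, rfl⟩
    exact h i g t ht
  exact this ⟨s, hs, rfl⟩

theorem Inv.inf {S T : Submodule K V} (hS : Inv τ S) (hT : Inv τ T) : Inv τ (S ⊓ T) :=
  fun g s hs => ⟨hS g s hs.1, hT g s hs.2⟩

theorem Inv.sup {S T : Submodule K V} (hS : Inv τ S) (hT : Inv τ T) : Inv τ (S ⊔ T) := by
  intro g s hs
  obtain ⟨a, ha, b, hb, rfl⟩ := Submodule.mem_sup.mp hs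
  rw [map_add]
  exact Submodule.add_mem _ (Submodule.mem_sup_left (hS g a ha)) (Submodule.mem_sup_right (hT g b hb))

theorem Inv.bot : Inv τ (⊥ : Submodule K V) := fun g s hs => by
  rw [Submodule.mem_bot] at hs
  rw [hs, map_zero]
  exact Submodule.zero_mem _

theorem Irr_iff_inv : Irr τ ↔ ∀ W : Submodule K V, Inv τ W → W = ⊥ ∨ W = ⊤ := by
  constructor
  · intro h W hW
    apply h W
    intro g
    rintro _ ⟨s, hs, rfl⟩
    exact hW g s hs
  · intro h W hW
    apply h W
    intro g s hs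
    exact hW g ⟨s, hs, rfl⟩

theorem exists_simple_le [FiniteDimensional K V] {S : Submodule K V} (hS : Inv τ S) (hne : S ≠ ⊥) :
    ∃ W : Submodule K V, Simple τ W ∧ W ≤ S := by
  have hwf : WellFounded (α := Submodule K V) (· < ·) := wellFounded_lt
  obtain ⟨W, ⟨hW1, hW2, hW3⟩, hmin⟩ := hwf.has_min {W | Inv τ W ∧ W ≠ ⊥ ∧ W ≤ S} ⟨S, hS, hne, le_rfl⟩
  refine ⟨W, ⟨hW1, hW2, ?_⟩, hW3⟩
  intro S' hS' hle
  by_cases h0 : S' = ⊥
  · exact Or.inl h0
  · right
    by_contra hne'
    exact hmin S' ⟨hS', h0, hle.trans hW3⟩ (lt_of_le_of_ne hle hne')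

theorem EqIso.refl (S : Submodule K V) : EqIso τ S S :=
  ⟨LinearMap.id, fun s hs => hs, fun g s _ => rfl, fun s _ h => h, fun s hs => ⟨s, hs, rfl⟩⟩

theorem EqIso.of_eq {S S' : Submodule K V} (h : S = S') : EqIso τ S S' := h ▸ EqIso.refl S

theorem EqIso.trans {S S' S'' : Submodule K V} (hS : Inv τ S) (h1 : EqIso τ S S') (h2 : EqIso τ S' S'') :
    EqIso τ S S'' := by
  obtain ⟨f, f1, f2, f3, f4⟩ := h1
  obtain ⟨g, g1, g2, g3, g4⟩ := h2
  refine ⟨g ∘ₗ f, fun s hs => g1 _ (f1 s hs), ?_, ?_, ?_⟩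
  · intro m s hs
    rw [LinearMap.comp_apply, f2 m s hs, g2 m _ (f1 s hs), LinearMap.comp_apply]
  · intro s hs h
    exact f3 s hs (g3 _ (f1 s hs) h)
  · intro s'' hs''
    obtain ⟨s', hs', rfl⟩ := g4 s'' hs''
    obtain ⟨s, hs, rfl⟩ := f4 s' hs'
    exact ⟨s, hs, rfl⟩

theorem EqIso.symm {S S' : Submodule K V} (hS : Inv τ S) (h : EqIso τ S S') : EqIso τ S' S := by
  obtain ⟨f, f1, f2, f3, f4⟩ := h
  -- a left inverse of `f` on `S`
  have hinj : LinearMap.ker (f ∘ₗ S.subtype) = ⊥ := by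
    rw [LinearMap.ker_eq_bot']
    intro s hs
    exact Subtype.ext (f3 s.1 s.2 hs)
  obtain ⟨g, hg⟩ := LinearMap.exists_leftInverse_of_injective (f ∘ₗ S.subtype) hinj
  have hg' : ∀ s ∈ S, ((g (f s) : S) : V) = s := by
    intro s hs
    have := congrArg (fun φ : S →ₗ[K] S => ((φ ⟨s, hs⟩ : S) : V)) hg
    simpa using this
  refine ⟨S.subtype ∘ₗ g, fun s' _ => (g s').2, ?_, ?_, ?_⟩
  · intro m s' hs'
    obtain ⟨s, hs, rfl⟩ := f4 s' hs'
    rw [← f2 m s hs]
    simp only [LinearMap.comp_apply, Submodule.subtype_apply]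
    rw [hg' _ (hS m s hs), hg' s hs]
  · intro s' hs' h0
    obtain ⟨s, hs, rfl⟩ := f4 s' hs'
    have := hg' s hs
    simp only [LinearMap.comp_apply, Submodule.subtype_apply] at h0
    rw [h0] at this
    rw [← this, map_zero]
  · intro s hs
    exact ⟨f s, f1 s hs, by simpa using hg' s hs⟩

/-- A nonzero equivariant map between simple invariant subspaces is an isomorphism. -/
theorem EqIso.of_map {S S' : Submodule K V} (hS : Simple τ S) (hS' : Simple τ S') (f : V →ₗ[K] V)
    (f1 : ∀ s ∈ S, f s ∈ S') (f2 : ∀ g, ∀ s ∈ S, f (τ g s) = τ g (f s)) (f0 : ∃ s ∈ S, f s ≠ 0) :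
    EqIso τ S S' := by
  obtain ⟨s0, hs0, hfs0⟩ := f0
  refine ⟨f, f1, f2, ?_, ?_⟩
  · -- kernel
    have hker : Inv τ (S ⊓ LinearMap.ker f) := by
      intro g s hs
      have h2 : f s = 0 := LinearMap.mem_ker.mp hs.2
      refine Submodule.mem_inf.mpr ⟨hS.1 g s hs.1, ?_⟩
      rw [LinearMap.mem_ker, f2 g s hs.1, h2, map_zero]
    rcases hS.2.2 _ hker inf_le_left with h | h
    · intro s hs h0
      have : s ∈ S ⊓ LinearMap.ker f := ⟨hs, LinearMap.mem_ker.mpr h0⟩
      rw [h] at this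
      exact (Submodule.mem_bot K).mp this
    · exfalso
      have : s0 ∈ S ⊓ LinearMap.ker f := by rw [h]; exact hs0
      exact hfs0 (LinearMap.mem_ker.mp this.2)
  · -- image
    have him : Inv τ (S.map f) := by
      rintro g _ ⟨s, hs, rfl⟩
      exact ⟨τ g s, hS.1 g s hs, f2 g s hs⟩
    have hle : S.map f ≤ S' := by
      rintro _ ⟨s, hs, rfl⟩
      exact f1 s hs
    rcases hS'.2.2 _ him hle with h | h
    · exfalso
      have : f s0 ∈ S.map f := ⟨s0, hs0, rfl⟩
      rw [h] at this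
      exact hfs0 ((Submodule.mem_bot K).mp this)
    · intro s' hs'
      rw [← h] at hs'
      obtain ⟨s, hs, rfl⟩ := hs'
      exact ⟨s, hs, rfl⟩

/-- A simple invariant subspace of a finite sum of simple invariant subspaces is isomorphic to one
of them. -/
theorem exists_eqIso_of_le_biSup {ι : Type*} (T : ι → Submodule K V) (I : Finset ι)
    (hT : ∀ i ∈ I, Simple τ (T i)) {S : Submodule K V} (hS : Simple τ S)
    (hle : S ≤ ⨆ i ∈ I, T i) : ∃ i ∈ I, EqIso τ S (T i) := by
  classical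
  induction I using Finset.induction_on with
  | empty =>
    exfalso
    simp only [Finset.notMem_empty, iSup_false, iSup_bot, le_bot_iff] at hle
    exact hS.2.1 hle
  | insert k I hk ih =>
    set U : Submodule K V := ⨆ i ∈ I, T i with hU
    have hUinv : Inv τ U := by
      apply Inv.iSup
      intro i
      apply Inv.iSup
      intro hi
      exact (hT i (Finset.mem_insert_of_mem hi)).1
    by_cases hSU : S ≤ U
    · obtain ⟨i, hi, h⟩ := ih (fun i hi => hT i (Finset.mem_insert_of_mem hi)) hSU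
      exact ⟨i, Finset.mem_insert_of_mem hi, h⟩
    · refine ⟨k, Finset.mem_insert_self k I, ?_⟩
      have hTk := hT k (Finset.mem_insert_self k I)
      have hle' : S ≤ T k ⊔ U := by
        rw [Finset.iSup_insert] at hle
        exact hle
      -- `S ⊓ U = ⊥`
      have hSU0 : S ⊓ U = ⊥ := by
        rcases hS.2.2 _ (hS.1.inf hUinv) inf_le_left with h | h
        · exact h
        · exact absurd (h ▸ inf_le_right) hSU
      -- `T k ⊓ U = ⊥`
      have hTU0 : T k ⊓ U = ⊥ := by
        rcases hTk.2.2 _ (hTk.1.inf hUinv) inf_le_left with h | h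
        · exact h
        · exfalso
          apply hSU
          have : T k ≤ U := h ▸ inf_le_right
          exact hle'.trans (sup_le this le_rfl)
      obtain ⟨C, hTC, hC⟩ := (disjoint_iff.mpr hTU0).exists_isCompl
      set π : V →ₗ[K] V := C.projection U hC with hπ
      have hπC : ∀ c ∈ C, π c = c := by
        intro c hc
        exact Submodule.projection_apply_of_mem_left hC hc
      have hπU : ∀ u ∈ U, π u = 0 := by
        intro u hu
        exact Submodule.projection_apply_of_mem_right hC hu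
      have hdecomp : ∀ s ∈ S, ∃ t ∈ T k, ∃ u ∈ U, s = t + u := by
        intro s hs
        obtain ⟨t, ht, u, hu, h⟩ := Submodule.mem_sup.mp (hle' hs)
        exact ⟨t, ht, u, hu, h.symm⟩
      apply EqIso.of_map hS hTk π
      · intro s hs
        obtain ⟨t, ht, u, hu, rfl⟩ := hdecomp s hs
        rw [map_add, hπC t (hTC ht), hπU u hu, add_zero]
        exact ht
      · intro g s hs
        obtain ⟨t, ht, u, hu, rfl⟩ := hdecomp s hs
        rw [map_add, map_add, map_add, hπC t (hTC ht), hπU u hu, add_zero,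
          hπC _ (hTC (hTk.1 g t ht)), hπU _ (hUinv g u hu), add_zero]
      · obtain ⟨s, hs, hs0⟩ := Submodule.exists_mem_ne_zero_of_ne_bot hS.2.1
        refine ⟨s, hs, ?_⟩
        obtain ⟨t, ht, u, hu, rfl⟩ := hdecomp s hs
        rw [map_add, hπC t (hTC ht), hπU u hu, add_zero]
        intro ht0
        rw [ht0, zero_add] at hs hs0
        have : u ∈ S ⊓ U := ⟨hs, hu⟩
        rw [hSU0] at this
        exact hs0 ((Submodule.mem_bot K).mp this)

end Cfsg.Agent.Helper31.HH
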