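import Mathlib
import Cfsg.Agent.Lib.Helper31.HHSimple

set_option autoImplicit false

/-!
# Shult–Gross: the intermediate statements
-/

namespace Cfsg.Agent.Helper31.SG

open Module Subgroup

/-- `x` acts fixed-point-freely on every `x`-invariant section `Q / Q₂` of `Q`. -/
def FpfOn {G : Type*} [Group G] (x : G) (Q : Subgroup G) : Prop :=
  ∀ Q₂ : Subgroup G, Q₂ ≤ Q → (∀ g ∈ Q₂, x * g * x⁻¹ ∈ Q₂) →
    ∀ g ∈ Q, x * g * x⁻¹ * g⁻¹ ∈ Q₂ → g ∈ Q₂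

/-- The linear statement (representation form), bounded by `N`. -/
def SGStmt.{uG, uK, uV} (K : Type uK) [Field K] (p q N : ℕ) : Prop :=
  ∀ (V : Type uV) [AddCommGroup V] [Module K V] [FiniteDimensional K V]
    (G : Type uG) [Group G] [Finite G] (ρ : Representation K G V) (Q : Subgroup G) (x : G)
    (n : ℕ),
    finrank K V + Nat.card Q ≤ N → IsPGroup q Q → (∀ g ∈ Q, x * g * x⁻¹ ∈ Q) →
    x ^ p ^ (n + 1) = 1 → (∀ v : V, ρ x v = v → v = 0) → FpfOn x Q →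
    ∀ g ∈ Q, ρ g * ρ (x ^ p ^ n) = ρ (x ^ p ^ n) * ρ g

/-- The minimal faithful irreducible configuration is impossible. -/
def FinalStmt.{uG, uK, uV} (K : Type uK) [Field K] (p q : ℕ) : Prop :=
  ∀ (V : Type uV) [AddCommGroup V] [Module K V] [FiniteDimensional K V] [Nontrivial V]
    (G : Type uG) [Group G] [Finite G] (ρ : Representation K G V), Function.Injective ρ →
    ∀ (Q : Subgroup G) [Q.Normal], IsPGroup q Q → ∀ (x : G) (n : ℕ), Q ⊔ zpowers x = ⊤ →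
    orderOf x = p ^ (n + 1) → (∃ g ∈ Q, g * x ^ p ^ n ≠ x ^ p ^ n * g) →
    (∀ Q₁ : Subgroup G, Q₁ ≤ Q → Q₁ ≠ Q → (∀ g ∈ Q₁, x * g * x⁻¹ ∈ Q₁) →
      ∀ g ∈ Q₁, g * x ^ p ^ n = x ^ p ^ n * g) →
    (∀ U : Submodule K V, HH.Inv ρ U → U = ⊥ ∨ U = ⊤) →
    (∀ v : V, ρ x v = v → v = 0) → (∀ g ∈ Q, x * g * x⁻¹ = g → g = 1) → False

/-- The linear statement in group form. -/
def LinStmt.{u} (p : ℕ) : Prop :=
  ∀ (V : Type u) [Group V] [Finite V], (∀ a b : V, a * b = b * a) →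
    ∀ (q r : ℕ), q.Prime → r.Prime → p ≠ q → q ≠ r → p ≠ r → (∀ v : V, v ^ r = 1) →
    ∀ (Q : Subgroup (MulAut V)), IsPGroup q Q → ∀ (x : MulAut V) (n : ℕ), x ^ p ^ (n + 1) = 1 →
    (∀ g ∈ Q, x * g * x⁻¹ ∈ Q) → (∀ v : V, x v = v → v = 1) →
    (∀ g ∈ Q, x * g * x⁻¹ = g → g = 1) → ∀ g ∈ Q, g * x ^ p ^ n = x ^ p ^ n * g

/-- The key group-theoretic statement. -/
def KeyStmt.{u} (p : ℕ) : Prop :=
  ∀ (G : Type u) [Group G] [Finite G], Group.IsSolvable G → ∀ (σ : MulAut G) (n : ℕ),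
    σ ^ p ^ (n + 1) = 1 → (∀ g : G, σ g = g → g = 1) →
    ∃ N : Subgroup G, N.Normal ∧ (∀ g ∈ N, σ g ∈ N) ∧ Group.IsNilpotent N ∧
      ∀ g : G, g⁻¹ * (σ ^ p ^ n) g ∈ N

end Cfsg.Agent.Helper31.SG
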