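import Mathlib
import Cfsg.Agent.Lib.Helper31.SGDefs

set_option autoImplicit false

/-!
# Gross's theorem for `p = 2` (S3795): the intermediate statements
-/

namespace Cfsg.Agent.Helper31.G2

open Module Subgroup Cfsg.Agent.Helper31.SG

universe u uG uK uV

/-- `g⁻¹ (t g t⁻¹)`, the "commutator of `g` with the operator `t`". -/
def cm {G : Type*} [Group G] (t g : G) : G := g⁻¹ * (t * g * t⁻¹)

/-- Every `2 ^ (n+1)`-th root of unity of order `2 ^ (n+1)` or `2 ^ n` is an eigenvalue of `ρ x`. -/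
def EigConcl {K : Type*} [Field K] {V : Type*} [AddCommGroup V] [Module K V] {G : Type*} [Group G]
    (ρ : Representation K G V) (x : G) (n : ℕ) : Prop :=
  ∀ ζ : K, ζ ^ 2 ^ (n + 1) = 1 → ζ ^ 2 ^ (n - 1) ≠ 1 → ∃ v : V, v ≠ 0 ∧ ρ x v = ζ • v

/-- (TOP), representation form, bounded by `N`: if `x ^ 2 ^ n` does not centralise `Q` on `V`
(`x` without fixed vectors on `V` and fixed-point-free on the sections of `Q`), then `ρ x` has all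
eigenvalues of order `2 ^ (n+1)` and `2 ^ n`. -/
def TopStmt.{vG, vK, vV} (K : Type vK) [Field K] (q N : ℕ) : Prop :=
  ∀ (V : Type vV) [AddCommGroup V] [Module K V] [FiniteDimensional K V]
    (G : Type vG) [Group G] [Finite G] (ρ : Representation K G V) (Q : Subgroup G) (x : G)
    (n : ℕ),
    finrank K V + Nat.card Q ≤ N → 1 ≤ n → IsPGroup q Q → (∀ g ∈ Q, x * g * x⁻¹ ∈ Q) →
    x ^ 2 ^ (n + 1) = 1 → (∀ v : V, ρ x v = v → v = 0) → FpfOn x Q →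
    (∃ g ∈ Q, ρ g * ρ (x ^ 2 ^ n) ≠ ρ (x ^ 2 ^ n) * ρ g) → EigConcl ρ x n

/-- (TOP) in the minimal faithful irreducible configuration (hypotheses of `SG.FinalStmt`, `p = 2`). -/
def TopFinal.{vG, vK, vV} (K : Type vK) [Field K] (q : ℕ) : Prop :=
  ∀ (V : Type vV) [AddCommGroup V] [Module K V] [FiniteDimensional K V] [Nontrivial V]
    (G : Type vG) [Group G] [Finite G] (ρ : Representation K G V), Function.Injective ρ →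
    ∀ (Q : Subgroup G) [Q.Normal], IsPGroup q Q → ∀ (x : G) (n : ℕ), 1 ≤ n →
    Q ⊔ zpowers x = ⊤ →
    orderOf x = 2 ^ (n + 1) → (∃ g ∈ Q, g * x ^ 2 ^ n ≠ x ^ 2 ^ n * g) →
    (∀ Q₁ : Subgroup G, Q₁ ≤ Q → Q₁ ≠ Q → (∀ g ∈ Q₁, x * g * x⁻¹ ∈ Q₁) →
      ∀ g ∈ Q₁, g * x ^ 2 ^ n = x ^ 2 ^ n * g) →
    (∀ U : Submodule K V, HH.Inv ρ U → U = ⊥ ∨ U = ⊤) →
    (∀ v : V, ρ x v = v → v = 0) → (∀ g ∈ Q, x * g * x⁻¹ = g → g = 1) → EigConcl ρ x n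

/-- (TOP), group form: `W` elementary abelian `s`-group, `Γ` acting on `W` through `φ`. -/
def TopGrp.{v} : Prop :=
  ∀ (W : Type v) [Group W] [Finite W], (∀ a b : W, a * b = b * a) →
    ∀ (q s : ℕ), q.Prime → s.Prime → q ≠ 2 → s ≠ 2 → q ≠ s → (∀ w : W, w ^ s = 1) →
    ∀ (Γ : Type v) [Group Γ] [Finite Γ] (φ : Γ →* MulAut W) (Q : Subgroup Γ), IsPGroup q Q →
    ∀ (x : Γ) (n : ℕ), 1 ≤ n → x ^ 2 ^ (n + 1) = 1 → (∀ g ∈ Q, x * g * x⁻¹ ∈ Q) →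
    (∀ w : W, φ x w = w → w = 1) → FpfOn x Q →
    (∃ g ∈ Q, φ g * φ (x ^ 2 ^ n) ≠ φ (x ^ 2 ^ n) * φ g) →
    s ^ 2 ^ n ≤ Nat.card {w : W // φ (x ^ 2 ^ n) w = w⁻¹} ∧
    ∃ w : W, φ (x ^ 2 ^ n) w = w ∧ φ (x ^ 2 ^ (n - 1)) w ≠ w

/-- The three-level statement, representation form, bounded by `N`. -/
def TTStmt.{vG, vK, vV} (K : Type vK) [Field K] (q s N : ℕ) : Prop :=
  ∀ (V : Type vV) [AddCommGroup V] [Module K V] [FiniteDimensional K V]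
    (G : Type vG) [Group G] [Finite G] (ρ : Representation K G V) (S Q : Subgroup G) (x : G)
    (n : ℕ),
    Nat.card S + Nat.card Q ≤ N → IsPGroup s S → IsPGroup q Q →
    (∀ g ∈ Q, ∀ a ∈ S, g * a * g⁻¹ ∈ S) → (∀ a ∈ S, x * a * x⁻¹ ∈ S) →
    (∀ g ∈ Q, x * g * x⁻¹ ∈ Q) → x ^ 2 ^ (n + 1) = 1 → (∀ v : V, ρ x v = v → v = 0) →
    FpfOn x S → FpfOn x Q →
    ∀ g ∈ Q, ∀ a ∈ S, ρ (cm (x ^ 2 ^ n) g) * ρ a = ρ a * ρ (cm (x ^ 2 ^ n) g)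

/-- The three-level statement: the minimal faithful configuration is impossible. -/
def TTFinal.{vG, vK, vV} (K : Type vK) [Field K] (q s : ℕ) : Prop :=
  ∀ (V : Type vV) [AddCommGroup V] [Module K V] [FiniteDimensional K V]
    (G : Type vG) [Group G] [Finite G] (ρ : Representation K G V), Function.Injective ρ →
    ∀ (S Q : Subgroup G) (x : G) (n : ℕ), 1 ≤ n → IsPGroup s S → IsPGroup q Q →
    (∀ g ∈ Q, ∀ a ∈ S, g * a * g⁻¹ ∈ S) → (∀ a ∈ S, x * a * x⁻¹ ∈ S) →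
    (∀ g ∈ Q, x * g * x⁻¹ ∈ Q) → x ^ 2 ^ (n + 1) = 1 → (∀ v : V, ρ x v = v → v = 0) →
    FpfOn x S → FpfOn x Q →
    (∃ g ∈ Q, ∃ a ∈ S, cm (x ^ 2 ^ n) g * a ≠ a * cm (x ^ 2 ^ n) g) →
    (∀ Q₁ : Subgroup G, Q₁ ≤ Q → Q₁ ≠ Q → (∀ g ∈ Q₁, x * g * x⁻¹ ∈ Q₁) →
      ∀ g ∈ Q₁, ∀ a ∈ S, cm (x ^ 2 ^ n) g * a = a * cm (x ^ 2 ^ n) g) →
    (∀ S₁ : Subgroup G, S₁ ≤ S → S₁ ≠ S → (∀ g ∈ Q, ∀ a ∈ S₁, g * a * g⁻¹ ∈ S₁) →
      (∀ a ∈ S₁, x * a * x⁻¹ ∈ S₁) →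
      ∀ g ∈ Q, ∀ a ∈ S₁, cm (x ^ 2 ^ n) g * a = a * cm (x ^ 2 ^ n) g) → False

/-- The three-level statement in group form. -/
def TowerStmt.{v} : Prop :=
  ∀ (V : Type v) [Group V] [Finite V], (∀ a b : V, a * b = b * a) →
    ∀ (q s r : ℕ), q.Prime → s.Prime → r.Prime → q ≠ 2 → s ≠ 2 → r ≠ 2 → q ≠ s → s ≠ r →
    (∀ v : V, v ^ r = 1) →
    ∀ (S Q : Subgroup (MulAut V)), IsPGroup s S → IsPGroup q Q →
    (∀ g ∈ Q, ∀ a ∈ S, g * a * g⁻¹ ∈ S) →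
    ∀ (x : MulAut V) (n : ℕ), x ^ 2 ^ (n + 1) = 1 →
    (∀ a ∈ S, x * a * x⁻¹ ∈ S) → (∀ g ∈ Q, x * g * x⁻¹ ∈ Q) →
    (∀ v : V, x v = v → v = 1) → (∀ a ∈ S, x * a * x⁻¹ = a → a = 1) →
    (∀ g ∈ Q, x * g * x⁻¹ = g → g = 1) →
    ∀ g ∈ Q, ∀ a ∈ S, cm (x ^ 2 ^ n) g * a = a * cm (x ^ 2 ^ n) g

/-- The key group-theoretic statement for `p = 2`: `[G, σ^(2^n)]` lies in a normal `σ`-invariant
subgroup `N` of Fitting height at most two. -/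
def Key2Stmt.{v} : Prop :=
  ∀ (G : Type v) [Group G] [Finite G], Group.IsSolvable G → ∀ (σ : MulAut G) (n : ℕ),
    σ ^ 2 ^ (n + 1) = 1 → (∀ g : G, σ g = g → g = 1) →
    ∃ N₁ N : Subgroup G, N₁ ≤ N ∧ N₁.Normal ∧ N.Normal ∧ (∀ g ∈ N₁, σ g ∈ N₁) ∧
      (∀ g ∈ N, σ g ∈ N) ∧ Group.IsNilpotent N₁ ∧ (∃ k : ℕ, N.lowerCentralSeries k ≤ N₁) ∧
      ∀ g : G, g⁻¹ * (σ ^ 2 ^ n) g ∈ N

end Cfsg.Agent.Helper31.G2
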