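import Mathlib
import Cfsg.Prelude.Def_Solvable
import Cfsg.Prelude.Def_OddOrderLocal

set_option autoImplicit false

universe u

namespace Cfsg.Agent.Helper31

/-- In a finite group, a join of a family of subgroups closed under binary joins and containing `⊥`
again lies in the family. -/
theorem sSup_mem_of_closed {X : Type*} [Group X] [Finite X] (S : Set (Subgroup X)) (h0 : ⊥ ∈ S)
    (hsup : ∀ A ∈ S, ∀ B ∈ S, A ⊔ B ∈ S) : sSup S ∈ S := by
  classical
  have hfin : S.Finite := Set.toFinite S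
  have : sSup S = hfin.toFinset.sup id := by
    rw [Finset.sup_id_eq_sSup]
    simp
  rw [this]
  apply Finset.sup_induction (p := fun N => N ∈ S) h0 hsup
  intro b hb
  simpa using hb

theorem relIndex_sup_of_le_normalizer {X : Type*} [Group X] (H K : Subgroup X)
    (hLE : H ≤ Subgroup.normalizer (K : Set X)) : K.relIndex (H ⊔ K) = K.relIndex H := by
  let _ := Subgroup.normal_subgroupOf_of_le_normalizer hLE
  let _ := Subgroup.normal_subgroupOf_sup_of_le_normalizer hLE
  exact Nat.card_congr (QuotientGroup.quotientInfEquivProdNormalizerQuotient H K hLE).toEquiv.symm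

theorem card_sup_dvd_of_le_normalizer {X : Type*} [Group X] [Finite X] (H K : Subgroup X)
    (hLE : H ≤ Subgroup.normalizer (K : Set X)) : Nat.card ↥(H ⊔ K) ∣ Nat.card ↥H * Nat.card ↥K := by
  have h1 : Nat.card ↥(H ⊔ K) = Nat.card ↥K * K.relIndex (H ⊔ K) := by
    rw [← Subgroup.relIndex_bot_left, ← Subgroup.relIndex_bot_left (H := K)]
    exact (Subgroup.relIndex_mul_relIndex ⊥ K (H ⊔ K) bot_le le_sup_right).symm
  rw [h1, relIndex_sup_of_le_normalizer H K hLE, mul_comm]
  exact Nat.mul_dvd_mul_right (Subgroup.relIndex_dvd_card K H) _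

theorem card_sup_dvd {X : Type*} [Group X] [Finite X] (H K : Subgroup X) [K.Normal] :
    Nat.card ↥(H ⊔ K) ∣ Nat.card ↥H * Nat.card ↥K :=
  card_sup_dvd_of_le_normalizer H K Subgroup.le_normalizer_of_normal

/-- A set of natural numbers closed under divisors of products, containing `1`. -/
structure CardClass (𝒞 : Set ℕ) : Prop where
  one_mem : 1 ∈ 𝒞
  dvd_mul : ∀ a b c : ℕ, a ∈ 𝒞 → b ∈ 𝒞 → c ∣ a * b → c ∈ 𝒞

theorem CardClass.dvd {𝒞 : Set ℕ} (h : CardClass 𝒞) {a c : ℕ} (ha : a ∈ 𝒞) (hc : c ∣ a) : c ∈ 𝒞 :=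
  h.dvd_mul a 1 c ha h.one_mem (by simpa using hc)

theorem CardClass.mul {𝒞 : Set ℕ} (h : CardClass 𝒞) {a b : ℕ} (ha : a ∈ 𝒞) (hb : b ∈ 𝒞) :
    a * b ∈ 𝒞 :=
  h.dvd_mul a b _ ha hb dvd_rfl

/-- The core attached to a class of orders: the join of the normal subgroups with order in the
class. -/
def cardCore (𝒞 : Set ℕ) (X : Type*) [Group X] : Subgroup X :=
  sSup {N : Subgroup X | N.Normal ∧ Nat.card ↥N ∈ 𝒞}

instance cardCore_normal (𝒞 : Set ℕ) (X : Type*) [Group X] : (cardCore 𝒞 X).Normal :=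
  Subgroup.sSup_normal _ (fun _ h => h.1)

theorem cardCore_mem {𝒞 : Set ℕ} (h : CardClass 𝒞) (X : Type*) [Group X] [Finite X] :
    Nat.card ↥(cardCore 𝒞 X) ∈ 𝒞 := by
  have := sSup_mem_of_closed {N : Subgroup X | N.Normal ∧ Nat.card ↥N ∈ 𝒞}
    ⟨inferInstance, by rw [Subgroup.card_bot]; exact h.one_mem⟩
    (fun A hA B hB => by
      have := hA.1
      have := hB.1
      exact ⟨inferInstance, h.dvd_mul _ _ _ hA.2 hB.2 (card_sup_dvd A B)⟩)
  exact this.2

theorem le_cardCore {𝒞 : Set ℕ} {X : Type*} [Group X] (N : Subgroup X) (hN : N.Normal)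
    (hc : Nat.card ↥N ∈ 𝒞) : N ≤ cardCore 𝒞 X :=
  le_sSup ⟨hN, hc⟩

theorem cardCore_characteristic (𝒞 : Set ℕ) (X : Type*) [Group X] :
    (cardCore 𝒞 X).Characteristic := by
  rw [Subgroup.characteristic_iff_map_le]
  intro ϕ
  rw [Subgroup.map_le_iff_le_comap]
  apply sSup_le
  rintro N ⟨hN, hc⟩
  rw [← Subgroup.map_le_iff_le_comap]
  apply le_cardCore
  · exact hN.map _ ϕ.surjective
  · rw [Subgroup.card_map_of_injective ϕ.injective]; exact hc

/-- cardinality of a preimage under a surjection -/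
theorem card_comap_of_surjective {X Y : Type*} [Group X] [Group Y] [Finite X] (f : X →* Y)
    (hf : Function.Surjective f) (N : Subgroup Y) :
    Nat.card ↥(N.comap f) = Nat.card ↥N * Nat.card ↥f.ker := by
  have : Finite Y := Finite.of_surjective f hf
  have h1 : Nat.card ↥(N.comap f) * (N.comap f).index = Nat.card X := Subgroup.card_mul_index _
  have h2 : (N.comap f).index = N.index := Subgroup.index_comap_of_surjective N hf
  have h3 : Nat.card ↥N * N.index = Nat.card Y := Subgroup.card_mul_index _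
  have h4 : Nat.card X = Nat.card Y * Nat.card ↥f.ker := by
    have := Subgroup.card_eq_card_quotient_mul_card_subgroup f.ker
    rw [this]
    congr 1
    exact Nat.card_congr (QuotientGroup.quotientKerEquivOfSurjective f hf).toEquiv
  have hi : N.index ≠ 0 := Subgroup.index_ne_zero_of_finite
  have : Nat.card ↥(N.comap f) * N.index = (Nat.card ↥N * Nat.card ↥f.ker) * N.index := by
    calc Nat.card ↥(N.comap f) * N.index = Nat.card X := by rw [← h2, h1]
      _ = (Nat.card ↥N * N.index) * Nat.card ↥f.ker := by rw [h4, h3]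
      _ = (Nat.card ↥N * Nat.card ↥f.ker) * N.index := by ring
  exact Nat.eq_of_mul_eq_mul_right (Nat.pos_of_ne_zero hi) this

theorem cardCore_quotient_eq_bot {𝒞 : Set ℕ} (h : CardClass 𝒞) (X : Type*) [Group X] [Finite X] :
    cardCore 𝒞 (X ⧸ cardCore 𝒞 X) = ⊥ := by
  rw [eq_bot_iff]
  apply sSup_le
  rintro N ⟨hN, hc⟩
  have hcard := card_comap_of_surjective (QuotientGroup.mk' (cardCore 𝒞 X))
    (QuotientGroup.mk'_surjective _) N
  rw [QuotientGroup.ker_mk'] at hcard
  have hle : N.comap (QuotientGroup.mk' (cardCore 𝒞 X)) ≤ cardCore 𝒞 X := by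
    apply le_cardCore
    · exact hN.comap _
    · rw [hcard]; exact h.mul hc (cardCore_mem h X)
  intro x hx
  obtain ⟨y, rfl⟩ := QuotientGroup.mk'_surjective (cardCore 𝒞 X) x
  have : y ∈ cardCore 𝒞 X := hle hx
  rw [Subgroup.mem_bot]
  exact (QuotientGroup.eq_one_iff y).mpr this

/-- A subnormal subgroup with order in the class lies in the core. -/
theorem subnormal_le_cardCore {𝒞 : Set ℕ} (h : CardClass 𝒞) :
    ∀ (n : ℕ) (X : Type u) [Group X] [Finite X], Nat.card X = n →
      ∀ K : Subgroup X, K.IsSubnormal → Nat.card ↥K ∈ 𝒞 → K ≤ cardCore 𝒞 X := by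
  intro n
  induction n using Nat.strong_induction_on with
  | _ n ih =>
    intro X _ _ hn K hK hc
    by_cases hKt : K = ⊤
    · subst hKt
      exact le_cardCore ⊤ inferInstance hc
    · obtain ⟨M, hMn, hKM, hMt⟩ := hK.exists_normal_and_le_and_lt_top_of_ne hKt
      have hcardM : Nat.card ↥M < n := by
        rw [← hn]
        have hlt : (M : Set X) ⊂ Set.univ := by
          rw [Set.ssubset_univ_iff]
          intro hM
          exact hMt.ne (by rwa [Subgroup.coe_eq_univ] at hM)
        rw [← Nat.card_congr (Equiv.Set.univ X), ← SetLike.coe_sort_coe]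
        exact Set.Finite.card_lt_card (Set.toFinite _) hlt  
      have hsub : (K.subgroupOf M).IsSubnormal := hK.subgroupOf
      have hcK : Nat.card ↥(K.subgroupOf M) ∈ 𝒞 := by
        rw [Nat.card_congr (Subgroup.subgroupOfEquivOfLe hKM).toEquiv]; exact hc
      have h1 := ih _ hcardM ↥M rfl (K.subgroupOf M) hsub hcK
      have := cardCore_characteristic 𝒞 ↥M
      have := hMn
      have hnorm : ((cardCore 𝒞 ↥M).map M.subtype).Normal :=
        ConjAct.normal_of_characteristic_of_normal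
      have h2 : (cardCore 𝒞 ↥M).map M.subtype ≤ cardCore 𝒞 X := by
        apply le_cardCore _ hnorm
        rw [Subgroup.card_map_of_injective M.subtype_injective]
        exact cardCore_mem h ↥M
      intro x hx
      apply h2
      exact ⟨⟨x, hKM hx⟩, h1 (Subgroup.mem_subgroupOf.mpr hx), rfl⟩

theorem IsSubnormal.le_cardCore {𝒞 : Set ℕ} (h : CardClass 𝒞) {X : Type u} [Group X] [Finite X]
    {K : Subgroup X} (hK : K.IsSubnormal) (hc : Nat.card ↥K ∈ 𝒞) : K ≤ cardCore 𝒞 X :=
  subnormal_le_cardCore h _ X rfl K hK hc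

/-! ### The three instances -/

def piClass (π : Set ℕ) : Set ℕ := {n | ∀ p : ℕ, p.Prime → p ∣ n → p ∈ π}

theorem piClass_cardClass (π : Set ℕ) : CardClass (piClass π) where
  one_mem := fun p hp hd => absurd (Nat.dvd_one.mp hd) hp.one_lt.ne'
  dvd_mul := fun a b c ha hb hc p hp hd => by
    rcases (Nat.Prime.dvd_mul hp).mp (hd.trans hc) with h | h
    · exact ha p hp h
    · exact hb p hp h

theorem piCore_eq_cardCore (π : Set ℕ) (X : Type u) [Group X] :
    Cfsg.piCore π X = cardCore (piClass π) X := rfl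

def coprimeClass (p : ℕ) : Set ℕ := {n | n.Coprime p}

theorem coprimeClass_cardClass (p : ℕ) : CardClass (coprimeClass p) where
  one_mem := Nat.coprime_one_left p
  dvd_mul := fun _ _ _ ha hb hc => Nat.Coprime.coprime_dvd_left hc (Nat.Coprime.mul_left ha hb)

theorem pPrimeCore_eq_cardCore (p : ℕ) (X : Type*) [Group X] :
    Cfsg.pPrimeCore p X = cardCore (coprimeClass p) X := rfl

def powClass (p : ℕ) : Set ℕ := {n | ∃ k : ℕ, n = p ^ k}

theorem powClass_cardClass (p : ℕ) [hp : Fact p.Prime] : CardClass (powClass p) where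
  one_mem := ⟨0, by simp⟩
  dvd_mul := fun a b c ha hb hc => by
    obtain ⟨i, rfl⟩ := ha
    obtain ⟨j, rfl⟩ := hb
    rw [← pow_add] at hc
    obtain ⟨k, -, hk⟩ := (Nat.dvd_prime_pow hp.out).mp hc
    exact ⟨k, hk⟩

theorem pCore_eq_cardCore (p : ℕ) [hp : Fact p.Prime] (X : Type*) [Group X] [Finite X] :
    Cfsg.pCore p X = cardCore (powClass p) X := by
  unfold Cfsg.pCore cardCore
  congr 1
  ext N
  simp only [Set.mem_ofPred_eq, powClass]
  constructor
  · rintro ⟨h1, h2⟩
    exact ⟨h1, IsPGroup.iff_card.mp h2⟩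
  · rintro ⟨h1, h2⟩
    exact ⟨h1, IsPGroup.iff_card.mpr h2⟩

end Cfsg.Agent.Helper31
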