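import Mathlib
import Cfsg.Agent.Lib.Helper31.HHSimple

set_option autoImplicit false

/-!
# Clifford theory for a cyclic extension (elementary form)

`τ` a representation of `M` on `V`, `A` an invertible operator normalising `τ` (`A τ(g) = τ(α g) A`).
If `V` is irreducible under `τ` and `A`, with `A ^ (p ^ n) = 1`, then either `V` is `τ`-irreducible,
or `V` is "induced": there is a `τ`- and `A ^ p`-invariant `V'` with `V', A V', …, A^(p-1) V'`
independent.
-/

namespace Cfsg.Agent.Helper31.HH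

open Module Finset

variable {K : Type*} [Field K] {V : Type*} [AddCommGroup V] [Module K V]
variable {M : Type*} [Monoid M] {τ : Representation K M V}

/-- `A` (with inverse `Ai`) normalises `τ`, inducing the permutation `α` of `M`. -/
structure Twist (τ : Representation K M V) (A Ai : End K V) (α : Equiv.Perm M) : Prop where
  mul_inv : A * Ai = 1
  inv_mul : Ai * A = 1
  conj : ∀ g, A * τ g = τ (α g) * A

theorem perm_apply_inv (α : Equiv.Perm M) (g : M) : α (α⁻¹ g) = g := α.apply_symm_apply g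

namespace Twist

variable {A Ai : End K V} {α : Equiv.Perm M}

theorem symm (h : Twist τ A Ai α) : Twist τ Ai A α⁻¹ where
  mul_inv := h.inv_mul
  inv_mul := h.mul_inv
  conj := fun g => by
    have h1 := h.conj (α⁻¹ g)
    rw [perm_apply_inv] at h1
    calc Ai * τ g = Ai * (τ g * A) * Ai := by rw [mul_assoc, mul_assoc, h.mul_inv, mul_one]
      _ = Ai * (A * τ (α⁻¹ g)) * Ai := by rw [h1]
      _ = τ (α⁻¹ g) * Ai := by rw [← mul_assoc, h.inv_mul, one_mul]

theorem apply (h : Twist τ A Ai α) (g : M) (v : V) : A (τ g v) = τ (α g) (A v) := by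
  have := congrArg (fun f : End K V => f v) (h.conj g)
  simpa [Module.End.mul_apply] using this

theorem inv_apply (h : Twist τ A Ai α) (v : V) : Ai (A v) = v := by
  have := congrArg (fun f : End K V => f v) h.inv_mul
  simpa [Module.End.mul_apply] using this

theorem apply_inv (h : Twist τ A Ai α) (v : V) : A (Ai v) = v := by
  have := congrArg (fun f : End K V => f v) h.mul_inv
  simpa [Module.End.mul_apply] using this

theorem pow (h : Twist τ A Ai α) (k : ℕ) : Twist τ (A ^ k) (Ai ^ k) (α ^ k) where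
  mul_inv := by
    have hc : Commute A Ai := by rw [Commute, SemiconjBy, h.mul_inv, h.inv_mul]
    rw [← hc.mul_pow, h.mul_inv, one_pow]
  inv_mul := by
    have hc : Commute Ai A := by rw [Commute, SemiconjBy, h.mul_inv, h.inv_mul]
    rw [← hc.mul_pow, h.inv_mul, one_pow]
  conj := by
    induction k with
    | zero => intro g; simp
    | succ k ih =>
      intro g
      rw [pow_succ', mul_assoc, ih g, ← mul_assoc, h.conj, mul_assoc, pow_succ' α,
        Equiv.Perm.mul_apply]

theorem inv_map (h : Twist τ A Ai α) {S : Submodule K V} (hS : Inv τ S) : Inv τ (S.map A) := by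
  rintro g _ ⟨s, hs, rfl⟩
  refine ⟨τ (α⁻¹ g) s, hS _ s hs, ?_⟩
  rw [h.apply, perm_apply_inv]

theorem map_map (h : Twist τ A Ai α) (S : Submodule K V) : (S.map A).map Ai = S := by
  ext v
  constructor
  · rintro ⟨_, ⟨s, hs, rfl⟩, rfl⟩
    rwa [h.inv_apply]
  · intro hv
    exact ⟨A v, ⟨v, hv, rfl⟩, h.inv_apply v⟩

theorem simple_map (h : Twist τ A Ai α) {S : Submodule K V} (hS : Simple τ S) :
    Simple τ (S.map A) := by
  refine ⟨h.inv_map hS.1, ?_, ?_⟩
  · intro h0
    apply hS.2.1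
    rw [← h.map_map S, h0, Submodule.map_bot]
  · intro S' hS' hle
    have h1 : S'.map Ai ≤ S := by
      rw [← h.map_map S]
      exact Submodule.map_mono hle
    rcases hS.2.2 _ (h.symm.inv_map hS') h1 with h2 | h2
    · left
      rw [← h.symm.map_map S', h2, Submodule.map_bot]
    · right
      rw [← h.symm.map_map S', h2]

theorem eqIso_map (h : Twist τ A Ai α) {S S' : Submodule K V} (hS : Inv τ S)
    (hiso : EqIso τ S S') : EqIso τ (S.map A) (S'.map A) := by
  obtain ⟨f, f1, f2, f3, f4⟩ := hiso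
  refine ⟨A ∘ₗ f ∘ₗ Ai, ?_, ?_, ?_, ?_⟩
  · rintro _ ⟨s, hs, rfl⟩
    simp only [LinearMap.comp_apply, h.inv_apply]
    exact ⟨f s, f1 s hs, rfl⟩
  · rintro g _ ⟨s, hs, rfl⟩
    simp only [LinearMap.comp_apply, h.inv_apply]
    have h1 : τ g (A s) = A (τ (α⁻¹ g) s) := by rw [h.apply, perm_apply_inv]
    rw [h1, h.inv_apply, f2 _ s hs, h.apply, perm_apply_inv]
  · rintro _ ⟨s, hs, rfl⟩ h0
    simp only [LinearMap.comp_apply, h.inv_apply] at h0
    have h2 : f s = 0 := by
      have := congrArg Ai h0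
      rwa [h.inv_apply, map_zero] at this
    rw [f3 s hs h2, map_zero]
  · rintro _ ⟨s', hs', rfl⟩
    obtain ⟨s, hs, rfl⟩ := f4 s' hs'
    exact ⟨A s, ⟨s, hs, rfl⟩, by simp only [LinearMap.comp_apply, h.inv_apply]⟩

end Twist


section cyclic

variable {A Ai : End K V} {α : Equiv.Perm M}

/-- If `V` is irreducible under `τ` and `A`, and some simple `τ`-submodule `W` is isomorphic to `A W`,
then `V` is `τ`-irreducible (the base field being algebraically closed). -/
theorem irr_of_eqIso_map [IsAlgClosed K] [FiniteDimensional K V] (h : Twist τ A Ai α)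
    (hirr : ∀ U : Submodule K V, Inv τ U → (∀ u ∈ U, A u ∈ U) → U = ⊥ ∨ U = ⊤)
    {W : Submodule K V} (hW : Simple τ W) (hiso : EqIso τ W (W.map A)) :
    ∀ U : Submodule K V, Inv τ U → U = ⊥ ∨ U = ⊤ := by
  obtain ⟨f, f1, f2, f3, f4⟩ := hiso
  have hTmem : ∀ w ∈ W, (Ai ∘ₗ f) w ∈ W := by
    intro w hw
    obtain ⟨w', hw', hw'A⟩ := f1 w hw
    rw [LinearMap.comp_apply, ← hw'A, h.inv_apply]
    exact hw'
  set T : W →ₗ[K] W := (Ai ∘ₗ f).restrict hTmem with hT
  have hTval : ∀ w : W, ((T w : W) : V) = Ai (f w) := fun w => rfl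
  have hTsurj : ∀ w : W, ∃ s : W, T s = w := by
    intro w
    obtain ⟨s, hs, hfs⟩ := f4 (A w) ⟨w, w.2, rfl⟩
    refine ⟨⟨s, hs⟩, Subtype.ext ?_⟩
    rw [hTval]
    change Ai (f s) = w
    rw [hfs, h.inv_apply]
  have hTtw : ∀ (g : M) (w : W), ((T ⟨τ g w, hW.1 g w w.2⟩ : W) : V) = τ (α⁻¹ g) (T w) := by
    intro g w
    rw [hTval, hTval]
    change Ai (f (τ g w)) = τ (α⁻¹ g) (Ai (f w))
    rw [f2 g w w.2, h.symm.apply]
  -- the space of equivariant maps
  let H : Submodule K (W →ₗ[K] V) :=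
    { carrier := {ψ | ∀ (g : M) (w : W), ψ ⟨τ g w, hW.1 g w w.2⟩ = τ g (ψ w)}
      add_mem' := fun {a b} ha hb g w => by
        rw [LinearMap.add_apply, LinearMap.add_apply, ha g w, hb g w, map_add]
      zero_mem' := fun g w => by simp
      smul_mem' := fun c a ha g w => by
        rw [LinearMap.smul_apply, LinearMap.smul_apply, ha g w, map_smul] }
  have hHmem : ∀ ψ : W →ₗ[K] V, ψ ∈ H ↔ ∀ (g : M) (w : W), ψ ⟨τ g w, hW.1 g w w.2⟩ = τ g (ψ w) :=
    fun ψ => Iff.rfl
  let Ξ : (W →ₗ[K] V) →ₗ[K] (W →ₗ[K] V) :=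
    { toFun := fun ψ => A ∘ₗ ψ ∘ₗ T
      map_add' := fun a b => by
        ext w
        simp
      map_smul' := fun c a => by
        ext w
        simp }
  have hΞ : ∀ ψ : W →ₗ[K] V, ∀ w : W, Ξ ψ w = A (ψ (T w)) := fun ψ w => rfl
  have hΞH : ∀ ψ ∈ H, Ξ ψ ∈ H := by
    intro ψ hψ g w
    rw [hΞ, hΞ]
    have h1 : T ⟨τ g w, hW.1 g w w.2⟩ = ⟨τ (α⁻¹ g) (T w), hW.1 _ _ (T w).2⟩ :=
      Subtype.ext (hTtw g w)
    rw [h1, (hHmem ψ).mp hψ (α⁻¹ g) (T w), h.apply, perm_apply_inv]
  have hsub : W.subtype ∈ H := fun g w => rfl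
  haveI : Nontrivial H := by
    obtain ⟨w, hw, hw0⟩ := Submodule.exists_mem_ne_zero_of_ne_bot hW.2.1
    refine ⟨⟨⟨W.subtype, hsub⟩, 0, ?_⟩⟩
    intro h0
    have h1 := congrArg (fun ψ : H => (ψ : W →ₗ[K] V) ⟨w, hw⟩) h0
    exact hw0 h1
  obtain ⟨μ, hμ⟩ := Module.End.exists_eigenvalue (Ξ.restrict hΞH)
  obtain ⟨ψ₀, hψ₀⟩ := hμ.exists_hasEigenvector
  have hψ₀H : (ψ₀ : W →ₗ[K] V) ∈ H := ψ₀.2
  have hψ₀ne : (ψ₀ : W →ₗ[K] V) ≠ 0 := by
    intro h0
    exact hψ₀.2 (Subtype.ext h0)
  have hψ₀eig : ∀ w : W, A ((ψ₀ : W →ₗ[K] V) (T w)) = μ • (ψ₀ : W →ₗ[K] V) w := by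
    intro w
    have h1 := hψ₀.apply_eq_smul
    have h2 := congrArg (fun ψ : H => (ψ : W →ₗ[K] V) w) h1
    exact h2
  set ψ : W →ₗ[K] V := (ψ₀ : W →ₗ[K] V) with hψ
  -- the range of `ψ` is everything
  have hrange : LinearMap.range ψ = ⊤ := by
    have hinv : Inv τ (LinearMap.range ψ) := by
      rintro g _ ⟨w, rfl⟩
      exact ⟨⟨τ g w, hW.1 g w w.2⟩, (hHmem ψ).mp hψ₀H g w⟩
    have hA : ∀ u ∈ LinearMap.range ψ, A u ∈ LinearMap.range ψ := by
      rintro _ ⟨w, rfl⟩
      obtain ⟨s, rfl⟩ := hTsurj w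
      rw [hψ₀eig s]
      exact Submodule.smul_mem _ _ ⟨s, rfl⟩
    rcases hirr _ hinv hA with h0 | h0
    · exfalso
      apply hψ₀ne
      exact LinearMap.range_eq_bot.mp h0
    · exact h0
  -- `ψ` is injective
  have hker : LinearMap.ker ψ = ⊥ := by
    have hinv : Inv τ ((LinearMap.ker ψ).map W.subtype) := by
      rintro g _ ⟨w, hw, rfl⟩
      refine ⟨⟨τ g w, hW.1 g w w.2⟩, ?_, rfl⟩
      rw [SetLike.mem_coe, LinearMap.mem_ker] at hw ⊢
      rw [(hHmem ψ).mp hψ₀H g w, hw, map_zero]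
    have hle : (LinearMap.ker ψ).map W.subtype ≤ W := by
      rintro _ ⟨w, -, rfl⟩
      exact w.2
    rcases hW.2.2 _ hinv hle with h0 | h0
    · rw [eq_bot_iff]
      intro w hw
      have : (w : V) ∈ (LinearMap.ker ψ).map W.subtype := ⟨w, hw, rfl⟩
      rw [h0, Submodule.mem_bot] at this
      rw [Submodule.mem_bot]
      exact Subtype.ext this
    · exfalso
      apply hψ₀ne
      apply LinearMap.ext
      intro w
      have : (w : V) ∈ (LinearMap.ker ψ).map W.subtype := by rw [h0]; exact w.2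
      obtain ⟨w', hw', hww⟩ := this
      have : w' = w := Subtype.ext hww
      rw [← this]
      exact LinearMap.mem_ker.mp hw'
  intro U hU
  have hinv : Inv τ ((U.comap ψ).map W.subtype) := by
    rintro g _ ⟨w, hw, rfl⟩
    refine ⟨⟨τ g w, hW.1 g w w.2⟩, ?_, rfl⟩
    rw [SetLike.mem_coe, Submodule.mem_comap] at hw ⊢
    rw [(hHmem ψ).mp hψ₀H g w]
    exact hU g _ hw
  have hle : (U.comap ψ).map W.subtype ≤ W := by
    rintro _ ⟨w, -, rfl⟩
    exact w.2
  rcases hW.2.2 _ hinv hle with h0 | h0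
  · left
    rw [eq_bot_iff]
    intro u hu
    have hu' : u ∈ LinearMap.range ψ := by rw [hrange]; trivial
    obtain ⟨w, rfl⟩ := hu'
    have : (w : V) ∈ (U.comap ψ).map W.subtype := ⟨w, hu, rfl⟩
    rw [h0, Submodule.mem_bot] at this
    have hw0 : w = 0 := Subtype.ext this
    rw [hw0, map_zero]
    exact Submodule.zero_mem _
  · right
    rw [eq_top_iff]
    intro u _
    have hu' : u ∈ LinearMap.range ψ := by rw [hrange]; trivial
    obtain ⟨w, rfl⟩ := hu'
    have : (w : V) ∈ (U.comap ψ).map W.subtype := by rw [h0]; exact w.2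
    obtain ⟨w', hw', hww⟩ := this
    have : w' = w := Subtype.ext hww
    rw [← this]
    exact hw'

end cyclic


section dichotomy

variable {A Ai : End K V} {α : Equiv.Perm M}

theorem map_pow_add (A : End K V) (W : Submodule K V) (k l : ℕ) :
    (W.map (A ^ l)).map (A ^ k) = W.map (A ^ (k + l)) := by
  rw [pow_add, ← Submodule.map_comp]
  rfl

theorem map_pow_add_mul {A : End K V} {P : ℕ} (hP : A ^ P = 1) (W : Submodule K V) (k t : ℕ) :
    W.map (A ^ (k + P * t)) = W.map (A ^ k) := by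
  rw [pow_add, pow_mul, hP, one_pow, mul_one]

/-- The Clifford dichotomy for a cyclic `p`-power extension. -/
theorem clifford_dichotomy [IsAlgClosed K] [FiniteDimensional K V] [Nontrivial V]
    (h : Twist τ A Ai α) (p n : ℕ) (hp : p.Prime) (hAP : A ^ (p ^ (n + 1)) = 1)
    (hirr : ∀ U : Submodule K V, Inv τ U → (∀ u ∈ U, A u ∈ U) → U = ⊥ ∨ U = ⊤) :
    (∀ U : Submodule K V, Inv τ U → U = ⊥ ∨ U = ⊤) ∨
    ∃ V' : Submodule K V, V' ≠ ⊥ ∧ Inv τ V' ∧ (∀ v ∈ V', (A ^ p) v ∈ V') ∧
      ∀ i ∈ range p, Disjoint (V'.map (A ^ i)) (⨆ j ∈ (range p).erase i, V'.map (A ^ j)) := by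
  classical
  set P := p ^ (n + 1) with hPdef
  have hPpos : 0 < P := pow_pos hp.pos _
  have hpP : p ∣ P := dvd_pow_self p (Nat.succ_ne_zero n)
  have htop : Inv τ (⊤ : Submodule K V) := fun g s _ => trivial
  obtain ⟨W, hW, -⟩ := exists_simple_le htop (top_ne_bot)
  by_cases hα : EqIso τ W (W.map A)
  · exact Or.inl (irr_of_eqIso_map h hirr hW hα)
  right
  set Wk : ℕ → Submodule K V := fun k => W.map (A ^ k) with hWk
  have hWk0 : Wk 0 = W := by
    simp only [hWk, pow_zero]
    exact Submodule.map_id W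
  have hWk1 : Wk 1 = W.map A := by simp only [hWk, pow_one]
  have hsimple : ∀ k, Simple τ (Wk k) := fun k => (h.pow k).simple_map hW
  have hadd : ∀ k l, (Wk l).map (A ^ k) = Wk (k + l) := fun k l => map_pow_add A W k l
  have hper : ∀ k t, Wk (k + P * t) = Wk k := fun k t => map_pow_add_mul hAP W k t
  -- closure of the set of exponents
  have t1 : ∀ k l, EqIso τ W (Wk k) → EqIso τ W (Wk l) → EqIso τ W (Wk (k + l)) := by
    intro k l hk hl
    have h1 := (h.pow k).eqIso_map hW.1 hl
    have h2 : (Wk l).map (A ^ k) = Wk (k + l) := hadd k l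
    rw [h2] at h1
    exact hk.trans hW.1 h1
  have t2 : ∀ k m, EqIso τ W (Wk k) → EqIso τ W (Wk (m * k)) := by
    intro k m hk
    induction m with
    | zero => rw [zero_mul, hWk0]; exact EqIso.refl W
    | succ m ih =>
      rw [Nat.succ_mul]
      exact t1 _ _ ih hk
  have t3 : ∀ c, EqIso τ W (Wk c) → p ∣ c := by
    intro c hc
    by_contra hpc
    apply hα
    rw [← hWk1]
    have hcop : Nat.Coprime c P := by
      apply Nat.Coprime.pow_right
      exact (Nat.Prime.coprime_iff_not_dvd hp).mpr hpc |>.symm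
    have hP1 : 1 < P := Nat.one_lt_pow (Nat.succ_ne_zero n) hp.one_lt
    obtain ⟨m, -, hm⟩ := Nat.exists_mul_mod_eq_one_of_coprime hcop hP1
    have h2 := t2 c m hc
    have h3 : m * c = 1 + P * (c * m / P) := by
      have := Nat.div_add_mod (c * m) P
      rw [hm] at this
      rw [mul_comm m c]
      omega
    rw [h3, hper] at h2
    exact h2
  -- the induced piece
  set V' : Submodule K V := ⨆ j ∈ range P, Wk (p * j) with hV'
  have hWV' : W ≤ V' := by
    have h1 : Wk (p * 0) ≤ V' :=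
      le_iSup₂ (f := fun j (_ : j ∈ range P) => Wk (p * j)) 0 (Finset.mem_range.mpr hPpos)
    rwa [mul_zero, hWk0] at h1
  have hmapV' : ∀ i, V'.map (A ^ i) = ⨆ j ∈ range P, Wk (i + p * j) := by
    intro i
    rw [hV', Submodule.map_iSup]
    apply iSup_congr
    intro j
    rw [Submodule.map_iSup]
    apply iSup_congr
    intro _
    exact hadd i (p * j)
  refine ⟨V', ?_, ?_, ?_, ?_⟩
  · intro h0
    rw [h0, le_bot_iff] at hWV'
    exact hW.2.1 hWV'
  · apply Inv.iSup
    intro j
    apply Inv.iSup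
    intro _
    exact (hsimple _).1
  · intro v hv
    have h1 : V'.map (A ^ p) ≤ V' := by
      rw [hmapV']
      apply iSup₂_le
      intro j hj
      rw [Finset.mem_range] at hj
      by_cases hj' : j + 1 < P
      · have : p + p * j = p * (j + 1) := by ring
        rw [this]
        exact le_iSup₂ (f := fun j (_ : j ∈ range P) => Wk (p * j)) (j + 1)
          (Finset.mem_range.mpr hj')
      · have hjP : j + 1 = P := by omega
        have : p + p * j = 0 + P * p := by rw [← hjP]; ring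
        rw [this, hper, hWk0]
        exact hWV'
    exact h1 ⟨v, hv, rfl⟩
  · intro i hi
    rw [Finset.mem_range] at hi
    rw [disjoint_iff]
    by_contra hne
    set I := V'.map (A ^ i) ⊓ ⨆ j ∈ (range p).erase i, V'.map (A ^ j) with hI
    have hV'inv : Inv τ V' := by
      apply Inv.iSup
      intro j
      apply Inv.iSup
      intro _
      exact (hsimple _).1
    have hIinv : Inv τ I := by
      apply Inv.inf
      · exact (h.pow i).inv_map hV'inv
      · apply Inv.iSup
        intro j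
        apply Inv.iSup
        intro _
        exact (h.pow j).inv_map hV'inv
    obtain ⟨S, hS, hSI⟩ := exists_simple_le hIinv hne
    -- first isomorphism
    have hS1 : S ≤ ⨆ j ∈ range P, Wk (i + p * j) := by
      rw [← hmapV']
      exact hSI.trans inf_le_left
    obtain ⟨j, -, hj⟩ := exists_eqIso_of_le_biSup (fun j => Wk (i + p * j)) (range P)
      (fun j _ => hsimple _) hS hS1
    -- second isomorphism
    have hS2 : S ≤ ⨆ b ∈ (range (p * P)).filter (fun b => b % p ≠ i), Wk b := by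
      refine (hSI.trans inf_le_right).trans ?_
      apply iSup₂_le
      intro j' hj'
      rw [Finset.mem_erase, Finset.mem_range] at hj'
      rw [hmapV']
      apply iSup₂_le
      intro j'' hj''
      rw [Finset.mem_range] at hj''
      refine le_iSup₂ (f := fun b (_ : b ∈ (range (p * P)).filter (fun b => b % p ≠ i)) => Wk b)
        (j' + p * j'') ?_
      rw [Finset.mem_filter, Finset.mem_range]
      constructor
      · calc j' + p * j'' < p + p * j'' := by omega
          _ = p * (j'' + 1) := by ring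
          _ ≤ p * P := Nat.mul_le_mul_left p hj''
      · rw [Nat.add_mul_mod_self_left, Nat.mod_eq_of_lt hj'.2]
        exact hj'.1
    obtain ⟨b, hb, hbiso⟩ := exists_eqIso_of_le_biSup Wk _ (fun b _ => hsimple b) hS hS2
    rw [Finset.mem_filter] at hb
    set a := i + p * j with ha
    have hab : EqIso τ (Wk a) (Wk b) := (hj.symm hS.1).trans (hsimple a).1 hbiso
    -- shift by `A ^ (P * a - a)`
    have hma : a ≤ P * a := Nat.le_mul_of_pos_left a hPpos
    have h1 := (h.pow (P * a - a)).eqIso_map (hsimple a).1 hab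
    rw [hadd, hadd] at h1
    have h2 : P * a - a + a = 0 + P * a := by omega
    rw [h2, hper, hWk0] at h1
    have h3 := t3 _ h1
    -- contradiction modulo `p`
    have h4 : (P * a - a + b + a) % p = b % p := by
      have : P * a - a + b + a = b + P * a := by omega
      rw [this]
      obtain ⟨c, hc⟩ := hpP
      rw [hc, mul_assoc, Nat.add_mul_mod_self_left]
    have h5 : (P * a - a + b + a) % p = a % p := by
      obtain ⟨c, hc⟩ := h3
      rw [hc, Nat.mul_add_mod]
    have h6 : a % p = i := by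
      rw [ha, Nat.add_mul_mod_self_left, Nat.mod_eq_of_lt hi]
    apply hb.2
    rw [← h4, h5, h6]

end dichotomy

end Cfsg.Agent.Helper31.HH
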