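import Mathlib

set_option autoImplicit false

/-!
# Hall–Higman critical case: the kernel filtration of a unipotent operator

`N = X - 1` nilpotent with `N ^ s = 0`.  `Wf N j = ker (N ^ j)`; an endomorphism `e` has
shift `≤ t` (`Sh N e t`) if `e (Wf N j) ≤ Wf N (j + t)` for all `j`.  The norm
`∑ j < p ^ n, X ^ j * e * X⁻¹ ^ j` equals `(c - 1) ^ (p ^ n - 1) e` for `c` conjugation by `X`,
hence has shift `≤ s - p ^ n`.
-/

namespace Cfsg.Agent.Helper31.HH

open Module Finset

variable {K : Type*} [Field K] {V : Type*} [AddCommGroup V] [Module K V]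

/-- The kernel filtration of `N`, indexed by integers. -/
def Wf (N : End K V) (j : ℤ) : Submodule K V := LinearMap.ker (N ^ j.toNat)

theorem mem_Wf {N : End K V} {j : ℤ} {v : V} : v ∈ Wf N j ↔ (N ^ j.toNat) v = 0 :=
  LinearMap.mem_ker

theorem Wf_nonpos {N : End K V} {j : ℤ} (hj : j ≤ 0) {v : V} (hv : v ∈ Wf N j) : v = 0 := by
  rw [mem_Wf, Int.toNat_of_nonpos hj] at hv
  simpa using hv

theorem Wf_mono {N : End K V} {i j : ℤ} (hij : i ≤ j) : Wf N i ≤ Wf N j := by
  intro v hv
  rw [mem_Wf] at hv ⊢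
  have h1 : i.toNat ≤ j.toNat := Int.toNat_le_toNat hij
  obtain ⟨d, hd⟩ := Nat.exists_eq_add_of_le h1
  rw [hd, add_comm, pow_add, Module.End.mul_apply, hv, map_zero]

theorem Wf_top {N : End K V} {s : ℕ} (hs : N ^ s = 0) {j : ℤ} (hj : (s : ℤ) ≤ j) (v : V) :
    v ∈ Wf N j := by
  apply Wf_mono hj
  rw [mem_Wf, Int.toNat_natCast, hs]
  rfl

/-- `e` shifts the filtration by at most `t`. -/
def Sh (N e : End K V) (t : ℤ) : Prop := ∀ (j : ℤ) (v : V), v ∈ Wf N j → e v ∈ Wf N (j + t)

theorem Sh.mono {N e : End K V} {t t' : ℤ} (h : Sh N e t) (htt : t ≤ t') : Sh N e t' :=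
  fun j v hv => Wf_mono (by omega) (h j v hv)

theorem Sh_zero (N : End K V) (t : ℤ) : Sh N 0 t := fun j v _ => by
  simp

theorem Sh.add {N e f : End K V} {t : ℤ} (he : Sh N e t) (hf : Sh N f t) : Sh N (e + f) t :=
  fun j v hv => by
    rw [LinearMap.add_apply]
    exact Submodule.add_mem _ (he j v hv) (hf j v hv)

theorem Sh.neg {N e : End K V} {t : ℤ} (he : Sh N e t) : Sh N (-e) t :=
  fun j v hv => by
    rw [LinearMap.neg_apply]
    exact Submodule.neg_mem _ (he j v hv)

theorem Sh.sub {N e f : End K V} {t : ℤ} (he : Sh N e t) (hf : Sh N f t) : Sh N (e - f) t := by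
  rw [sub_eq_add_neg]
  exact he.add hf.neg

theorem Sh.smul {N e : End K V} {t : ℤ} (he : Sh N e t) (c : K) : Sh N (c • e) t :=
  fun j v hv => by
    rw [LinearMap.smul_apply]
    exact Submodule.smul_mem _ c (he j v hv)

theorem Sh.sum {ι : Type*} {N : End K V} {t : ℤ} (S : Finset ι) (f : ι → End K V)
    (h : ∀ i ∈ S, Sh N (f i) t) : Sh N (∑ i ∈ S, f i) t := by
  classical
  induction S using Finset.induction_on with
  | empty => simpa using Sh_zero N t
  | insert a S ha ih =>
    rw [Finset.sum_insert ha]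
    exact (h a (Finset.mem_insert_self a S)).add
      (ih fun i hi => h i (Finset.mem_insert_of_mem hi))

theorem Sh.mul {N e f : End K V} {t u : ℤ} (he : Sh N e t) (hf : Sh N f u) :
    Sh N (e * f) (u + t) := fun j v hv => by
  rw [Module.End.mul_apply, ← add_assoc]
  exact he _ _ (hf j v hv)

theorem Sh_self (N : End K V) : Sh N N (-1) := fun j v hv => by
  rcases le_or_gt j 0 with hj | hj
  · rw [Wf_nonpos hj hv, map_zero]
    exact Submodule.zero_mem _
  · rw [mem_Wf] at hv ⊢
    have h1 : j.toNat = (j + -1).toNat + 1 := by omega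
    rw [h1, pow_succ, Module.End.mul_apply] at hv
    exact hv

theorem Sh_of_commute {N u : End K V} (h : Commute u N) : Sh N u 0 := fun j v hv => by
  rw [add_zero]
  rw [mem_Wf] at hv ⊢
  have h2 : Commute (N ^ j.toNat) u := (h.pow_right _).symm
  have h3 : (N ^ j.toNat) (u v) = u ((N ^ j.toNat) v) := by
    have := congrArg (fun f : End K V => f v) h2.eq
    simpa [Module.End.mul_apply] using this
  rw [h3, hv, map_zero]

theorem Sh_all {N : End K V} {s : ℕ} (hs : N ^ s = 0) (e : End K V) :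
    Sh N e ((s : ℤ) - 1) := fun j v hv => by
  rcases le_or_gt j 0 with hj | hj
  · rw [Wf_nonpos hj hv, map_zero]
    exact Submodule.zero_mem _
  · exact Wf_top hs (by omega) _

theorem Sh.bracket {N e : End K V} {t : ℤ} (he : Sh N e t) : Sh N (N * e - e * N) (t - 1) := by
  have h1 : Sh N (N * e) (t - 1) := by
    have := (Sh_self N).mul he
    rwa [← sub_eq_add_neg] at this
  have h2 : Sh N (e * N) (t - 1) := by
    have := he.mul (Sh_self N)
    rwa [neg_add_eq_sub] at this
  exact h1.sub h2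

/-- Conjugation by `X` (with inverse `Xi`) as a linear operator on `End K V`. -/
noncomputable def cOp (X Xi : End K V) : End K (End K V) :=
  (LinearMap.mulLeft K X) ∘ₗ (LinearMap.mulRight K Xi)

theorem cOp_apply (X Xi e : End K V) : cOp X Xi e = X * (e * Xi) := rfl

theorem cOp_pow_apply (X Xi e : End K V) (j : ℕ) :
    ((cOp X Xi) ^ j) e = X ^ j * e * Xi ^ j := by
  induction j generalizing e with
  | zero => simp
  | succ j ih =>
    rw [pow_succ, Module.End.mul_apply, ih, cOp_apply, pow_succ, pow_succ']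
    simp only [mul_assoc]

theorem cOp_sub_one_apply {X Xi : End K V} (hX : X * Xi = 1) (e : End K V) :
    (cOp X Xi - 1) e = ((X - 1) * e - e * (X - 1)) * Xi := by
  rw [LinearMap.sub_apply, cOp_apply, Module.End.one_apply]
  have : e = e * (X * Xi) := by rw [hX, mul_one]
  conv_lhs => rhs; rw [this]
  noncomm_ring

theorem Sh.cOp_sub_one {X Xi e : End K V} (hX : X * Xi = 1) (hXi : Commute Xi (X - 1)) {t : ℤ}
    (he : Sh (X - 1) e t) : Sh (X - 1) ((cOp X Xi - 1) e) (t - 1) := by
  rw [cOp_sub_one_apply hX]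
  have := he.bracket.mul (Sh_of_commute hXi)
  rwa [zero_add] at this

theorem Sh.cOp_sub_one_pow {X Xi e : End K V} (hX : X * Xi = 1) (hXi : Commute Xi (X - 1))
    {t : ℤ} (he : Sh (X - 1) e t) (k : ℕ) :
    Sh (X - 1) (((cOp X Xi - 1) ^ k) e) (t - k) := by
  induction k with
  | zero => simpa using he
  | succ k ih =>
    rw [pow_succ', Module.End.mul_apply]
    have := ih.cOp_sub_one hX hXi
    convert this using 1
    push_cast
    ring

/-- The polynomial identity `∑ j < p ^ n, X ^ j = (X - 1) ^ (p ^ n - 1)` in characteristic `p`. -/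
theorem poly_geom_eq (p n : ℕ) [Fact p.Prime] [CharP K p] :
    (∑ j ∈ range (p ^ n), (Polynomial.X : Polynomial K) ^ j) =
      (Polynomial.X - 1) ^ (p ^ n - 1) := by
  have hpos : 0 < p ^ n := pow_pos (Fact.out : p.Prime).pos n
  have h1 : (∑ j ∈ range (p ^ n), (Polynomial.X : Polynomial K) ^ j) * (Polynomial.X - 1) =
      (Polynomial.X - 1) ^ (p ^ n - 1) * (Polynomial.X - 1) := by
    rw [geom_sum_mul, ← pow_succ, Nat.sub_add_cancel hpos, sub_pow_char_pow, one_pow]
  have h2 : (Polynomial.X - 1 : Polynomial K) ≠ 0 := by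
    have := Polynomial.X_sub_C_ne_zero (1 : K)
    simpa using this
  exact mul_right_cancel₀ h2 h1

theorem alg_geom_eq (p n : ℕ) [Fact p.Prime] [CharP K p] {A : Type*} [Ring A] [Algebra K A]
    (c : A) : (∑ j ∈ range (p ^ n), c ^ j) = (c - 1) ^ (p ^ n - 1) := by
  have := congrArg (Polynomial.aeval c) (poly_geom_eq (K := K) p n)
  simpa using this

/-- The norm has shift at most `s - p ^ n`. -/
theorem Sh_norm (p n : ℕ) [Fact p.Prime] [CharP K p] {X Xi : End K V} (hX : X * Xi = 1)
    (hXi : Xi * X = 1) {s : ℕ} (hs : (X - 1) ^ s = 0) (e : End K V) :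
    Sh (X - 1) (∑ j ∈ range (p ^ n), X ^ j * e * Xi ^ j) ((s : ℤ) - (p ^ n : ℕ)) := by
  have hpos : 0 < p ^ n := pow_pos (Fact.out : p.Prime).pos n
  have hcomm : Commute Xi (X - 1) := by
    have : Commute Xi X := by rw [Commute, SemiconjBy, hX, hXi]
    exact this.sub_right (Commute.one_right _)
  have h1 : (∑ j ∈ range (p ^ n), X ^ j * e * Xi ^ j) = ((cOp X Xi - 1) ^ (p ^ n - 1)) e := by
    rw [← alg_geom_eq (K := K) p n (cOp X Xi), LinearMap.sum_apply]
    exact Finset.sum_congr rfl fun j _ => (cOp_pow_apply X Xi e j).symm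
  rw [h1]
  have := (Sh_all hs e).cOp_sub_one_pow hX hcomm (p ^ n - 1)
  convert this using 1
  have : ((p ^ n - 1 : ℕ) : ℤ) = ((p ^ n : ℕ) : ℤ) - 1 := by
    rw [Nat.cast_sub hpos]; simp
  rw [this]
  ring


/-- There is a vector `w` with `N ^ (s - 1) w ≠ 0`. -/
theorem exists_top_vector {N : End K V} {s : ℕ} (hmin : ∀ k < s, N ^ k ≠ 0) (hs1 : 1 ≤ s) :
    ∃ w : V, (N ^ (s - 1)) w ≠ 0 := by
  by_contra hcon
  push Not at hcon
  exact hmin (s - 1) (by omega) (LinearMap.ext fun v => by simpa using hcon v)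

/-- Lower bound: if `X - 1` itself is a scalar plus a norm, then `p ^ n - 1 ≤ s`. -/
theorem lower_bound (p n : ℕ) [Fact p.Prime] [CharP K p] {X Xi : End K V} (hX : X * Xi = 1)
    (hXi : Xi * X = 1) {s : ℕ} (hs : (X - 1) ^ s = 0) (hmin : ∀ k < s, (X - 1) ^ k ≠ 0)
    (hs2 : 2 ≤ s)
    (hF : ∃ (l : K) (e' : End K V), X - 1 = l • 1 + ∑ j ∈ range (p ^ n), X ^ j * e' * Xi ^ j) :
    p ^ n - 1 ≤ s := by
  by_contra hlt
  push Not at hlt
  obtain ⟨l, e', hle⟩ := hF
  set N := X - 1 with hN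
  set S := ∑ j ∈ range (p ^ n), X ^ j * e' * Xi ^ j with hS
  have hSh : Sh N S (-2) := (Sh_norm p n hX hXi hs e').mono (by omega)
  obtain ⟨w, hw⟩ := exists_top_vector hmin (by omega)
  set u := (N ^ (s - 1)) w with hu
  have hNu : N u = 0 := by
    rw [hu, ← Module.End.mul_apply, ← pow_succ', Nat.sub_add_cancel (by omega), hs]
    rfl
  have hu1 : u ∈ Wf N 1 := by
    rw [mem_Wf]
    simpa using hNu
  have hSu : S u = 0 := Wf_nonpos (by norm_num) (hSh 1 u hu1)
  have hl : l = 0 := by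
    have h1 : N u = l • u + S u := by
      conv_lhs => rw [hle]
      simp
    rw [hNu, hSu, add_zero] at h1
    rcases smul_eq_zero.mp h1.symm with h | h
    · exact h
    · exact absurd h hw
  have hNS : N = S := by rw [hle, hl, zero_smul, zero_add]
  rw [← hNS] at hSh
  apply hmin (s - 1) (by omega)
  apply LinearMap.ext
  intro v
  have h1 : N v ∈ Wf N ((s : ℤ) + -2) := hSh s v (Wf_top hs le_rfl v)
  rw [mem_Wf] at h1
  have h2 : ((s : ℤ) + -2).toNat = s - 2 := by omega
  rw [h2, ← Module.End.mul_apply, ← pow_succ] at h1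
  have h3 : s - 2 + 1 = s - 1 := by omega
  rw [h3] at h1
  simpa using h1

/-- The "rank one" endomorphisms commuting with `N`. -/
noncomputable def ePhi (N : End K V) (s : ℕ) (w : V) (φ : Module.Dual K V) : End K V :=
  ∑ j ∈ range s, LinearMap.smulRight (φ ∘ₗ (N ^ (s - 1 - j))) ((N ^ j) w)

theorem ePhi_apply (N : End K V) (s : ℕ) (w : V) (φ : Module.Dual K V) (v : V) :
    ePhi N s w φ v = ∑ j ∈ range s, φ ((N ^ (s - 1 - j)) v) • (N ^ j) w := by
  simp [ePhi, LinearMap.sum_apply]

theorem ePhi_commute {N : End K V} {s : ℕ} (hs : N ^ s = 0) (hs1 : 1 ≤ s) (w : V)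
    (φ : Module.Dual K V) : Commute (ePhi N s w φ) N := by
  obtain ⟨m, rfl⟩ : ∃ m, s = m + 1 := ⟨s - 1, by omega⟩
  apply LinearMap.ext
  intro v
  rw [Module.End.mul_apply, Module.End.mul_apply, ePhi_apply, ePhi_apply, map_sum]
  rw [Finset.sum_range_succ', Finset.sum_range_succ]
  have h1 : (N ^ (m + 1 - 1 - 0)) (N v) = 0 := by
    rw [← Module.End.mul_apply, ← pow_succ]
    have : m + 1 - 1 - 0 + 1 = m + 1 := by omega
    rw [this, hs]; rfl
  have h2 : N ((N ^ m) w) = 0 := by
    rw [← Module.End.mul_apply, ← pow_succ', hs]; rfl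
  rw [h1, map_zero, zero_smul, add_zero, map_smul, h2, smul_zero, add_zero]
  apply Finset.sum_congr rfl
  intro j hj
  rw [Finset.mem_range] at hj
  rw [map_smul]
  congr 1
  · rw [← Module.End.mul_apply, ← pow_succ]
    have : m + 1 - 1 - (j + 1) + 1 = m + 1 - 1 - j := by omega
    rw [this]
  · rw [← Module.End.mul_apply, ← pow_succ']

theorem ePhi_apply_ker {N : End K V} {s : ℕ} (hs1 : 1 ≤ s) (w : V) (φ : Module.Dual K V)
    {v : V} (hv : N v = 0) : ePhi N s w φ v = φ v • (N ^ (s - 1)) w := by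
  obtain ⟨m, rfl⟩ : ∃ m, s = m + 1 := ⟨s - 1, by omega⟩
  rw [ePhi_apply, Finset.sum_range_succ]
  have h0 : ∀ j ∈ range m, φ ((N ^ (m + 1 - 1 - j)) v) • (N ^ j) w = 0 := by
    intro j hj
    rw [Finset.mem_range] at hj
    have : m + 1 - 1 - j = (m - 1 - j) + 1 := by omega
    rw [this, pow_succ, Module.End.mul_apply, hv, map_zero, map_zero, zero_smul]
  rw [Finset.sum_eq_zero h0, zero_add]
  simp

/-- In the exceptional case the kernel of `N` is a line. -/
theorem ker_le_span (p n : ℕ) [Fact p.Prime] [CharP K p] {X Xi : End K V} (hX : X * Xi = 1)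
    (hXi : Xi * X = 1) {s : ℕ} (hs : (X - 1) ^ s = 0) (hs1 : 1 ≤ s) (hsP : s + 1 = p ^ n)
    (hF : ∀ e : End K V, Commute e X →
      ∃ (l : K) (e' : End K V), e = l • 1 + ∑ j ∈ range (p ^ n), X ^ j * e' * Xi ^ j)
    (w : V) (hw : ((X - 1) ^ (s - 1)) w ≠ 0) :
    LinearMap.ker (X - 1) ≤ Submodule.span K {((X - 1) ^ (s - 1)) w} := by
  set N := X - 1 with hN
  set u := (N ^ (s - 1)) w with hu
  have hNu : N u = 0 := by
    rw [hu, ← Module.End.mul_apply, ← pow_succ', Nat.sub_add_cancel hs1, hs]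
    rfl
  obtain ⟨φ, hφ⟩ : ∃ φ : Module.Dual K V, φ u ≠ 0 := by
    by_contra hcon
    push Not at hcon
    exact hw ((Module.forall_dual_apply_eq_zero_iff K u).mp hcon)
  have hc : Commute (ePhi N s w φ) X := by
    have := ePhi_commute hs hs1 w φ
    have h2 : X = N + 1 := by rw [hN]; abel
    rw [h2]
    exact this.add_right (Commute.one_right _)
  obtain ⟨l, e', hle⟩ := hF _ hc
  set S := ∑ j ∈ range (p ^ n), X ^ j * e' * Xi ^ j with hS
  have hSh : Sh N S (-1) := (Sh_norm p n hX hXi hs e').mono (by omega)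
  have hker : ∀ v : V, N v = 0 → φ v • u = l • v := by
    intro v hv
    have hv1 : v ∈ Wf N 1 := by
      rw [mem_Wf]; simpa using hv
    have hSv : S v = 0 := Wf_nonpos (by norm_num) (hSh 1 v hv1)
    have h1 := ePhi_apply_ker hs1 w φ hv
    rw [hle] at h1
    simp only [LinearMap.add_apply, LinearMap.smul_apply, Module.End.one_apply, hSv,
      add_zero] at h1
    exact h1.symm
  have hl : l = φ u := by
    have h1 := hker u hNu
    have h2 : (φ u - l) • u = 0 := by rw [sub_smul, h1, sub_self]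
    rcases smul_eq_zero.mp h2 with h | h
    · exact (sub_eq_zero.mp h).symm
    · exact absurd h hw
  intro v hv
  rw [LinearMap.mem_ker] at hv
  have h1 := hker v hv
  rw [Submodule.mem_span_singleton]
  refine ⟨l⁻¹ * φ v, ?_⟩
  rw [mul_smul, h1, smul_smul, inv_mul_cancel₀ (hl ▸ hφ), one_smul]


theorem finrank_ker_pow_le [FiniteDimensional K V] {N : End K V} {u : V}
    (hker : LinearMap.ker N ≤ Submodule.span K {u}) (k : ℕ) :
    finrank K (LinearMap.ker (N ^ k)) ≤ k := by
  induction k with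
  | zero =>
    have : LinearMap.ker (N ^ 0) = ⊥ := by
      rw [pow_zero]; exact LinearMap.ker_id
    rw [this, finrank_bot]
  | succ k ih =>
    set A := LinearMap.ker (N ^ (k + 1)) with hA
    set f : A →ₗ[K] V := (N ^ k) ∘ₗ A.subtype with hf
    have h1 := f.finrank_range_add_finrank_ker
    have h2 : finrank K (LinearMap.range f) ≤ 1 := by
      have hle : LinearMap.range f ≤ Submodule.span K {u} := by
        rintro _ ⟨a, rfl⟩
        apply hker
        rw [LinearMap.mem_ker]
        have ha : (N ^ (k + 1)) a.1 = 0 := LinearMap.mem_ker.mp a.2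
        rw [pow_succ', Module.End.mul_apply] at ha
        exact ha
      refine (Submodule.finrank_mono hle).trans ?_
      refine (finrank_span_le_card ({u} : Set V)).trans ?_
      simp
    have h3 : finrank K (LinearMap.ker f) ≤ k := by
      rw [← Submodule.finrank_map_subtype_eq A (LinearMap.ker f)]
      refine le_trans (Submodule.finrank_mono ?_) ih
      rintro _ ⟨a, ha, rfl⟩
      exact LinearMap.mem_ker.mpr (LinearMap.mem_ker.mp ha)
    omega

theorem finrank_le_of_ker_le [FiniteDimensional K V] {N : End K V} {u : V}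
    (hker : LinearMap.ker N ≤ Submodule.span K {u}) {s : ℕ} (hs : N ^ s = 0) :
    finrank K V ≤ s := by
  have h1 := finrank_ker_pow_le hker s
  rw [hs] at h1
  have : LinearMap.ker (0 : End K V) = ⊤ := LinearMap.ker_zero
  rwa [this, finrank_top] at h1

theorem le_finrank_of_min [FiniteDimensional K V] {N : End K V} {s : ℕ} (hs : N ^ s = 0)
    (hmin : ∀ k < s, N ^ k ≠ 0) : s ≤ finrank K V := by
  by_contra hlt
  push Not at hlt
  apply hmin _ hlt
  have h1 := Module.End.ker_pow_eq_ker_pow_finrank_of_le (f := N) hlt.le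
  rw [hs] at h1
  have : LinearMap.ker (0 : End K V) = ⊤ := LinearMap.ker_zero
  rw [this] at h1
  exact LinearMap.ker_eq_top.mp h1.symm

/-- The exceptional case: `finrank K V = s`. -/
theorem finrank_eq_of_exceptional [FiniteDimensional K V] (p n : ℕ) [Fact p.Prime] [CharP K p]
    {X Xi : End K V} (hX : X * Xi = 1)
    (hXi : Xi * X = 1) {s : ℕ} (hs : (X - 1) ^ s = 0) (hmin : ∀ k < s, (X - 1) ^ k ≠ 0)
    (hs1 : 1 ≤ s) (hsP : s + 1 = p ^ n)
    (hF : ∀ e : End K V, Commute e X →
      ∃ (l : K) (e' : End K V), e = l • 1 + ∑ j ∈ range (p ^ n), X ^ j * e' * Xi ^ j) :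
    finrank K V = s := by
  obtain ⟨w, hw⟩ := exists_top_vector hmin hs1
  have hker := ker_le_span p n hX hXi hs hs1 hsP hF w hw
  exact le_antisymm (finrank_le_of_ker_le hker hs) (le_finrank_of_min hs hmin)

end Cfsg.Agent.Helper31.HH
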