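import Mathlib
import Cfsg.Agent.Lib.Helper31.HHFilt

set_option autoImplicit false

/-!
# Induced structure: `V' , X V', …, X^(p-1) V'` independent, `X ^ p V' ≤ V'`
-/

namespace Cfsg.Agent.Helper31.HH

open Module Finset

variable {K : Type*} [Field K] {V : Type*} [AddCommGroup V] [Module K V]

theorem eq_zero_of_sum_eq_zero_of_indep {p : ℕ} {X : End K V} {V' : Submodule K V}
    (hind : ∀ i ∈ range p, Disjoint (V'.map (X ^ i)) (⨆ j ∈ (range p).erase i, V'.map (X ^ j)))
    (f : ℕ → V) (hf : ∀ j ∈ range p, f j ∈ V'.map (X ^ j)) (hsum : ∑ j ∈ range p, f j = 0) :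
    ∀ j ∈ range p, f j = 0 := by
  classical
  intro i hi
  have h1 : f i = -∑ j ∈ (range p).erase i, f j := by
    rw [← Finset.add_sum_erase _ _ hi] at hsum
    exact eq_neg_of_add_eq_zero_left hsum
  have h2 : ∑ j ∈ (range p).erase i, f j ∈ ⨆ j ∈ (range p).erase i, V'.map (X ^ j) := by
    apply Submodule.sum_mem
    intro j hj
    exact (le_iSup₂ (f := fun j (_ : j ∈ (range p).erase i) => V'.map (X ^ j)) j hj)
      (hf j (Finset.mem_of_mem_erase hj))
  have h3 : f i ∈ ⨆ j ∈ (range p).erase i, V'.map (X ^ j) := by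
    rw [h1]
    exact Submodule.neg_mem _ h2
  exact (Submodule.disjoint_def.mp (hind i hi)) _ (hf i hi) h3

theorem sub_one_pow_char (p : ℕ) [Fact p.Prime] [CharP K p] (X : End K V) :
    (X - 1) ^ p = X ^ p - 1 := by
  have hpos : 0 < p := (Fact.out : p.Prime).pos
  have h1 := alg_geom_eq (K := K) p 1 X
  rw [pow_one] at h1
  have h2 : (X - 1) ^ p = (X - 1) ^ (p - 1) * (X - 1) := by
    rw [← pow_succ, Nat.sub_add_cancel hpos]
  rw [h2, ← h1, geom_sum_mul]

/-- The lower bound for the nilpotency index in the induced situation. -/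
theorem induced_lower (p : ℕ) [Fact p.Prime] [CharP K p] (X : End K V) (V' : Submodule K V)
    (hXp : ∀ v ∈ V', (X ^ p) v ∈ V')
    (hind : ∀ i ∈ range p, Disjoint (V'.map (X ^ i)) (⨆ j ∈ (range p).erase i, V'.map (X ^ j)))
    (r₁ : ℕ) (v : V) (hv : v ∈ V') (hne : ((X ^ p - 1) ^ r₁) v ≠ 0)
    (r : ℕ) (hr : (X - 1) ^ r = 0) : p * r₁ + p ≤ r := by
  have hpos : 0 < p := (Fact.out : p.Prime).pos
  by_contra hlt
  push Not at hlt
  have hle : r ≤ p * r₁ + (p - 1) := by omega
  have h0 : (X - 1) ^ (p * r₁ + (p - 1)) = 0 := by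
    obtain ⟨d, hd⟩ := Nat.exists_eq_add_of_le hle
    rw [hd, pow_add, hr, zero_mul]
  -- invariance of `V'` under powers of `X ^ p - 1`
  have hinv : ∀ k : ℕ, ∀ w ∈ V', ((X ^ p - 1) ^ k) w ∈ V' := by
    intro k
    induction k with
    | zero => intro w hw; simpa using hw
    | succ k ih =>
      intro w hw
      rw [pow_succ', Module.End.mul_apply, LinearMap.sub_apply, Module.End.one_apply]
      exact Submodule.sub_mem _ (hXp _ (ih w hw)) (ih w hw)
  set u := ((X ^ p - 1) ^ r₁) v with hu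
  have huV : u ∈ V' := hinv r₁ v hv
  have h1 : ((X - 1) ^ (p * r₁ + (p - 1))) v = ∑ j ∈ range p, (X ^ j) u := by
    rw [add_comm, pow_add, pow_mul, sub_one_pow_char p X, Module.End.mul_apply, ← hu]
    have h2 := alg_geom_eq (K := K) p 1 X
    rw [pow_one] at h2
    rw [← h2, LinearMap.sum_apply]
  rw [h0, LinearMap.zero_apply] at h1
  have h3 := eq_zero_of_sum_eq_zero_of_indep hind (fun j => (X ^ j) u)
    (fun j _ => ⟨u, huV, rfl⟩) h1.symm 0 (Finset.mem_range.mpr hpos)
  simp only [pow_zero, Module.End.one_apply] at h3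
  exact hne h3

/-- The induced piece has at most half the dimension. -/
theorem two_mul_finrank_le [FiniteDimensional K V] {p : ℕ} (hp : 2 ≤ p) {X Xi : End K V}
    (hXi : Xi * X = 1) {V' : Submodule K V}
    (hind : ∀ i ∈ range p, Disjoint (V'.map (X ^ i)) (⨆ j ∈ (range p).erase i, V'.map (X ^ j))) :
    2 * finrank K V' ≤ finrank K V := by
  have h0 := hind 0 (Finset.mem_range.mpr (by omega))
  have h1 : V'.map (X ^ 1) ≤ ⨆ j ∈ (range p).erase 0, V'.map (X ^ j) :=
    le_iSup₂ (f := fun j (_ : j ∈ (range p).erase 0) => V'.map (X ^ j)) 1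
      (Finset.mem_erase.mpr ⟨by omega, Finset.mem_range.mpr (by omega)⟩)
  have h2 : Disjoint V' (V'.map X) := by
    have := h0.mono_right h1
    rw [pow_zero, pow_one] at this
    have h11 : V'.map (1 : End K V) = V' := Submodule.map_id V'
    rwa [h11] at this
  have hinj : Function.Injective X := by
    intro a b hab
    have := congrArg Xi hab
    rw [← Module.End.mul_apply, ← Module.End.mul_apply, hXi] at this
    simpa using this
  have h3 : finrank K (V'.map X) = finrank K V' :=
    (Submodule.equivMapOfInjective X hinj V').finrank_eq.symm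
  have h4 := Submodule.finrank_sup_add_finrank_inf_eq V' (V'.map X)
  rw [disjoint_iff.mp h2, finrank_bot, add_zero, h3] at h4
  have h5 := Submodule.finrank_le (V' ⊔ V'.map X)
  omega

end Cfsg.Agent.Helper31.HH
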