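import Mathlib
import Cfsg.Agent.Lib.Helper31.HHSimple
import Cfsg.Agent.Lib.Helper31.HHInd

set_option autoImplicit false

/-!
# Sub- and quotient representations, stabilisers, nilpotency indices
-/

namespace Cfsg.Agent.Helper31.HH

open Module

variable {K : Type*} [Field K] {V : Type*} [AddCommGroup V] [Module K V]

section subquot

variable {M : Type*} [Monoid M] (φ : Representation K M V) (U : Submodule K V) (h : Inv φ U)

/-- The subrepresentation on an invariant subspace. -/
def subRep : Representation K M U where
  toFun g := (φ g).restrict (h g)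
  map_one' := by
    ext u
    simp
  map_mul' a b := by
    ext u
    simp

theorem subRep_apply (g : M) (u : U) : ((subRep φ U h g) u : V) = φ g (u : V) := rfl

/-- The quotient representation by an invariant subspace. -/
def quotRep : Representation K M (V ⧸ U) where
  toFun g := U.mapQ U (φ g) (fun u hu => h g u hu)
  map_one' := by
    ext v
    simp
  map_mul' a b := by
    ext v
    simp

theorem quotRep_mk (g : M) (v : V) :
    (quotRep φ U h g) (Submodule.Quotient.mk v) = Submodule.Quotient.mk (φ g v) := rfl

end subquot

section restrict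

variable (U : Submodule K V) (X : End K V) (hX : ∀ u ∈ U, X u ∈ U)

theorem restrict_sub_one_pow (k : ℕ) (u : U) :
    ((((X.restrict hX : End K U) - 1) ^ k) u : V) = ((X - 1) ^ k) (u : V) := by
  induction k generalizing u with
  | zero => simp
  | succ k ih =>
    rw [pow_succ, pow_succ, Module.End.mul_apply, Module.End.mul_apply, ih]
    simp

theorem mapQ_sub_one_pow (k : ℕ) (v : V) :
    (((U.mapQ U X hX : End K (V ⧸ U)) - 1) ^ k) (Submodule.Quotient.mk v) =
      Submodule.Quotient.mk (((X - 1) ^ k) v) := by
  induction k generalizing v with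
  | zero => simp
  | succ k ih =>
    rw [pow_succ, pow_succ, Module.End.mul_apply, Module.End.mul_apply]
    have : ((U.mapQ U X hX : End K (V ⧸ U)) - 1) (Submodule.Quotient.mk v) =
        Submodule.Quotient.mk ((X - 1) v) := by
      simp
    rw [this, ih]

end restrict

/-- Existence of the nilpotency index. -/
theorem exists_nilp_index (N : End K V) {m : ℕ} (hm : N ^ m = 0) :
    ∃ r, N ^ r = 0 ∧ ∀ k < r, N ^ k ≠ 0 := by
  classical
  have hex : ∃ r, N ^ r = 0 := ⟨m, hm⟩
  exact ⟨Nat.find hex, Nat.find_spec hex, fun k hk => Nat.find_min hex hk⟩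

theorem nilp_index_le {N : End K V} {r m : ℕ} (hmin : ∀ k < r, N ^ k ≠ 0) (hm : N ^ m = 0) :
    r ≤ m := by
  by_contra hlt
  push Not at hlt
  exact hmin m hlt hm

section stab

variable {G : Type*} [Group G] [Finite G] (ρ : Representation K G V) (U : Submodule K V)

/-- The stabiliser of a subspace. -/
def stab : Subgroup G where
  carrier := {g | ∀ u ∈ U, ρ g u ∈ U}
  one_mem' := by
    intro u hu
    simpa using hu
  mul_mem' := by
    intro a b ha hb u hu
    rw [map_mul, Module.End.mul_apply]
    exact ha _ (hb u hu)
  inv_mem' := by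
    intro a ha
    have hpow : ∀ k : ℕ, ∀ u ∈ U, ρ (a ^ k) u ∈ U := by
      intro k
      induction k with
      | zero => intro u hu; simpa using hu
      | succ k ih =>
        intro u hu
        rw [pow_succ, map_mul, Module.End.mul_apply]
        exact ih _ (ha u hu)
    have hinv : a⁻¹ = a ^ (orderOf a - 1) := by
      have hpos : 0 < orderOf a := orderOf_pos a
      rw [inv_eq_iff_mul_eq_one, ← pow_succ', Nat.sub_add_cancel hpos, pow_orderOf_eq_one]
    intro u hu
    show ρ a⁻¹ u ∈ U
    rw [hinv]
    exact hpow _ u hu

theorem mem_stab {g : G} : g ∈ stab ρ U ↔ ∀ u ∈ U, ρ g u ∈ U := Iff.rfl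

theorem inv_comp_stab : Inv (ρ.comp (stab ρ U).subtype) U := fun g u hu => g.2 u hu

end stab

end Cfsg.Agent.Helper31.HH
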