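import Mathlib

set_option autoImplicit false

/-!
# Passing to the faithful quotient of `Q ⟨x⟩`
-/

namespace Cfsg.Agent.Helper31.HH

open Subgroup
open scoped Pointwise

universe u

variable {K : Type*} [Field K] {V : Type*} [AddCommGroup V] [Module K V]

theorem le_normalizer_of_conj_mem' {G : Type*} [Group G] (S B : Subgroup G)
    (h : ∀ g ∈ S, ∀ b ∈ B, g * b * g⁻¹ ∈ B) : S ≤ normalizer (B : Set G) := by
  intro g hg
  rw [mem_normalizer_iff]
  intro b
  constructor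
  · exact h g hg b
  · intro hb
    have := h g⁻¹ (S.inv_mem hg) _ hb
    convert this using 1
    group

theorem zpowers_le_normalizer_of_conj_mem {G : Type*} [Group G] (Q : Subgroup G) (x : G) {m : ℕ}
    (hm : 0 < m) (hxm : x ^ m = 1) (hxQ : ∀ g ∈ Q, x * g * x⁻¹ ∈ Q) :
    zpowers x ≤ normalizer (Q : Set G) := by
  apply le_normalizer_of_conj_mem'
  intro g hg b hb
  have hfin : IsOfFinOrder x := isOfFinOrder_iff_pow_eq_one.mpr ⟨m, hm, hxm⟩
  rw [← hfin.mem_powers_iff_mem_zpowers, Submonoid.mem_powers_iff] at hg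
  obtain ⟨k, rfl⟩ := hg
  induction k with
  | zero => simpa using hb
  | succ k ih =>
    have := hxQ _ ih
    convert this using 1
    rw [pow_succ']
    group

theorem exists_mul_of_mem_sup' {G : Type*} [Group G] {A B : Subgroup G}
    (h : B ≤ normalizer (A : Set G)) {w : G} (hw : w ∈ A ⊔ B) : ∃ a ∈ A, ∃ b ∈ B, w = a * b := by
  have hset : ((A ⊔ B : Subgroup G) : Set G) = (A : Set G) * (B : Set G) :=
    Subgroup.coe_mul_of_right_le_normalizer_left A B h
  have hw' : w ∈ (A : Set G) * (B : Set G) := by rw [← hset]; exact hw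
  obtain ⟨a, ha, b, hb, rfl⟩ := Set.mem_mul.mp hw'
  exact ⟨a, ha, b, hb, rfl⟩

/-- The induced map from the quotient by the kernel, for a monoid codomain. -/
def kerLiftM {Γ : Type*} [Group Γ] {E : Type*} [Monoid E] (φ : Γ →* E) : Γ ⧸ φ.ker →* E :=
  QuotientGroup.lift φ.ker φ (fun _ h => MonoidHom.mem_ker.mp h)

theorem kerLiftM_mk {Γ : Type*} [Group Γ] {E : Type*} [Monoid E] (φ : Γ →* E) (g : Γ) :
    kerLiftM φ (QuotientGroup.mk' φ.ker g) = φ g := rfl

theorem kerLiftM_injective {Γ : Type*} [Group Γ] {E : Type*} [Monoid E] (φ : Γ →* E) :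
    Function.Injective (kerLiftM φ) := by
  intro a b hab
  obtain ⟨a, rfl⟩ := QuotientGroup.mk'_surjective φ.ker a
  obtain ⟨b, rfl⟩ := QuotientGroup.mk'_surjective φ.ker b
  rw [kerLiftM_mk, kerLiftM_mk] at hab
  rw [QuotientGroup.mk'_eq_mk']
  refine ⟨a⁻¹ * b, ?_, by group⟩
  rw [MonoidHom.mem_ker, map_mul, ← hab, ← map_mul, inv_mul_cancel, map_one]

/-- Faithful quotient of a group with a representation. -/
theorem transfer_quot (p q n : ℕ) [hp : Fact p.Prime]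
    {Γ : Type u} [Group Γ] [Finite Γ] (φ : Γ →* Module.End K V) (Q' : Subgroup Γ)
    (hQ' : IsPGroup q Q') (x' : Γ) (hgen : Q' ⊔ zpowers x' = ⊤)
    (hx' : x' ^ p ^ (n + 1) = 1)
    (hNC : ∃ g ∈ Q', φ g * φ (x' ^ p ^ n) ≠ φ (x' ^ p ^ n) * φ g) :
    Function.Injective (kerLiftM φ) ∧
    IsPGroup q (Q'.map (QuotientGroup.mk' φ.ker)) ∧
    Q'.map (QuotientGroup.mk' φ.ker) ⊔ zpowers (QuotientGroup.mk' φ.ker x') = ⊤ ∧
    orderOf (QuotientGroup.mk' φ.ker x') = p ^ (n + 1) ∧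
    kerLiftM φ (QuotientGroup.mk' φ.ker x') = φ x' ∧
    (∃ g ∈ Q'.map (QuotientGroup.mk' φ.ker),
      g * (QuotientGroup.mk' φ.ker x') ^ p ^ n ≠ (QuotientGroup.mk' φ.ker x') ^ p ^ n * g) ∧
    Nat.card (Q'.map (QuotientGroup.mk' φ.ker)) ≤ Nat.card Q' ∧
    ((∃ a ∈ Q'.map (QuotientGroup.mk' φ.ker), ∃ b ∈ Q'.map (QuotientGroup.mk' φ.ker),
      a * b ≠ b * a) → ∃ a ∈ Q', ∃ b ∈ Q', a * b ≠ b * a) := by
  have hsurj : Function.Surjective (QuotientGroup.mk' φ.ker) := QuotientGroup.mk'_surjective _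
  have hρmk : ∀ g : Γ, (kerLiftM φ) (QuotientGroup.mk' φ.ker g) = φ g :=
    fun g => kerLiftM_mk φ g
  have hρinj : Function.Injective (kerLiftM φ) := kerLiftM_injective φ
  refine ⟨hρinj, ?_, ?_, ?_, ?_, ?_, ?_, ?_⟩
  · exact hQ'.map _
  · rw [← MonoidHom.map_zpowers, ← Subgroup.map_sup, hgen, ← MonoidHom.range_eq_map,
      MonoidHom.range_eq_top]
    exact hsurj
  · apply orderOf_eq_prime_pow
    · intro h1
      obtain ⟨g, hg, hgne⟩ := hNC
      apply hgne
      rw [← map_pow] at h1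
      have h2 := congrArg (kerLiftM φ) h1
      rw [hρmk, map_one] at h2
      rw [h2, mul_one, one_mul]
    · rw [← map_pow, hx', map_one]
  · exact hρmk _
  · obtain ⟨g, hg, hgne⟩ := hNC
    refine ⟨QuotientGroup.mk' φ.ker g, ⟨g, hg, rfl⟩, ?_⟩
    intro h1
    apply hgne
    rw [← map_pow, ← map_mul, ← map_mul] at h1
    have h2 := congrArg (kerLiftM φ) h1
    rw [hρmk, hρmk, map_mul, map_mul] at h2
    exact h2
  · exact Nat.le_of_dvd Nat.card_pos (Subgroup.card_map_dvd _ _)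
  · rintro ⟨a, ⟨a', ha', rfl⟩, b, ⟨b', hb', rfl⟩, hab⟩
    refine ⟨a', ha', b', hb', ?_⟩
    intro h1
    apply hab
    rw [← map_mul, ← map_mul, h1]

end Cfsg.Agent.Helper31.HH
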