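import Mathlib
import Cfsg.Agent.Lib.Helper31.HHSubQuot
import Cfsg.Agent.Lib.Helper31.HHTransfer

set_option autoImplicit false

/-!
# Hall–Higman Theorem B: the core induction, part 1 (statement, sub/quotient reduction)
-/

namespace Cfsg.Agent.Helper31.HH

open Module Subgroup

/-- The conclusion of Theorem B for an element of order `p ^ N` with nilpotency index `r`. -/
def Concl (p q N r : ℕ) {G : Type*} [Group G] (Q : Subgroup G) : Prop :=
  r = p ^ N ∨ ((∃ a ∈ Q, ∃ b ∈ Q, a * b ≠ b * a) ∧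
    ∃ n₀ m : ℕ, 1 ≤ n₀ ∧ n₀ ≤ N ∧ 1 ≤ m ∧ p ^ n₀ - 1 = q ^ m ∧ p ^ (N - n₀) * (p ^ n₀ - 1) ≤ r)

theorem Concl.mono {p q N r : ℕ} {G : Type*} [Group G] {Q₁ Q : Subgroup G} (hle : Q₁ ≤ Q)
    (h : Concl p q N r Q₁) : Concl p q N r Q := by
  rcases h with h | ⟨⟨a, ha, b, hb, hab⟩, h⟩
  · exact Or.inl h
  · exact Or.inr ⟨⟨a, hle ha, b, hle hb, hab⟩, h⟩

theorem Concl.of_le {p q N r r' : ℕ} {G : Type*} [Group G] {Q : Subgroup G}
    (h : Concl p q N r' Q) (hle : r' ≤ r) (hr : r ≤ p ^ N) : Concl p q N r Q := by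
  rcases h with h | ⟨hab, n₀, m, h1, h2, h3, h4, h5⟩
  · left
    omega
  · exact Or.inr ⟨hab, n₀, m, h1, h2, h3, h4, h5.trans hle⟩

/-- The general (not necessarily faithful) form of the core statement, bounded by `N`. -/
def CoreStmt.{uG, uK, uV} (K : Type uK) [Field K] (p q N : ℕ) : Prop :=
  ∀ (V : Type uV) [AddCommGroup V] [Module K V] [FiniteDimensional K V]
    (G : Type uG) [Group G] [Finite G] (ρ : Representation K G V) (Q : Subgroup G) (x : G)
    (n r : ℕ),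
    finrank K V + Nat.card Q ≤ N → IsPGroup q Q → (∀ g ∈ Q, x * g * x⁻¹ ∈ Q) →
    x ^ p ^ (n + 1) = 1 →
    (∃ g ∈ Q, ρ g * ρ (x ^ p ^ n) ≠ ρ (x ^ p ^ n) * ρ g) →
    (ρ x - 1) ^ r = 0 → (∀ k < r, (ρ x - 1) ^ k ≠ 0) → Concl p q (n + 1) r Q

variable {K : Type*} [Field K] {V : Type*} [AddCommGroup V] [Module K V]

theorem pow_conj_mem {G : Type*} [Group G] (Q : Subgroup G) (x : G)
    (hQx : ∀ g ∈ Q, x * g * x⁻¹ ∈ Q) (k : ℕ) : ∀ g ∈ Q, x ^ k * g * (x ^ k)⁻¹ ∈ Q := by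
  induction k with
  | zero => intro g hg; simpa using hg
  | succ k ih =>
    intro g hg
    have := hQx _ (ih g hg)
    convert this using 1
    rw [pow_succ']
    group

/-- `(X - 1) ^ (p ^ m) = 0` when `X ^ (p ^ m) = 1` in characteristic `p`. -/
theorem sub_one_pow_pow_eq_zero (p : ℕ) [hp : Fact p.Prime] [CharP K p] (X : End K V) (m : ℕ)
    (hX : X ^ p ^ m = 1) : (X - 1) ^ p ^ m = 0 := by
  have hpos : 0 < p ^ m := pow_pos hp.out.pos m
  have h1 := alg_geom_eq (K := K) p m X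
  have h2 : (X - 1) ^ (p ^ m) = (X - 1) ^ (p ^ m - 1) * (X - 1) := by
    rw [← pow_succ, Nat.sub_add_cancel hpos]
  rw [h2, ← h1, geom_sum_mul, hX, sub_self]

theorem comm_sq_zero (U : Submodule K V) (a b ai bi : End K V) (ha : a * ai = 1) (hb : b * bi = 1)
    (haiU : ∀ u ∈ U, ai u ∈ U) (hbiU : ∀ u ∈ U, bi u ∈ U)
    (h1 : ∀ u ∈ U, a (b u) = b (a u)) (h2 : ∀ v, a (b v) - b (a v) ∈ U) :
    (a * b * ai * bi - 1) ^ 2 = 0 := by
  have hD : ∀ v, (a * b * ai * bi - 1) v = a (b (ai (bi v))) - b (a (ai (bi v))) := by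
    intro v
    have e1 : a (ai (bi v)) = bi v := by
      rw [← Module.End.mul_apply, ha, Module.End.one_apply]
    have e2 : b (bi v) = v := by
      rw [← Module.End.mul_apply, hb, Module.End.one_apply]
    rw [e1, e2]
    simp [Module.End.mul_apply]
  have hDV : ∀ v, (a * b * ai * bi - 1) v ∈ U := by
    intro v
    rw [hD]
    exact h2 _
  have hDU : ∀ u ∈ U, (a * b * ai * bi - 1) u = 0 := by
    intro u hu
    rw [hD, h1 _ (haiU _ (hbiU _ hu)), sub_self]
  ext v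
  rw [pow_two, Module.End.mul_apply, LinearMap.zero_apply]
  exact hDU _ (hDV v)

/-- An endomorphism of `q`-power order with `(C - 1) ^ 2 = 0` in characteristic `p ≠ q` is `1`. -/
theorem eq_one_of_sq_zero (p q : ℕ) [hp : Fact p.Prime] [hq : Fact q.Prime] (hpq : p ≠ q)
    [CharP K p] (C : End K V) (k : ℕ) (hCq : C ^ q ^ k = 1) (hC2 : (C - 1) ^ 2 = 0) : C = 1 := by
  have hCp : C ^ p = 1 := by
    have h1 := sub_one_pow_char (K := K) p C
    have h2 : (C - 1) ^ p = 0 := by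
      have : p = 2 + (p - 2) := by have := hp.out.two_le; omega
      rw [this, pow_add, hC2, zero_mul]
    rw [h2] at h1
    exact (sub_eq_zero.mp h1.symm)
  have hd1 : orderOf C ∣ p := orderOf_dvd_of_pow_eq_one hCp
  have hd2 : orderOf C ∣ q ^ k := orderOf_dvd_of_pow_eq_one hCq
  have hcop : Nat.Coprime p (q ^ k) :=
    Nat.Coprime.pow_right k ((Nat.coprime_primes hp.out hq.out).mpr hpq)
  have h1 : orderOf C = 1 := Nat.eq_one_of_dvd_coprimes hcop hd1 hd2
  exact orderOf_eq_one_iff.mp h1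

/-- If `ρ g` and `ρ y` commute on `U` and on `V ⧸ U` (with `U` invariant, `g` in the `q`-group `Q`
normalised by `y`), then they commute. -/
theorem commute_of_sub_quot (p q : ℕ) [hp : Fact p.Prime] [hq : Fact q.Prime] (hpq : p ≠ q)
    [CharP K p] {G : Type*} [Group G] (ρ : Representation K G V) (Q : Subgroup G)
    (hQ : IsPGroup q Q) (y : G) (hQy : ∀ g ∈ Q, y * g * y⁻¹ ∈ Q) (U : Submodule K V)
    (hU : Inv ρ U) (g : G) (hg : g ∈ Q)
    (h1 : ∀ u ∈ U, ρ g (ρ y u) = ρ y (ρ g u)) (h2 : ∀ v, ρ g (ρ y v) - ρ y (ρ g v) ∈ U) :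
    ρ g * ρ y = ρ y * ρ g := by
  set c := g * y * g⁻¹ * y⁻¹ with hc
  have hcQ : c ∈ Q := by
    have : c = g * (y * g⁻¹ * y⁻¹) := by rw [hc]; group
    rw [this]
    exact Q.mul_mem hg (hQy _ (Q.inv_mem hg))
  obtain ⟨k, hk⟩ := hQ ⟨c, hcQ⟩
  have hk' : c ^ q ^ k = 1 := by
    have := congrArg (fun w : Q => (w : G)) hk
    simpa using this
  have hCq : (ρ c) ^ q ^ k = 1 := by rw [← map_pow, hk', map_one]
  have hC2 : (ρ c - 1) ^ 2 = 0 := by
    have : ρ c = ρ g * ρ y * ρ g⁻¹ * ρ y⁻¹ := by rw [hc, map_mul, map_mul, map_mul]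
    rw [this]
    apply comm_sq_zero U (ρ g) (ρ y) (ρ g⁻¹) (ρ y⁻¹)
    · rw [← map_mul, mul_inv_cancel, map_one]
    · rw [← map_mul, mul_inv_cancel, map_one]
    · exact hU g⁻¹
    · exact hU y⁻¹
    · exact h1
    · exact h2
  have hC1 : ρ c = 1 := eq_one_of_sq_zero p q hpq (ρ c) k hCq hC2
  have : g * y = c * (y * g) := by rw [hc]; group
  rw [← map_mul, this, map_mul, hC1, one_mul, map_mul]

theorem r_le_of_pow_eq_one (p : ℕ) [hp : Fact p.Prime] [CharP K p] {G : Type*} [Group G]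
    (ρ : Representation K G V) (x : G) (m : ℕ) (hx : x ^ p ^ m = 1) (r : ℕ)
    (hmin : ∀ k < r, (ρ x - 1) ^ k ≠ 0) : r ≤ p ^ m := by
  apply nilp_index_le hmin
  apply sub_one_pow_pow_eq_zero
  rw [← map_pow, hx, map_one]

section step

universe uG uK uV

/-- Reduction to a proper invariant subspace or its quotient. -/
theorem step_subquot {K : Type uK} [Field K] (p q : ℕ) [hp : Fact p.Prime] [hq : Fact q.Prime]
    (hpq : p ≠ q) [CharP K p] (N : ℕ) (ih : ∀ m < N, CoreStmt.{uG, uK, uV} K p q m)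
    {V : Type uV} [AddCommGroup V] [Module K V] [FiniteDimensional K V]
    {G : Type uG} [Group G] [Finite G] (ρ : Representation K G V) (Q : Subgroup G) (x : G)
    (n r : ℕ) (hN : finrank K V + Nat.card Q ≤ N) (hQ : IsPGroup q Q)
    (hQx : ∀ g ∈ Q, x * g * x⁻¹ ∈ Q) (hx : x ^ p ^ (n + 1) = 1)
    (hNC : ∃ g ∈ Q, ρ g * ρ (x ^ p ^ n) ≠ ρ (x ^ p ^ n) * ρ g)
    (hr : (ρ x - 1) ^ r = 0) (hmin : ∀ k < r, (ρ x - 1) ^ k ≠ 0)
    (U : Submodule K V) (hU : Inv ρ U) (hU0 : U ≠ ⊥) (hU1 : U ≠ ⊤) :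
    Concl p q (n + 1) r Q := by
  have hrle : r ≤ p ^ (n + 1) := r_le_of_pow_eq_one p ρ x (n + 1) hx r hmin
  have hfU : finrank K U < finrank K V := Submodule.finrank_lt hU1
  have hfQ : finrank K (V ⧸ U) < finrank K V := by
    have h1 := Submodule.finrank_quotient_add_finrank U
    have h2 : 0 < finrank K U := by
      rw [Module.finrank_pos_iff]
      exact (Submodule.nontrivial_iff_ne_bot).mpr hU0
    omega
  set y := x ^ p ^ n with hy
  by_cases hNCU : ∃ g ∈ Q, subRep ρ U hU g * subRep ρ U hU y ≠ subRep ρ U hU y * subRep ρ U hU g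
  · -- the subrepresentation
    have hrU : (subRep ρ U hU x - 1) ^ r = 0 := by
      apply LinearMap.ext
      intro u
      apply Subtype.ext
      have := restrict_sub_one_pow U (ρ x) (hU x) r u
      rw [hr, LinearMap.zero_apply] at this
      exact this
    obtain ⟨r', hr', hmin'⟩ := exists_nilp_index _ hrU
    have hle : r' ≤ r := nilp_index_le hmin' hrU
    have := ih (finrank K U + Nat.card Q) (by omega) U G (subRep ρ U hU) Q x n r' le_rfl hQ hQx hx
      hNCU hr' hmin'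
    exact this.of_le hle hrle
  by_cases hNCQ : ∃ g ∈ Q, quotRep ρ U hU g * quotRep ρ U hU y ≠ quotRep ρ U hU y * quotRep ρ U hU g
  · have hrU : (quotRep ρ U hU x - 1) ^ r = 0 := by
      apply LinearMap.ext
      intro v'
      obtain ⟨v, rfl⟩ := Submodule.Quotient.mk_surjective U v'
      have := mapQ_sub_one_pow U (ρ x) (hU x) r v
      rw [hr, LinearMap.zero_apply, Submodule.Quotient.mk_zero] at this
      exact this
    obtain ⟨r', hr', hmin'⟩ := exists_nilp_index _ hrU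
    have hle : r' ≤ r := nilp_index_le hmin' hrU
    have := ih (finrank K (V ⧸ U) + Nat.card Q) (by omega) (V ⧸ U) G (quotRep ρ U hU) Q x n r' le_rfl
      hQ hQx hx hNCQ hr' hmin'
    exact this.of_le hle hrle
  exfalso
  push Not at hNCU hNCQ
  obtain ⟨g, hg, hgne⟩ := hNC
  apply hgne
  apply commute_of_sub_quot p q hpq ρ Q hQ y (pow_conj_mem Q x hQx _) U hU g hg
  · intro u hu
    have := congrArg (fun f : End K U => ((f ⟨u, hu⟩ : U) : V)) (hNCU g hg)
    simpa [subRep_apply] using this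
  · intro v
    have := congrArg (fun f : End K (V ⧸ U) => f (Submodule.Quotient.mk v)) (hNCQ g hg)
    simp only [Module.End.mul_apply, quotRep_mk] at this
    exact (Submodule.Quotient.eq U).mp this

end step

end Cfsg.Agent.Helper31.HH
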