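import Mathlib
import Cfsg.Agent.Lib.Helper31.HHDense

set_option autoImplicit false

/-!
# Irreducible representations of `q`-groups over an algebraically closed field have `q`-power degree
-/

namespace Cfsg.Agent.Helper31.HH

open Module

universe u v w

variable {K : Type w} [Field K]

theorem finrank_eq_sum_of_indep {V : Type*} [AddCommGroup V] [Module K V] [FiniteDimensional K V]
    {ι : Type*} [Fintype ι] [DecidableEq ι] (A : ι → Submodule K V) (hind : iSupIndep A)
    (htop : iSup A = ⊤) : finrank K V = ∑ i, finrank K (A i) := by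
  have h := DirectSum.isInternal_submodule_of_iSupIndep_of_iSup_eq_top hind htop
  rw [← (LinearEquiv.ofBijective (DirectSum.coeLinearMap A) h).finrank_eq,
    Module.finrank_directSum]

section scalar

variable {Γ : Type v} [Group Γ] {V : Type u} [AddCommGroup V] [Module K V] [Nontrivial V]

theorem smul_one_ne_zero_of_unit {T : End K V} {μ : K} (hT : T = μ • 1) {T' : End K V}
    (hTT : T * T' = 1) : μ ≠ 0 := by
  rintro rfl
  rw [zero_smul] at hT
  rw [hT, zero_mul] at hTT
  obtain ⟨v, hv⟩ := exists_ne (0 : V)
  have := congrArg (fun f : End K V => f v) hTT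
  simp only [LinearMap.zero_apply, Module.End.one_apply] at this
  exact hv this.symm

/-- The subgroup of elements acting as scalars. -/
def scalarSubgroup (σ : Representation K Γ V) : Subgroup Γ where
  carrier := {g | ∃ μ : K, σ g = μ • 1}
  one_mem' := ⟨1, by simp⟩
  mul_mem' := by
    rintro a b ⟨μ, hμ⟩ ⟨ν, hν⟩
    exact ⟨μ * ν, by rw [map_mul, hμ, hν, smul_mul_smul_comm, mul_one]⟩
  inv_mem' := by
    rintro a ⟨μ, hμ⟩
    have h1 : σ a * σ a⁻¹ = 1 := by rw [← map_mul, mul_inv_cancel, map_one]
    have hμ0 := smul_one_ne_zero_of_unit hμ h1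
    refine ⟨μ⁻¹, ?_⟩
    rw [hμ, smul_mul_assoc, one_mul] at h1
    rw [← h1, smul_smul, inv_mul_cancel₀ hμ0, one_smul]

theorem mem_scalarSubgroup {σ : Representation K Γ V} {g : Γ} :
    g ∈ scalarSubgroup σ ↔ ∃ μ : K, σ g = μ • 1 := Iff.rfl

instance scalarSubgroup_normal (σ : Representation K Γ V) : (scalarSubgroup σ).Normal where
  conj_mem := by
    rintro a ⟨μ, hμ⟩ g
    refine ⟨μ, ?_⟩
    rw [map_mul, map_mul, hμ, mul_smul_comm, mul_one, smul_mul_assoc, ← map_mul, mul_inv_cancel,
      map_one]

/-- If all elements act as scalars and the representation is irreducible, the degree is one. -/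
theorem finrank_eq_one_of_scalar [FiniteDimensional K V] {σ : Representation K Γ V}
    (hirr : Irr σ) (hsc : ∀ g, ∃ μ : K, σ g = μ • 1) : finrank K V = 1 := by
  obtain ⟨v, hv⟩ := exists_ne (0 : V)
  have hinv : ∀ g, (Submodule.span K {v}).map (σ g) ≤ Submodule.span K {v} := by
    intro g
    rintro _ ⟨w, hw, rfl⟩
    obtain ⟨μ, hμ⟩ := hsc g
    rw [hμ]
    simpa using Submodule.smul_mem _ μ hw
  rcases hirr _ hinv with h | h
  · exact absurd (Submodule.span_singleton_eq_bot.mp h) hv
  · rw [← finrank_top K V, ← h, finrank_span_singleton hv]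

end scalar


section main

theorem end_ne_zero_of_mul_eq_one {V : Type*} [AddCommGroup V] [Module K V] [Nontrivial V]
    {A B : End K V} (h : A * B = 1) : A ≠ 0 := by
  rintro rfl
  rw [zero_mul] at h
  obtain ⟨v, hv⟩ := exists_ne (0 : V)
  have := congrArg (fun f : End K V => f v) h
  simp only [LinearMap.zero_apply, Module.End.one_apply] at this
  exact hv this.symm

theorem finrank_eq_prime_pow [IsAlgClosed K] (q : ℕ) [Fact q.Prime] :
    ∀ (d : ℕ) (V : Type u) [AddCommGroup V] [Module K V] [FiniteDimensional K V] [Nontrivial V]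
      (Γ : Type v) [Group Γ] [Finite Γ] (_ : IsPGroup q Γ) (σ : Representation K Γ V)
      (_ : Irr σ), finrank K V = d → ∃ b, d = q ^ b := by
  intro d
  induction d using Nat.strong_induction_on with
  | _ d ih =>
  intro V _ _ _ _ Γ _ _ hΓ σ hirr hd
  classical
  haveI : Fintype Γ := Fintype.ofFinite Γ
  by_cases hZ : scalarSubgroup σ = ⊤
  · refine ⟨0, ?_⟩
    rw [pow_zero, ← hd]
    exact finrank_eq_one_of_scalar hirr (fun g => by
      have : g ∈ scalarSubgroup σ := by rw [hZ]; trivial
      exact this)
  · haveI : Nontrivial (Γ ⧸ scalarSubgroup σ) := QuotientGroup.nontrivial_iff.mpr hZ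
    have hq : IsPGroup q (Γ ⧸ scalarSubgroup σ) := hΓ.to_quotient _
    haveI := hq.center_nontrivial
    obtain ⟨⟨ybar, hybar⟩, hne⟩ := exists_ne (1 : Subgroup.center (Γ ⧸ scalarSubgroup σ))
    obtain ⟨y, rfl⟩ := QuotientGroup.mk_surjective ybar
    have hy : y ∉ scalarSubgroup σ := fun h =>
      hne (Subtype.ext ((QuotientGroup.eq_one_iff y).mpr h))
    have hcomm : ∀ g : Γ, y * g * y⁻¹ * g⁻¹ ∈ scalarSubgroup σ := by
      intro g
      rw [← QuotientGroup.eq_one_iff]
      have h1 := Subgroup.mem_center_iff.mp hybar (g : Γ ⧸ scalarSubgroup σ)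
      simp only [QuotientGroup.mk_mul, QuotientGroup.mk_inv]
      rw [← h1]
      group
    set Y : End K V := σ y with hY
    have hχ : ∀ g : Γ, ∃ c : K, Y * σ g = c • (σ g * Y) := by
      intro g
      obtain ⟨c, hc⟩ := hcomm g
      refine ⟨c, ?_⟩
      have h1 : σ y * σ g = σ (y * g * y⁻¹ * g⁻¹) * (σ g * σ y) := by
        rw [← map_mul, ← map_mul, ← map_mul]
        congr 1
        group
      rw [hY, h1, hc, smul_mul_assoc, one_mul]
    choose χ hχ using hχ
    have hunit : ∀ g : Γ, σ g * Y ≠ 0 := by
      intro g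
      apply end_ne_zero_of_mul_eq_one (B := σ (y⁻¹ * g⁻¹))
      rw [hY, ← map_mul, ← map_mul, ← map_one σ]
      congr 1
      group
    have hunit' : ∀ g : Γ, Y * σ g ≠ 0 := by
      intro g
      apply end_ne_zero_of_mul_eq_one (B := σ (g⁻¹ * y⁻¹))
      rw [hY, ← map_mul, ← map_mul, ← map_one σ]
      congr 1
      group
    have hχ0 : ∀ g, χ g ≠ 0 := by
      intro g h0
      have := hχ g
      rw [h0, zero_smul] at this
      exact hunit' g this
    have hχmul : ∀ g h, χ (g * h) = χ g * χ h := by
      intro g h
      have h1 : Y * σ (g * h) = (χ g * χ h) • (σ (g * h) * Y) := by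
        rw [map_mul, ← mul_assoc, hχ g, smul_mul_assoc, mul_assoc, hχ h, mul_smul_comm, smul_smul,
          mul_assoc]
      have h2 := hχ (g * h)
      rw [h1] at h2
      exact (smul_left_injective K (hunit (g * h)) h2).symm
    let χ' : Γ →* Kˣ := MonoidHom.mk' (fun g => Units.mk0 (χ g) (hχ0 g)) (fun g h => by
      apply Units.ext
      simp [hχmul])
    have hχ'1 : ∀ g, g ∈ χ'.ker ↔ χ g = 1 := by
      intro g
      rw [MonoidHom.mem_ker]
      constructor
      · intro h
        have := congrArg (fun u : Kˣ => (u : K)) h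
        simpa [χ'] using this
      · intro h
        apply Units.ext
        simpa [χ'] using h
    have hχone : χ 1 = 1 := (hχ'1 1).mp (one_mem _)
    have hχinv : ∀ g, χ g⁻¹ * χ g = 1 := by
      intro g
      rw [← hχmul, inv_mul_cancel, hχone]
    obtain ⟨μ, hμ⟩ := Module.End.exists_eigenvalue Y
    have hμ0 : μ ≠ 0 := by
      rintro rfl
      obtain ⟨v, hv⟩ := hμ.exists_hasEigenvector
      have h1 : Y v = 0 := by
        have := hv.apply_eq_smul
        rwa [zero_smul] at this
      have h2 : σ y⁻¹ (Y v) = v := by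
        rw [hY, ← Module.End.mul_apply, ← map_mul, inv_mul_cancel, map_one, Module.End.one_apply]
      rw [h1, map_zero] at h2
      exact hv.2 h2.symm
    have hmap : ∀ (g : Γ) (ν : K) (v : V), v ∈ Y.eigenspace ν → σ g v ∈ Y.eigenspace (χ g * ν) := by
      intro g ν v hv
      rw [Module.End.mem_eigenspace_iff] at hv ⊢
      rw [← Module.End.mul_apply, hχ g, LinearMap.smul_apply, Module.End.mul_apply, hv, map_smul,
        smul_smul]
    -- the set of eigenvalues in the orbit
    set S : Finset K := Finset.univ.image (fun g => χ g * μ) with hS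
    have hμS : μ ∈ S := by
      rw [hS, Finset.mem_image]
      exact ⟨1, Finset.mem_univ _, by rw [hχone, one_mul]⟩
    let A : S → Submodule K V := fun ν => Y.eigenspace ν.1
    have hind : iSupIndep A := (Module.End.eigenspaces_iSupIndep Y).comp Subtype.val_injective
    have hAinv : ∀ h, (iSup A).map (σ h) ≤ iSup A := by
      intro h
      rw [Submodule.map_iSup]
      apply iSup_le
      intro ν
      obtain ⟨g, -, hg⟩ := Finset.mem_image.mp ν.2
      have hmem : χ h * ν.1 ∈ S :=
        Finset.mem_image.mpr ⟨h * g, Finset.mem_univ _, by rw [hχmul, mul_assoc, hg]⟩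
      refine le_trans ?_ (le_iSup A ⟨χ h * ν.1, hmem⟩)
      rintro _ ⟨v, hv, rfl⟩
      exact hmap h ν.1 v hv
    have htop : iSup A = ⊤ := by
      rcases hirr _ hAinv with h | h
      · exfalso
        have h1 : A ⟨μ, hμS⟩ ≤ iSup A := le_iSup A ⟨μ, hμS⟩
        rw [h, le_bot_iff] at h1
        exact Module.End.hasEigenvalue_iff.mp hμ h1
      · exact h
    have hfin := finrank_eq_sum_of_indep A hind htop
    have hle : ∀ (g : Γ) (ν : K), finrank K (Y.eigenspace ν) ≤ finrank K (Y.eigenspace (χ g * ν)) := by
      intro g ν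
      apply LinearMap.finrank_le_finrank_of_injective
        (f := (σ g).restrict (fun v hv => hmap g ν v hv))
      intro a b hab
      have h1 := congrArg (fun z : Y.eigenspace (χ g * ν) => (z : V)) hab
      simp only [LinearMap.coe_restrict_apply] at h1
      apply Subtype.ext
      have h2 := congrArg (σ g⁻¹) h1
      simpa [← Module.End.mul_apply, ← map_mul] using h2
    have heq : ∀ ν : S, finrank K (A ν) = finrank K (Y.eigenspace μ) := by
      intro ν
      obtain ⟨g, -, hg⟩ := Finset.mem_image.mp ν.2
      apply le_antisymm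
      · have := hle g⁻¹ ν.1
        have h3 : χ g⁻¹ * ν.1 = μ := by rw [← hg, ← mul_assoc, hχinv, one_mul]
        rw [h3] at this
        exact this
      · have := hle g μ
        rwa [hg] at this
    rw [Finset.sum_congr rfl (fun ν _ => heq ν), Finset.sum_const, Finset.card_univ,
      Fintype.card_coe, smul_eq_mul] at hfin
    -- the cardinality of S
    have hScard : ∃ k, S.card = q ^ k := by
      have hinj : Function.Injective (fun u : Kˣ => (u : K) * μ) := by
        intro a b hab
        exact Units.ext (mul_right_cancel₀ hμ0 hab)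
      have h1 : S = (Finset.univ.image χ').image (fun u : Kˣ => (u : K) * μ) := by
        rw [Finset.image_image]
        rfl
      have h2 : (Finset.univ.image χ').card = Nat.card χ'.range := by
        rw [← Set.toFinset_range, Set.toFinset_card, ← Nat.card_eq_fintype_card]
        rfl
      rw [h1, Finset.card_image_of_injective _ hinj, h2, ← Subgroup.index_ker]
      exact hΓ.index _
    obtain ⟨k, hk⟩ := hScard
    -- the restricted representation
    set T : Subgroup Γ := χ'.ker with hT
    have hTinv : ∀ g : T, ∀ v ∈ Y.eigenspace μ, σ g.1 v ∈ Y.eigenspace μ := by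
      intro g v hv
      have := hmap g.1 μ v hv
      rwa [(hχ'1 g.1).mp g.2, one_mul] at this
    let σ' : Representation K T (Y.eigenspace μ) :=
      { toFun := fun g => (σ g.1).restrict (hTinv g)
        map_one' := by
          ext v
          simp
        map_mul' := by
          intro a b
          ext v
          simp }
    have hσ' : ∀ (g : T) (v : Y.eigenspace μ), ((σ' g v : Y.eigenspace μ) : V) = σ g.1 v.1 := by
      intro g v
      rfl
    have hne_top : Y.eigenspace μ ≠ ⊤ := by
      intro h
      apply hy
      refine ⟨μ, ?_⟩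
      apply LinearMap.ext
      intro v
      have hv : v ∈ Y.eigenspace μ := by rw [h]; trivial
      rw [Module.End.mem_eigenspace_iff] at hv
      simpa using hv
    haveI : Nontrivial (Y.eigenspace μ) :=
      Submodule.nontrivial_iff_ne_bot.mpr (Module.End.hasEigenvalue_iff.mp hμ)
    have hirr' : Irr σ' := by
      intro W' hW'
      by_cases hbot : W' = ⊥
      · exact Or.inl hbot
      right
      set W'' : Submodule K V := W'.map (Y.eigenspace μ).subtype with hW''
      have hW''le : W'' ≤ Y.eigenspace μ := by
        rintro _ ⟨w, -, rfl⟩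
        exact w.2
      set What : Submodule K V := ⨆ g : Γ, W''.map (σ g) with hWhat
      have hWinv : ∀ h, What.map (σ h) ≤ What := by
        intro h
        rw [hWhat, Submodule.map_iSup]
        apply iSup_le
        intro g
        refine le_trans ?_ (le_iSup (fun g : Γ => W''.map (σ g)) (h * g))
        rintro _ ⟨_, ⟨w, hw, rfl⟩, rfl⟩
        exact ⟨w, hw, by rw [map_mul, Module.End.mul_apply]⟩
      have hWtop : What = ⊤ := by
        rcases hirr _ hWinv with h | h
        · exfalso
          apply hbot
          have h1 : W''.map (σ 1) ≤ What := le_iSup (fun g : Γ => W''.map (σ g)) 1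
          rw [h, le_bot_iff, map_one] at h1
          have h2 : W'' = ⊥ := by
            rw [← h1]
            ext v
            simp
          rw [eq_bot_iff]
          intro w hw
          have h3 : (w : V) ∈ W'' := ⟨w, hw, rfl⟩
          rw [h2, Submodule.mem_bot] at h3
          rw [Submodule.mem_bot]
          exact Subtype.ext h3
        · exact h
      set R : Submodule K V := ⨆ (ν : K) (_ : ν ≠ μ), Y.eigenspace ν with hR
      have hdisj : Disjoint (Y.eigenspace μ) R := (Module.End.eigenspaces_iSupIndep Y) μ
      have hWle : What ≤ W'' ⊔ R := by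
        rw [hWhat]
        apply iSup_le
        intro g
        by_cases hg : χ g = 1
        · refine le_trans ?_ le_sup_left
          rintro _ ⟨_, ⟨w, hw, rfl⟩, rfl⟩
          have hgT : g ∈ T := (hχ'1 g).mpr hg
          have h1 := hW' ⟨g, hgT⟩ ⟨w, hw, rfl⟩
          exact ⟨σ' ⟨g, hgT⟩ w, h1, rfl⟩
        · refine le_trans ?_ le_sup_right
          have hne : χ g * μ ≠ μ := by
            intro h
            apply hg
            have : χ g * μ = 1 * μ := by rw [h, one_mul]
            exact mul_right_cancel₀ hμ0 this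
          refine le_trans ?_ (le_iSup₂ (f := fun (ν : K) (_ : ν ≠ μ) => Y.eigenspace ν)
            (χ g * μ) hne)
          rintro _ ⟨v, hv, rfl⟩
          exact hmap g μ v (hW''le hv)
      rw [eq_top_iff]
      intro v' _
      have hv : (v' : V) ∈ W'' ⊔ R := hWle (by rw [hWtop]; trivial)
      obtain ⟨w, hw, r, hr, hwr⟩ := Submodule.mem_sup.mp hv
      have hrE : r ∈ Y.eigenspace μ := by
        have : r = (v' : V) - w := by rw [← hwr]; abel
        rw [this]
        exact Submodule.sub_mem _ v'.2 (hW''le hw)
      have hr0 : r = 0 := (Submodule.disjoint_def.mp hdisj) r hrE hr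
      rw [hr0, add_zero] at hwr
      rw [hwr] at hw
      obtain ⟨w', hw', hw'v⟩ := hw
      have : w' = v' := Subtype.ext hw'v
      rwa [this] at hw'
    have hlt : finrank K (Y.eigenspace μ) < d := by
      rw [← hd]
      exact Submodule.finrank_lt hne_top
    obtain ⟨b', hb'⟩ := ih _ hlt (Y.eigenspace μ) T (hΓ.to_subgroup T) σ' hirr' rfl
    refine ⟨k + b', ?_⟩
    rw [← hd, hfin, hk, hb', pow_add]

end main

end Cfsg.Agent.Helper31.HH
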