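import Mathlib
import Cfsg.Agent.Lib.Helper31.HHDense

set_option autoImplicit false

/-!
# Hall–Higman critical case: the commutant of `ρ x` is scalars plus norms

`Q ⊴ G` with `ρ|Q` irreducible over an algebraically closed field in which `|Q|` is invertible, and
`x` acting on `Q` such that non-central elements of `Q` have regular `⟨x⟩`-orbits.  Then every
endomorphism commuting with `ρ x` is a scalar plus a norm `∑ t ∈ ⟨x⟩, ρ t e' ρ t⁻¹`.
-/

namespace Cfsg.Agent.Helper31.HH

open Module Finset

section ring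

variable {R S : Type*} [Ring R] [Ring S]

/-- In a ring whose left ideals are complemented, an element of the target fixed by an
automorphism compatible with `f` lifts to a fixed element. -/
theorem exists_fixed_lift (hcompl : ∀ p : Submodule R R, ∃ q : Submodule R R, IsCompl p q)
    (f : R →+* S) (θ : R ≃+* R) (h1 : ∀ r, f r = 0 → f (θ.symm r) = 0)
    (e : S) (h3 : ∀ r, f r = e → f (θ r) = e) (r : R) (hr : f r = e) :
    ∃ b : R, f b = e ∧ θ b = b := by
  -- the right annihilator of the kernel, as a left ideal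
  let B : Submodule R R :=
    { carrier := {b | ∀ i, f i = 0 → i * b = 0}
      add_mem' := fun {a b} ha hb i hi => by rw [mul_add, ha i hi, hb i hi, add_zero]
      zero_mem' := fun i _ => mul_zero i
      smul_mem' := fun c b hb i hi => by
        rw [smul_eq_mul, ← mul_assoc]
        exact hb (i * c) (by rw [map_mul, hi, zero_mul]) }
  have hB : ∀ b, b ∈ B ↔ ∀ i, f i = 0 → i * b = 0 := fun b => Iff.rfl
  let I : Submodule R R := RingHom.ker f
  have hI : ∀ i, i ∈ I ↔ f i = 0 := fun i => RingHom.mem_ker
  -- step A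
  obtain ⟨L, hL⟩ := hcompl I
  have h1L : (1 : R) ∈ I ⊔ L := by rw [hL.codisjoint.eq_top]; trivial
  obtain ⟨e₀, he₀, f₀, hf₀, hef⟩ := Submodule.mem_sup.mp h1L
  have hf₀B : f₀ ∈ B := by
    intro i hi
    have h2 : i * f₀ ∈ L := by
      have := L.smul_mem i hf₀
      simpa using this
    have h4 : i * f₀ ∈ I := by rw [hI, map_mul, hi, zero_mul]
    exact (Submodule.disjoint_def.mp hL.disjoint) _ h4 h2
  have hff₀ : f f₀ = 1 := by
    have := congrArg f hef
    rw [map_add, (hI e₀).mp he₀, zero_add, map_one] at this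
    exact this
  -- step B
  have hIB : ∀ j, f j = 0 → j ∈ B → j = 0 := by
    intro j hj hjB
    obtain ⟨L', hL'⟩ := hcompl (I ⊓ B)
    have h1L' : (1 : R) ∈ (I ⊓ B) ⊔ L' := by rw [hL'.codisjoint.eq_top]; trivial
    obtain ⟨j₀, hj₀, l₀, hl₀, hjl⟩ := Submodule.mem_sup.mp h1L'
    have h5 : j * j₀ = 0 := (Submodule.mem_inf.mp hj₀).2 j hj
    have h6 : j = j * l₀ := by
      conv_lhs => rw [← mul_one j, ← hjl, mul_add, h5, zero_add]
    have h7 : j ∈ L' := by
      rw [h6]
      have := L'.smul_mem j hl₀
      simpa using this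
    exact (Submodule.disjoint_def.mp hL'.disjoint) _
      (Submodule.mem_inf.mpr ⟨(hI j).mpr hj, hjB⟩) h7
  -- step C
  refine ⟨r * f₀, by rw [map_mul, hff₀, mul_one, hr], ?_⟩
  have hbB : r * f₀ ∈ B := B.smul_mem r hf₀B
  have hfb : f (r * f₀) = e := by rw [map_mul, hff₀, mul_one, hr]
  have hθB : θ (r * f₀) ∈ B := by
    intro i hi
    have h8 : θ.symm i * (r * f₀) = 0 := hbB _ (h1 i hi)
    have := congrArg θ h8
    rwa [map_mul, RingEquiv.apply_symm_apply, map_zero] at this
  have h9 : θ (r * f₀) - r * f₀ = 0 := by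
    apply hIB
    · rw [map_sub, h3 _ hfb, hfb, sub_self]
    · exact B.sub_mem hθB hbB
  exact sub_eq_zero.mp h9

end ring


section orbit

variable {G : Type*} [Group G] (Q : Subgroup G) [Q.Normal] (x : G)

/-- Conjugacy under `⟨x⟩` on the normal subgroup `Q`. -/
def conjSetoid : Setoid Q where
  r g h := ∃ t ∈ Subgroup.zpowers x, MulAut.conjNormal t g = h
  iseqv :=
    ⟨fun g => ⟨1, one_mem _, by simp⟩,
     fun {g h} ⟨t, ht, hth⟩ => ⟨t⁻¹, inv_mem ht, by rw [← hth]; simp⟩,
     fun {g h k} ⟨t, ht, h1⟩ ⟨s, hs, h2⟩ =>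
       ⟨s * t, mul_mem hs ht, by rw [map_mul, MulAut.mul_apply, h1, h2]⟩⟩

/-- A chosen orbit representative. -/
noncomputable def rep (g : Q) : Q := (Quotient.mk (conjSetoid Q x) g).out

theorem rep_rel (g : Q) : ∃ t ∈ Subgroup.zpowers x, MulAut.conjNormal t g = rep Q x g := by
  have h : (conjSetoid Q x).r (rep Q x g) g := Quotient.mk_out (s := conjSetoid Q x) g
  obtain ⟨t, ht, hth⟩ := h
  refine ⟨t⁻¹, inv_mem ht, ?_⟩
  conv_lhs => rw [← hth]
  simp

theorem rep_conj (g : Q) {t : G} (ht : t ∈ Subgroup.zpowers x) :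
    rep Q x (MulAut.conjNormal t g) = rep Q x g := by
  unfold rep
  congr 1
  apply Quotient.sound
  exact ⟨t⁻¹, inv_mem ht, by simp⟩

variable (K : Type*) [Field K]

open Classical in
/-- The indicator of the set of orbit representatives. -/
noncomputable def uFun (g : Q) : K := if rep Q x g = g then 1 else 0

theorem sum_uFun [Fintype (Subgroup.zpowers x)] (g : Q)
    (hfree : ∀ t ∈ Subgroup.zpowers x, t ≠ 1 → MulAut.conjNormal t g ≠ g) :
    ∑ t : Subgroup.zpowers x, uFun Q x K (MulAut.conjNormal (t : G) g) = 1 := by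
  classical
  obtain ⟨t₀, ht₀, h0⟩ := rep_rel Q x g
  have key : ∀ t : Subgroup.zpowers x, uFun Q x K (MulAut.conjNormal (t : G) g) =
      if t = ⟨t₀, ht₀⟩ then 1 else 0 := by
    intro t
    unfold uFun
    rw [rep_conj Q x g t.2, ← h0]
    have hiff : (MulAut.conjNormal t₀ g = MulAut.conjNormal (t : G) g) ↔ t = ⟨t₀, ht₀⟩ := by
      constructor
      · intro h
        by_contra hne
        have hne' : (t₀⁻¹ * (t : G)) ≠ 1 := by
          intro h1
          apply hne
          apply Subtype.ext
          have : (t : G) = t₀ := by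
            have := congrArg (fun z => t₀ * z) h1
            simpa using this
          exact this
        apply hfree (t₀⁻¹ * t) (mul_mem (inv_mem ht₀) t.2) hne'
        rw [map_mul, MulAut.mul_apply, ← h]
        simp
      · rintro rfl
        rfl
    simp only [hiff]
  rw [Finset.sum_congr rfl (fun t _ => key t)]
  simp

end orbit


section main

variable {G : Type*} [Group G] [Finite G] (Q : Subgroup G) [Q.Normal] (x : G)
variable {K : Type*} [Field K] [IsAlgClosed K] {V : Type*} [AddCommGroup V] [Module K V]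
  [FiniteDimensional K V] [Nontrivial V]

omit [Finite G] [IsAlgClosed K] [FiniteDimensional K V] [Nontrivial V] in
theorem conj_rho (ρ : Representation K G V) (t : G) (g : Q) :
    (ρ.comp Q.subtype) (MulAut.conjNormal t g) = ρ t * (ρ.comp Q.subtype) g * ρ t⁻¹ := by
  simp only [MonoidHom.comp_apply, Subgroup.subtype_apply, MulAut.conjNormal_apply, map_mul]

/-- The commutant of `ρ x` is scalars plus norms. -/
theorem commutant_decomp [Fintype (Subgroup.zpowers x)] (ρ : Representation K G V)
    [NeZero (Nat.card Q : K)] (hirr : Irr (ρ.comp Q.subtype))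
    (hfree : ∀ g ∈ Q, ∀ t ∈ Subgroup.zpowers x, t ≠ 1 → t * g * t⁻¹ = g → g ∈ Subgroup.center G)
    (e : End K V) (he : Commute e (ρ x)) :
    ∃ (l : K) (e' : End K V),
      e = l • 1 + ∑ t : Subgroup.zpowers x, ρ (t : G) * e' * ρ (t : G)⁻¹ := by
  classical
  haveI : Fintype Q := Fintype.ofFinite Q
  set σ : Representation K Q V := ρ.comp Q.subtype with hσ
  set π := σ.asAlgebraHom with hπ
  set θ : MonoidAlgebra K Q ≃ₐ[K] MonoidAlgebra K Q :=
    MonoidAlgebra.domCongr K K (MulAut.conjNormal x) with hθ
  have hxx : ρ x * ρ x⁻¹ = 1 := by rw [← map_mul, mul_inv_cancel, map_one]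
  have hxx' : ρ x⁻¹ * ρ x = 1 := by rw [← map_mul, inv_mul_cancel, map_one]
  have hπθ : ∀ a, π (θ a) = ρ x * π a * ρ x⁻¹ := by
    intro a
    induction a using MonoidAlgebra.induction_linear with
    | zero => simp
    | add a b ha hb => rw [map_add, map_add, ha, hb, map_add, mul_add, add_mul]
    | single g c =>
      rw [hθ, MonoidAlgebra.domCongr_single, hπ, Representation.asAlgebraHom_single,
        Representation.asAlgebraHom_single, conj_rho, mul_smul_comm, smul_mul_assoc]
  have hπθs : ∀ a, π (θ.symm a) = ρ x⁻¹ * π a * ρ x := by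
    intro a
    have h := hπθ (θ.symm a)
    rw [AlgEquiv.apply_symm_apply] at h
    rw [h]
    calc π (θ.symm a) = (ρ x⁻¹ * ρ x) * π (θ.symm a) * (ρ x⁻¹ * ρ x) := by
          rw [hxx', one_mul, mul_one]
      _ = _ := by simp only [mul_assoc]
  obtain ⟨r, hr⟩ := hirr.burnside e
  obtain ⟨b, hb, hθb⟩ := exists_fixed_lift
    (fun p => MonoidAlgebra.Submodule.exists_isCompl p)
    (π : MonoidAlgebra K Q →+* End K V) (θ : MonoidAlgebra K Q ≃+* MonoidAlgebra K Q)
    (fun a ha => by
      have h := hπθs a
      have ha' : π a = 0 := ha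
      rw [ha', mul_zero, zero_mul] at h
      exact h)
    e
    (fun a ha => by
      have h := hπθ a
      have ha' : π a = e := ha
      rw [ha', ← he.eq, mul_assoc, hxx, mul_one] at h
      exact h)
    r hr
  have hb' : π b = e := hb
  have hθb' : θ b = b := hθb
  -- invariance of the coefficients
  have hbx : ∀ g : Q, b.coeff (MulAut.conjNormal x g) = b.coeff g := by
    intro g
    have h := congrArg (fun a : MonoidAlgebra K Q => a.coeff (MulAut.conjNormal x g)) hθb'
    simp only [hθ, MonoidAlgebra.coeff_domCongr, MulEquiv.symm_apply_apply] at h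
    exact h.symm
  let T : Subgroup G :=
    { carrier := {t | ∀ g : Q, b.coeff (MulAut.conjNormal t g) = b.coeff g}
      mul_mem' := fun {s t} hs ht g => by
        rw [map_mul, MulAut.mul_apply, hs, ht]
      one_mem' := fun g => by simp
      inv_mem' := fun {t} ht g => by
        have := ht (MulAut.conjNormal t⁻¹ g)
        rw [← this]
        simp }
  have hbinv : ∀ t ∈ Subgroup.zpowers x, ∀ g : Q, b.coeff (MulAut.conjNormal t g) = b.coeff g := by
    have : Subgroup.zpowers x ≤ T := (Subgroup.zpowers_le).mpr hbx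
    exact fun t ht => this ht
  -- expansion of π b
  have hexp : e = ∑ g : Q, b.coeff g • σ g := by
    rw [← hb', hπ, Representation.asAlgebraHom_def, MonoidAlgebra.lift_apply,
      Finsupp.sum_fintype]
    intro i
    rw [zero_smul]
  set w : Q → K := fun g => if (g : G) ∈ Subgroup.center G then 0 else 1 with hw
  have hwconj : ∀ (t : G) (g : Q), w (MulAut.conjNormal t g) = w g := by
    intro t g
    have : ((MulAut.conjNormal t g : Q) : G) ∈ Subgroup.center G ↔ (g : G) ∈ Subgroup.center G := by
      rw [MulAut.conjNormal_apply]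
      constructor
      · intro h
        have := (inferInstance : (Subgroup.center G).Normal).conj_mem _ h t⁻¹
        simpa [mul_assoc] using this
      · intro h
        exact (inferInstance : (Subgroup.center G).Normal).conj_mem _ h t
    simp only [hw, this]
  -- part 1: central part is scalar
  have hpart1 : ∑ g : Q, ((1 - w g) * b.coeff g) • σ g ∈ Submodule.span K {(1 : End K V)} := by
    apply Submodule.sum_mem
    intro g _
    by_cases hg : (g : G) ∈ Subgroup.center G
    · have hcomm : ∀ h : Q, Commute (σ g) (σ h) := by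
        intro h
        have : g * h = h * g := by
          apply Subtype.ext
          exact (Subgroup.mem_center_iff.mp hg (h : G)).symm
        rw [Commute, SemiconjBy, ← map_mul, ← map_mul, this]
      obtain ⟨μ, hμ⟩ := hirr.schur (σ g) hcomm
      rw [hμ, smul_smul]
      exact Submodule.smul_mem _ _ (Submodule.mem_span_singleton_self _)
    · have : w g = 1 := by simp only [hw, if_neg hg]
      rw [this, sub_self, zero_mul, zero_smul]
      exact Submodule.zero_mem _
  obtain ⟨l, hl⟩ := Submodule.mem_span_singleton.mp hpart1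
  -- part 2
  set γ : End K V := ∑ g : Q, (uFun Q x K g * w g * b.coeff g) • σ g with hγ
  refine ⟨l, γ, ?_⟩
  have hconjγ : ∀ t : Subgroup.zpowers x, ρ (t : G) * γ * ρ (t : G)⁻¹ =
      ∑ h : Q, (uFun Q x K (MulAut.conjNormal (t : G)⁻¹ h) * w h * b.coeff h) • σ h := by
    intro t
    rw [hγ, Finset.mul_sum, Finset.sum_mul]
    apply Fintype.sum_equiv (MulAut.conjNormal (t : G) : Q ≃* Q).toEquiv
    intro g
    simp only [MulEquiv.toEquiv_eq_coe, MulEquiv.coe_toEquiv]
    rw [hwconj, hbinv _ t.2, conj_rho, mul_smul_comm, smul_mul_assoc]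
    congr 3
    simp
  have hfree' : ∀ h : Q, (h : G) ∉ Subgroup.center G →
      ∀ t ∈ Subgroup.zpowers x, t ≠ 1 → MulAut.conjNormal t h ≠ h := by
    intro h hh t ht ht1 hcon
    apply hh
    apply hfree h h.2 t ht ht1
    have := congrArg (fun z : Q => (z : G)) hcon
    simpa [MulAut.conjNormal_apply] using this
  have hnorm : ∑ t : Subgroup.zpowers x, ρ (t : G) * γ * ρ (t : G)⁻¹ =
      ∑ h : Q, (w h * b.coeff h) • σ h := by
    rw [Finset.sum_congr rfl (fun t _ => hconjγ t), Finset.sum_comm]
    apply Finset.sum_congr rfl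
    intro h _
    rw [← Finset.sum_smul]
    congr 1
    by_cases hh : (h : G) ∈ Subgroup.center G
    · have : w h = 0 := by simp only [hw, if_pos hh]
      simp [this]
    · have h1 := sum_uFun Q x K h (hfree' h hh)
      have h2 : ∑ t : Subgroup.zpowers x, uFun Q x K (MulAut.conjNormal (t : G)⁻¹ h) = 1 := by
        rw [← h1]
        apply Fintype.sum_equiv (Equiv.inv (Subgroup.zpowers x))
        intro t
        simp
      simp_rw [mul_assoc]
      rw [← Finset.sum_mul, h2, one_mul]
  rw [hnorm, hl, ← Finset.sum_add_distrib]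
  conv_lhs => rw [hexp]
  apply Finset.sum_congr rfl
  intro g _
  rw [← add_smul]
  congr 1
  ring

end main

end Cfsg.Agent.Helper31.HH
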