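import Mathlib
import Cfsg.Agent.Lib.Helper31.HHFilt
import Cfsg.Agent.Lib.Helper31.HHDense
import Cfsg.Agent.Lib.Helper31.HHSplit
import Cfsg.Agent.Lib.Helper31.HHQPow

set_option autoImplicit false

/-!
# Hall–Higman critical case: assembly
-/

namespace Cfsg.Agent.Helper31.HH

open Module Finset

section grp

variable {G : Type*} [Group G] [Finite G]

/-- Elements of the normal `q`-subgroup fixed by a non-trivial power of `x` are central. -/
theorem central_of_fixed (p q : ℕ) [hp : Fact p.Prime] [hq : Fact q.Prime] (hpq : p ≠ q)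
    (Q : Subgroup G) (hQ : IsPGroup q Q) (x : G) (hx : IsPGroup p (Subgroup.zpowers x))
    (hC : ∀ y ∈ Subgroup.zpowers x, y ≠ 1 →
      Subgroup.centralizer ({y} : Set G) = Subgroup.zpowers x ⊔ Subgroup.center G)
    (g : G) (hg : g ∈ Q) (t : G) (ht : t ∈ Subgroup.zpowers x) (ht1 : t ≠ 1)
    (hfix : t * g * t⁻¹ = g) : g ∈ Subgroup.center G := by
  have h1 : g ∈ Subgroup.centralizer ({t} : Set G) := by
    rw [Subgroup.mem_centralizer_singleton_iff]
    have := congrArg (fun z => z * t) hfix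
    simp only [inv_mul_cancel_right] at this
    exact this.symm
  rw [hC t ht ht1] at h1
  have h2 : g ∈ ((Subgroup.zpowers x ⊔ Subgroup.center G : Subgroup G) : Set G) := h1
  rw [Subgroup.mul_normal] at h2
  obtain ⟨a, ha, z, hz, rfl⟩ := Set.mem_mul.mp h2
  have hz' : z ∈ Subgroup.center G := hz
  have ha' : a ∈ Subgroup.zpowers x := ha
  suffices a ∈ Subgroup.center G from mul_mem this hz'
  obtain ⟨l, hl⟩ := hQ ⟨a * z, hg⟩
  have hl' : (a * z) ^ q ^ l = 1 := by
    have := congrArg (fun w : Q => (w : G)) hl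
    simpa using this
  have hcomm : Commute a z := Subgroup.mem_center_iff.mp hz' a
  rw [hcomm.mul_pow] at hl'
  have h3 : a ^ q ^ l ∈ Subgroup.center G := by
    have : a ^ q ^ l = (z ^ q ^ l)⁻¹ := eq_inv_of_mul_eq_one_left hl'
    rw [this]
    exact inv_mem (pow_mem hz' _)
  obtain ⟨m, hm⟩ := hx ⟨a, ha'⟩
  have hm' : a ^ p ^ m = 1 := by
    have := congrArg (fun w : Subgroup.zpowers x => (w : G)) hm
    simpa using this
  have hord : orderOf a ∣ p ^ m := orderOf_dvd_of_pow_eq_one hm'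
  have hcop : (q ^ l).Coprime (orderOf a) := by
    apply Nat.Coprime.coprime_dvd_right hord
    apply Nat.Coprime.pow
    exact (Nat.coprime_primes hq.out hp.out).mpr hpq.symm
  obtain ⟨m', hm'⟩ := exists_pow_eq_self_of_coprime hcop
  rw [← hm']
  exact pow_mem h3 _

end grp

section main

variable {G : Type*} [Group G] [Finite G]
variable {K : Type*} [Field K] [IsAlgClosed K] {V : Type*} [AddCommGroup V] [Module K V]
  [FiniteDimensional K V] [Nontrivial V]

omit [Finite G] [IsAlgClosed K] [FiniteDimensional K V] [Nontrivial V] in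
theorem sum_zpowers_eq (ρ : Representation K G V) (x : G) (hx : IsOfFinOrder x)
    [Fintype (Subgroup.zpowers x)] (e' : End K V) :
    ∑ t : Subgroup.zpowers x, ρ (t : G) * e' * ρ (t : G)⁻¹ =
      ∑ j ∈ range (orderOf x), (ρ x) ^ j * e' * (ρ x⁻¹) ^ j := by
  rw [← Fin.sum_univ_eq_sum_range (fun j => (ρ x) ^ j * e' * (ρ x⁻¹) ^ j) (orderOf x)]
  rw [← Equiv.sum_comp (finEquivZPowers hx)]
  apply Finset.sum_congr rfl
  intro j _
  rw [finEquivZPowers_apply]
  simp only [map_pow, ← inv_pow]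

/-- The Hall–Higman critical case. -/
theorem critical_case (p q : ℕ) [hp : Fact p.Prime] [hq : Fact q.Prime] (hpq : p ≠ q)
    (Q : Subgroup G) [Q.Normal] (hQ : IsPGroup q Q) (x : G)
    (hx : IsPGroup p (Subgroup.zpowers x))
    (hC : ∀ y ∈ Subgroup.zpowers x, y ≠ 1 →
      Subgroup.centralizer ({y} : Set G) = Subgroup.zpowers x ⊔ Subgroup.center G)
    [CharP K p] (ρ : Representation K G V) (hfaith : Function.Injective ρ)
    (hirr : ∀ W : Submodule K V, (∀ g ∈ Q, Submodule.map (ρ g) W ≤ W) → W = ⊥ ∨ W = ⊤)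
    (s : ℕ) (hs : (ρ x - 1) ^ s = 0) (hmin : ∀ k < s, (ρ x - 1) ^ k ≠ 0) :
    Nat.card (Subgroup.zpowers x) - 1 ≤ s ∧ s ≤ Nat.card (Subgroup.zpowers x) ∧
      (s = Nat.card (Subgroup.zpowers x) - 1 →
        (∃ b : ℕ, Nat.card (Subgroup.zpowers x) - 1 = q ^ b) ∧ ¬ IsMulCommutative Q) := by
  classical
  haveI : Fintype (Subgroup.zpowers x) := Fintype.ofFinite _
  obtain ⟨n, hn⟩ := IsPGroup.iff_card.mp hx
  have hcard : Nat.card (Subgroup.zpowers x) = orderOf x := Nat.card_zpowers x
  have hord : orderOf x = p ^ n := by rw [← hcard, hn]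
  rw [hn]
  set X := ρ x with hX
  set Xi := ρ x⁻¹ with hXi
  have hXXi : X * Xi = 1 := by rw [hX, hXi, ← map_mul, mul_inv_cancel, map_one]
  have hXiX : Xi * X = 1 := by rw [hX, hXi, ← map_mul, inv_mul_cancel, map_one]
  have hone : (1 : End K V) ≠ 0 := by
    intro h
    obtain ⟨v, hv⟩ := exists_ne (0 : V)
    have := congrArg (fun f : End K V => f v) h
    simp only [LinearMap.zero_apply, Module.End.one_apply] at this
    exact hv this
  have hs1 : 1 ≤ s := by
    rcases Nat.eq_zero_or_pos s with h | h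
    · rw [h, pow_zero] at hs
      exact absurd hs hone
    · exact h
  have hXP : X ^ (p ^ n) = 1 := by
    rw [hX, ← map_pow, ← hord, pow_orderOf_eq_one, map_one]
  have hNP : (X - 1) ^ (p ^ n) = 0 := by
    have hpos : 0 < p ^ n := pow_pos hp.out.pos n
    have h1 := alg_geom_eq (K := K) p n X
    have h2 : (X - 1) ^ (p ^ n) = (X - 1) ^ (p ^ n - 1) * (X - 1) := by
      rw [← pow_succ, Nat.sub_add_cancel hpos]
    rw [h2, ← h1, geom_sum_mul, hXP, sub_self]
  have hsle : s ≤ p ^ n := by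
    by_contra hlt
    push Not at hlt
    exact hmin _ hlt hNP
  set σ : Representation K Q V := ρ.comp Q.subtype with hσ
  have hirrσ : Irr σ := by
    intro W hW
    apply hirr W
    intro g hg
    exact hW ⟨g, hg⟩
  by_cases hx1 : x = 1
  · have hn0 : p ^ n = 1 := by rw [← hord, hx1, orderOf_one]
    rw [hn0]
    refine ⟨by omega, by omega, ?_⟩
    intro h
    omega
  have hs2 : 2 ≤ s := by
    by_contra hlt
    have hs' : s = 1 := by omega
    rw [hs', pow_one] at hs
    apply hx1
    apply hfaith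
    rw [map_one]
    exact sub_eq_zero.mp hs
  -- the invertibility of |Q|
  haveI hNZ : NeZero (Nat.card Q : K) := by
    obtain ⟨a, ha⟩ := IsPGroup.iff_card.mp hQ
    constructor
    rw [ha, Nat.cast_pow]
    apply pow_ne_zero
    intro h0
    have := (CharP.cast_eq_zero_iff K p q).mp h0
    exact hpq ((Nat.prime_dvd_prime_iff_eq hp.out hq.out).mp this)
  have hfree : ∀ g ∈ Q, ∀ t ∈ Subgroup.zpowers x, t ≠ 1 → t * g * t⁻¹ = g →
      g ∈ Subgroup.center G :=
    fun g hg t ht ht1 hfix => central_of_fixed p q hpq Q hQ x hx hC g hg t ht ht1 hfix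
  have hF : ∀ e : End K V, Commute e X →
      ∃ (l : K) (e' : End K V), e = l • 1 + ∑ j ∈ range (p ^ n), X ^ j * e' * Xi ^ j := by
    intro e he
    obtain ⟨l, e', hle⟩ := commutant_decomp Q x ρ hirrσ hfree e he
    refine ⟨l, e', ?_⟩
    rw [hle, sum_zpowers_eq ρ x (isOfFinOrder_of_finite x), hord]
  have hNcomm : Commute (X - 1) X := (Commute.refl X).sub_left (Commute.one_left X)
  have hlow : p ^ n - 1 ≤ s := lower_bound p n hXXi hXiX hs hmin hs2 (hF _ hNcomm)
  refine ⟨hlow, hsle, ?_⟩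
  intro hsP
  have hpos : 0 < p ^ n := pow_pos hp.out.pos n
  have hsP' : s + 1 = p ^ n := by omega
  have hfin : finrank K V = s :=
    finrank_eq_of_exceptional p n hXXi hXiX hs hmin hs1 hsP' hF
  constructor
  · obtain ⟨b, hb⟩ := finrank_eq_prime_pow q s V Q hQ σ hirrσ hfin
    exact ⟨b, by rw [← hsP, hb]⟩
  · intro hab
    have hsc : ∀ g : Q, ∃ μ : K, σ g = μ • 1 := by
      intro g
      apply hirrσ.schur (σ g)
      intro h
      rw [Commute, SemiconjBy, ← map_mul, ← map_mul, hab.is_comm.comm g h]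
    have := finrank_eq_one_of_scalar hirrσ hsc
    omega

end main

end Cfsg.Agent.Helper31.HH
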