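import Mathlib
import Cfsg.Agent.Lib.Helper31.HHCrit

set_option autoImplicit false

/-!
# Hall–Higman critical case with the freeness hypothesis stated directly
-/

namespace Cfsg.Agent.Helper31.HH

open Module Finset

section main2

variable {G : Type*} [Group G] [Finite G]
variable {K : Type*} [Field K] [IsAlgClosed K] {V : Type*} [AddCommGroup V] [Module K V]
  [FiniteDimensional K V] [Nontrivial V]

/-- The Hall–Higman critical case. -/
theorem critical_case_of_free (p q : ℕ) [hp : Fact p.Prime] [hq : Fact q.Prime] (hpq : p ≠ q)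
    (Q : Subgroup G) [Q.Normal] (hQ : IsPGroup q Q) (x : G)
    (hx : IsPGroup p (Subgroup.zpowers x))
    (hfree : ∀ g ∈ Q, ∀ t ∈ Subgroup.zpowers x, t ≠ 1 → t * g * t⁻¹ = g →
      g ∈ Subgroup.center G)
    [CharP K p] (ρ : Representation K G V) (hfaith : Function.Injective ρ)
    (hirr : ∀ W : Submodule K V, (∀ g ∈ Q, Submodule.map (ρ g) W ≤ W) → W = ⊥ ∨ W = ⊤)
    (s : ℕ) (hs : (ρ x - 1) ^ s = 0) (hmin : ∀ k < s, (ρ x - 1) ^ k ≠ 0) :
    Nat.card (Subgroup.zpowers x) - 1 ≤ s ∧ s ≤ Nat.card (Subgroup.zpowers x) ∧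
      (s = Nat.card (Subgroup.zpowers x) - 1 →
        (∃ b : ℕ, Nat.card (Subgroup.zpowers x) - 1 = q ^ b) ∧ ¬ IsMulCommutative Q) := by
  classical
  haveI : Fintype (Subgroup.zpowers x) := Fintype.ofFinite _
  obtain ⟨n, hn⟩ := IsPGroup.iff_card.mp hx
  have hcard : Nat.card (Subgroup.zpowers x) = orderOf x := Nat.card_zpowers x
  have hord : orderOf x = p ^ n := by rw [← hcard, hn]
  rw [hn]
  set X := ρ x with hX
  set Xi := ρ x⁻¹ with hXi
  have hXXi : X * Xi = 1 := by rw [hX, hXi, ← map_mul, mul_inv_cancel, map_one]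
  have hXiX : Xi * X = 1 := by rw [hX, hXi, ← map_mul, inv_mul_cancel, map_one]
  have hone : (1 : End K V) ≠ 0 := by
    intro h
    obtain ⟨v, hv⟩ := exists_ne (0 : V)
    have := congrArg (fun f : End K V => f v) h
    simp only [LinearMap.zero_apply, Module.End.one_apply] at this
    exact hv this
  have hs1 : 1 ≤ s := by
    rcases Nat.eq_zero_or_pos s with h | h
    · rw [h, pow_zero] at hs
      exact absurd hs hone
    · exact h
  have hXP : X ^ (p ^ n) = 1 := by
    rw [hX, ← map_pow, ← hord, pow_orderOf_eq_one, map_one]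
  have hNP : (X - 1) ^ (p ^ n) = 0 := by
    have hpos : 0 < p ^ n := pow_pos hp.out.pos n
    have h1 := alg_geom_eq (K := K) p n X
    have h2 : (X - 1) ^ (p ^ n) = (X - 1) ^ (p ^ n - 1) * (X - 1) := by
      rw [← pow_succ, Nat.sub_add_cancel hpos]
    rw [h2, ← h1, geom_sum_mul, hXP, sub_self]
  have hsle : s ≤ p ^ n := by
    by_contra hlt
    push Not at hlt
    exact hmin _ hlt hNP
  set σ : Representation K Q V := ρ.comp Q.subtype with hσ
  have hirrσ : Irr σ := by
    intro W hW
    apply hirr W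
    intro g hg
    exact hW ⟨g, hg⟩
  by_cases hx1 : x = 1
  · have hn0 : p ^ n = 1 := by rw [← hord, hx1, orderOf_one]
    rw [hn0]
    refine ⟨by omega, by omega, ?_⟩
    intro h
    omega
  have hs2 : 2 ≤ s := by
    by_contra hlt
    have hs' : s = 1 := by omega
    rw [hs', pow_one] at hs
    apply hx1
    apply hfaith
    rw [map_one]
    exact sub_eq_zero.mp hs
  -- the invertibility of |Q|
  haveI hNZ : NeZero (Nat.card Q : K) := by
    obtain ⟨a, ha⟩ := IsPGroup.iff_card.mp hQ
    constructor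
    rw [ha, Nat.cast_pow]
    apply pow_ne_zero
    intro h0
    have := (CharP.cast_eq_zero_iff K p q).mp h0
    exact hpq ((Nat.prime_dvd_prime_iff_eq hp.out hq.out).mp this)
  have hF : ∀ e : End K V, Commute e X →
      ∃ (l : K) (e' : End K V), e = l • 1 + ∑ j ∈ range (p ^ n), X ^ j * e' * Xi ^ j := by
    intro e he
    obtain ⟨l, e', hle⟩ := commutant_decomp Q x ρ hirrσ hfree e he
    refine ⟨l, e', ?_⟩
    rw [hle, sum_zpowers_eq ρ x (isOfFinOrder_of_finite x), hord]
  have hNcomm : Commute (X - 1) X := (Commute.refl X).sub_left (Commute.one_left X)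
  have hlow : p ^ n - 1 ≤ s := lower_bound p n hXXi hXiX hs hmin hs2 (hF _ hNcomm)
  refine ⟨hlow, hsle, ?_⟩
  intro hsP
  have hpos : 0 < p ^ n := pow_pos hp.out.pos n
  have hsP' : s + 1 = p ^ n := by omega
  have hfin : finrank K V = s :=
    finrank_eq_of_exceptional p n hXXi hXiX hs hmin hs1 hsP' hF
  constructor
  · obtain ⟨b, hb⟩ := finrank_eq_prime_pow q s V Q hQ σ hirrσ hfin
    exact ⟨b, by rw [← hsP, hb]⟩
  · intro hab
    have hsc : ∀ g : Q, ∃ μ : K, σ g = μ • 1 := by
      intro g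
      apply hirrσ.schur (σ g)
      intro h
      rw [Commute, SemiconjBy, ← map_mul, ← map_mul, hab.is_comm.comm g h]
    have := finrank_eq_one_of_scalar hirrσ hsc
    omega

end main2

end Cfsg.Agent.Helper31.HH
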