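import Mathlib
import Cfsg.Agent.Lib.Helper24.Coprime

set_option autoImplicit false

/-!
# Group theory for the Hall–Higman reduction: the minimal situation
-/

namespace Cfsg.Agent.Helper31.HH

open Subgroup

variable {G : Type*} [Group G]

/-- In a cyclic `p`-group `⟨x⟩` of order `p ^ (n+1)`, every nontrivial element has `x ^ (p ^ n)`
among its powers. -/
theorem pow_mem_zpowers_of_ne_one {p n : ℕ} [hp : Fact p.Prime] {x : G}
    (hx : orderOf x = p ^ (n + 1)) {t : G} (ht : t ∈ zpowers x) (ht1 : t ≠ 1) :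
    x ^ p ^ n ∈ zpowers t := by
  have hfin : IsOfFinOrder x := by
    rw [← orderOf_pos_iff, hx]
    exact pow_pos hp.out.pos _
  rw [← hfin.mem_powers_iff_mem_zpowers, Submonoid.mem_powers_iff] at ht
  obtain ⟨k, rfl⟩ := ht
  have hk0 : k ≠ 0 := by
    rintro rfl
    exact ht1 (pow_zero x)
  obtain ⟨a, u, hu, hk⟩ := Nat.exists_eq_pow_mul_and_not_dvd hk0 p hp.out.ne_one
  have han : a ≤ n := by
    by_contra hlt
    push Not at hlt
    apply ht1
    rw [hk]
    have : p ^ (n + 1) ∣ p ^ a * u := Dvd.dvd.mul_right (pow_dvd_pow p hlt) u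
    rw [← hx] at this
    exact orderOf_dvd_iff_pow_eq_one.mp this
  set y := x ^ p ^ n with hy
  have hyp : y ^ p = 1 := by
    rw [hy, ← pow_mul, ← pow_succ, ← hx, pow_orderOf_eq_one]
  have h1 : (x ^ k) ^ p ^ (n - a) = y ^ u := by
    rw [hy, ← pow_mul, ← pow_mul, hk]
    congr 1
    have : p ^ n = p ^ a * p ^ (n - a) := by rw [← pow_add, Nat.add_sub_cancel' han]
    rw [this]
    ring
  have hcop : u.Coprime (orderOf y) := by
    have hdvd : orderOf y ∣ p := orderOf_dvd_of_pow_eq_one hyp
    apply Nat.Coprime.coprime_dvd_right hdvd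
    exact ((Nat.Prime.coprime_iff_not_dvd hp.out).mpr hu).symm
  obtain ⟨m, hm⟩ := exists_pow_eq_self_of_coprime hcop
  rw [← hm, ← h1, ← pow_mul]
  exact Subgroup.pow_mem _ (mem_zpowers _) _

variable [Finite G]

/-- The minimal situation: if every proper `x`-invariant subgroup of the normal `q`-subgroup `Q` is
centralised by the `p`-element `y` (commuting with `x`) but `Q` is not, then `C_Q(y) ≤ Z(Q)`. -/
theorem centralizer_le_center_of_minimal {p q : ℕ} [hp : Fact p.Prime] [hq : Fact q.Prime]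
    (hpq : p ≠ q) (Q : Subgroup G) [hQn : Q.Normal] (hQ : IsPGroup q Q) (x y : G)
    (hxy : x * y = y * x) (hy : y ^ p = 1) (hNC : ∃ g ∈ Q, g * y ≠ y * g)
    (hmin : ∀ Q₁ : Subgroup G, Q₁ ≤ Q → Q₁ ≠ Q → (∀ g ∈ Q₁, x * g * x⁻¹ ∈ Q₁) →
      ∀ g ∈ Q₁, g * y = y * g) :
    ∀ g ∈ Q, g * y = y * g → ∀ h ∈ Q, g * h = h * g := by
  set A := zpowers y with hA
  have hAcard : Nat.card A ∣ p := by
    rw [hA, Nat.card_zpowers]
    exact orderOf_dvd_of_pow_eq_one hy
  have hcop : (Nat.card A).Coprime (Nat.card Q) := by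
    obtain ⟨k, hk⟩ := IsPGroup.iff_card.mp hQ
    rw [hk]
    apply Nat.Coprime.coprime_dvd_left hAcard
    apply Nat.Coprime.pow_right
    exact (Nat.coprime_primes hp.out hq.out).mpr hpq
  have hAQ : A ≤ normalizer (Q : Set G) := by
    rw [normalizer_eq_top]
    exact le_top
  have hxA : ∀ a ∈ A, x * a * x⁻¹ = a := by
    intro a ha
    obtain ⟨k, rfl⟩ := mem_zpowers_iff.mp ha
    have : Commute x (y ^ k) := (show Commute x y from hxy).zpow_right k
    rw [this.eq, mul_inv_cancel_right]
  have hAcent : ∀ {g : G}, g * y = y * g → ∀ a ∈ A, a * g = g * a := by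
    intro g hg a ha
    obtain ⟨k, rfl⟩ := mem_zpowers_iff.mp ha
    exact ((show Commute g y from hg).zpow_right k).symm.eq
  -- (b) `⁅Q, A⁆ = Q`
  have hcomm : ⁅Q, A⁆ = Q := by
    by_contra hne
    have hle : ⁅Q, A⁆ ≤ Q := Cfsg.Agent.Helper24.commutator_le_of_le_normalizer Q A hAQ
    have hxinv : ∀ c ∈ ⁅Q, A⁆, x * c * x⁻¹ ∈ ⁅Q, A⁆ := by
      have hmap : (⁅Q, A⁆).map (MulAut.conj x).toMonoidHom = ⁅Q, A⁆ := by
        rw [map_commutator]
        congr 1
        · ext a
          constructor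
          · rintro ⟨b, hb, rfl⟩
            simp only [MulEquiv.coe_toMonoidHom, MulAut.conj_apply]
            exact hQn.conj_mem b hb x
          · intro ha
            refine ⟨x⁻¹ * a * x, ?_, ?_⟩
            · have := hQn.conj_mem a ha x⁻¹
              rwa [inv_inv] at this
            · simp only [MulEquiv.coe_toMonoidHom, MulAut.conj_apply]
              group
        · ext a
          constructor
          · rintro ⟨b, hb, rfl⟩
            simp only [MulEquiv.coe_toMonoidHom, MulAut.conj_apply]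
            rw [hxA b hb]
            exact hb
          · intro ha
            exact ⟨a, ha, by simp only [MulEquiv.coe_toMonoidHom, MulAut.conj_apply]; exact hxA a ha⟩
      intro c hc
      rw [← hmap]
      exact ⟨c, hc, by simp⟩
    have hcen := hmin _ hle hne hxinv
    have h2 : ⁅⁅Q, A⁆, A⁆ = ⊥ := by
      rw [commutator_eq_bot_iff_le_centralizer]
      intro c hc
      rw [mem_centralizer_iff]
      intro a ha
      exact hAcent (hcen c hc) a ha
    have h3 := Cfsg.Agent.Helper24.le_centralizer_of_coprime Q A hAQ hcop h2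
    obtain ⟨g, hg, hgy⟩ := hNC
    apply hgy
    have := mem_centralizer_iff.mp (h3 (mem_zpowers y)) g hg
    exact this
  -- (c) `D = C_Q(y)` is normalised by `Q`
  set D : Subgroup G := Q ⊓ centralizer ({y} : Set G) with hD
  have hDmem : ∀ g, g ∈ D ↔ g ∈ Q ∧ g * y = y * g := by
    intro g
    rw [hD, mem_inf, mem_centralizer_singleton_iff]
  have hDQ : D ≤ Q := inf_le_left
  have hDne : D ≠ Q := by
    intro h
    obtain ⟨g, hg, hgy⟩ := hNC
    have : g ∈ D := by rw [h]; exact hg
    exact hgy ((hDmem g).mp this).2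
  have hconjD : ∀ z : G, z * y = y * z → ∀ g ∈ D, z * g * z⁻¹ ∈ D := by
    intro z hz g hg
    rw [hDmem] at hg ⊢
    refine ⟨hQn.conj_mem g hg.1 z, ?_⟩
    have hz' : z⁻¹ * y = y * z⁻¹ := ((show Commute z y from hz).inv_left).eq
    calc z * g * z⁻¹ * y = z * g * (z⁻¹ * y) := by group
      _ = z * (g * y) * z⁻¹ := by rw [hz']; group
      _ = z * (y * g) * z⁻¹ := by rw [hg.2]
      _ = (z * y) * g * z⁻¹ := by group
      _ = y * (z * g * z⁻¹) := by rw [hz]; group
  have hxD : ∀ g ∈ D, x * g * x⁻¹ ∈ D := hconjD x hxy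
  have hxD' : ∀ g ∈ D, x⁻¹ * g * x ∈ D := by
    intro g hg
    have := hconjD x⁻¹ ((show Commute x y from hxy).inv_left).eq g hg
    rwa [inv_inv] at this
  have hQND : Q ≤ normalizer (D : Set G) := by
    by_contra hnot
    set N : Subgroup G := Q ⊓ normalizer (D : Set G) with hN
    have hNQ : N ≤ Q := inf_le_left
    have hNne : N ≠ Q := by
      intro h
      apply hnot
      rw [← h]
      exact inf_le_right
    have hxN : ∀ g ∈ N, x * g * x⁻¹ ∈ N := by
      intro g hg
      rw [hN, mem_inf] at hg ⊢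
      refine ⟨hQn.conj_mem g hg.1 x, ?_⟩
      rw [mem_normalizer_iff]
      intro d
      have hgN := mem_normalizer_iff.mp hg.2
      constructor
      · intro hd
        have h1 : x⁻¹ * d * x ∈ D := by
          have := hxD' d hd
          exact this
        have h2 := (hgN _).mp h1
        have h3 := hxD _ h2
        convert h3 using 1
        group
      · intro hd
        have h1 : x⁻¹ * (x * g * x⁻¹ * d * (x * g * x⁻¹)⁻¹) * x ∈ D := hxD' _ hd
        have h2 : g * (x⁻¹ * d * x) * g⁻¹ ∈ D := by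
          convert h1 using 1
          group
        have h3 := (hgN _).mpr h2
        have h4 := hxD _ h3
        convert h4 using 1
        group
    have hcen := hmin N hNQ hNne hxN
    have hND : N ≤ D := fun g hg => (hDmem g).mpr ⟨hNQ hg, hcen g hg⟩
    -- normaliser condition in `Q`
    haveI : Group.IsNilpotent Q := hQ.isNilpotent
    have hnc : NormalizerCondition Q := normalizerCondition_of_isNilpotent
    have hlt : D.subgroupOf Q < ⊤ := by
      rw [lt_top_iff_ne_top, Ne, subgroupOf_eq_top]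
      intro h
      exact hDne (le_antisymm hDQ h)
    have h1 := hnc _ hlt
    rw [← subgroupOf_normalizer_eq hDQ] at h1
    obtain ⟨g', hg', hg'D⟩ := SetLike.exists_of_lt h1
    apply hg'D
    rw [mem_subgroupOf] at hg' ⊢
    exact hND ⟨g'.2, hg'⟩
  -- (d) three subgroups
  have hAD : ⁅A, D⁆ = ⊥ := by
    rw [commutator_eq_bot_iff_le_centralizer]
    intro a ha
    rw [mem_centralizer_iff]
    intro d hd
    exact (hAcent ((hDmem d).mp hd).2 a ha).symm
  have h1 : ⁅⁅A, D⁆, Q⁆ = ⊥ := by rw [hAD, commutator_bot_left]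
  have h2 : ⁅⁅D, Q⁆, A⁆ = ⊥ := by
    have hle : ⁅D, Q⁆ ≤ D := Cfsg.Agent.Helper24.commutator_le_of_le_normalizer D Q hQND
    have : ⁅⁅D, Q⁆, A⁆ ≤ ⁅D, A⁆ := commutator_mono hle le_rfl
    rw [commutator_comm D A, hAD, le_bot_iff] at this
    exact this
  have h3 := commutator_commutator_eq_bot_of_rotate h1 h2
  rw [hcomm, commutator_eq_bot_iff_le_centralizer] at h3
  intro g hg hgy h hh
  have hgD : g ∈ D := (hDmem g).mpr ⟨hg, hgy⟩
  have := mem_centralizer_iff.mp (h3 hh) g hgD
  exact this

end Cfsg.Agent.Helper31.HH
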