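import Mathlib
import Cfsg.Agent.Lib.Helper31.HHCore1
import Cfsg.Agent.Lib.Helper31.HHCrit2
import Cfsg.Agent.Lib.Helper31.HHGrp

set_option autoImplicit false

/-!
# Hall–Higman Theorem B: the core induction, part 2 (the primitive case)
-/

namespace Cfsg.Agent.Helper31.HH

open Module Subgroup

/-- The case where the normal `q`-subgroup acts irreducibly. -/
theorem step_irr {K : Type*} [Field K] [IsAlgClosed K] (p q : ℕ) [hp : Fact p.Prime]
    [hq : Fact q.Prime] (hpq : p ≠ q) [CharP K p]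
    {V : Type*} [AddCommGroup V] [Module K V] [FiniteDimensional K V] [Nontrivial V]
    {G : Type*} [Group G] [Finite G] (ρ : Representation K G V) (hfaith : Function.Injective ρ)
    (Q : Subgroup G) [Q.Normal] (hQ : IsPGroup q Q) (x : G) (n r : ℕ)
    (hx : orderOf x = p ^ (n + 1))
    (hNC : ∃ g ∈ Q, g * x ^ p ^ n ≠ x ^ p ^ n * g)
    (hminQ : ∀ Q₁ : Subgroup G, Q₁ ≤ Q → Q₁ ≠ Q → (∀ g ∈ Q₁, x * g * x⁻¹ ∈ Q₁) →
      ∀ g ∈ Q₁, g * x ^ p ^ n = x ^ p ^ n * g)
    (hirr : ∀ W : Submodule K V, (∀ g ∈ Q, Submodule.map (ρ g) W ≤ W) → W = ⊥ ∨ W = ⊤)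
    (hr : (ρ x - 1) ^ r = 0) (hmin : ∀ k < r, (ρ x - 1) ^ k ≠ 0) : Concl p q (n + 1) r Q := by
  set y := x ^ p ^ n with hy
  have hxy : x * y = y * x := by rw [hy, ← pow_succ', ← pow_succ]
  have hyp : y ^ p = 1 := by rw [hy, ← pow_mul, ← pow_succ, ← hx, pow_orderOf_eq_one]
  have hC := centralizer_le_center_of_minimal hpq Q hQ x y hxy hyp hNC hminQ
  set σ : Representation K Q V := ρ.comp Q.subtype with hσ
  have hirrσ : Irr σ := by
    intro W hW
    apply hirr W
    intro g hg
    exact hW ⟨g, hg⟩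
  have hfree : ∀ g ∈ Q, ∀ t ∈ zpowers x, t ≠ 1 → t * g * t⁻¹ = g → g ∈ center G := by
    intro g hg t ht ht1 hfix
    have hyt : y ∈ zpowers t := pow_mem_zpowers_of_ne_one hx ht ht1
    have htg : Commute t g := by
      have := congrArg (fun z => z * t) hfix
      simp only [inv_mul_cancel_right] at this
      exact this
    have hgy : g * y = y * g := by
      obtain ⟨k, hk⟩ := mem_zpowers_iff.mp hyt
      rw [← hk]
      exact ((htg.zpow_left k).eq).symm
    have hgQ := hC g hg hgy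
    have hcomm : ∀ h : Q, Commute (ρ g) (σ h) := by
      intro h
      show ρ g * ρ (h : G) = ρ (h : G) * ρ g
      rw [← map_mul, ← map_mul, hgQ h h.2]
    obtain ⟨μ, hμ⟩ := hirrσ.schur (ρ g) hcomm
    rw [mem_center_iff]
    intro z
    apply hfaith
    rw [map_mul, map_mul, hμ]
    simp
  have hxp : IsPGroup p (zpowers x) := by
    apply IsPGroup.of_card (n := n + 1)
    rw [Nat.card_zpowers, hx]
  have hcard : Nat.card (zpowers x) = p ^ (n + 1) := by rw [Nat.card_zpowers, hx]
  obtain ⟨h1, h2, h3⟩ := critical_case_of_free p q hpq Q hQ x hxp hfree ρ hfaith hirr r hr hmin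
  rw [hcard] at h1 h2 h3
  by_cases hrP : r = p ^ (n + 1)
  · exact Or.inl hrP
  right
  have hrP' : r = p ^ (n + 1) - 1 := by omega
  obtain ⟨⟨b, hb⟩, hnab⟩ := h3 hrP'
  constructor
  · by_contra hcon
    push Not at hcon
    apply hnab
    exact ⟨⟨fun a b => Subtype.ext (hcon a a.2 b b.2)⟩⟩
  · refine ⟨n + 1, b, by omega, le_rfl, ?_, hb, ?_⟩
    · by_contra hb0
      have hb0' : b = 0 := by omega
      rw [hb0', pow_zero] at hb
      have hr1 : r = 1 := by omega
      rw [hr1, pow_one] at hr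
      have hx1 : x = 1 := by
        apply hfaith
        rw [map_one]
        exact sub_eq_zero.mp hr
      rw [hx1, orderOf_one] at hx
      have : 2 ≤ p ^ (n + 1) := by
        calc 2 ≤ p := hp.out.two_le
          _ = p ^ 1 := (pow_one p).symm
          _ ≤ p ^ (n + 1) := Nat.pow_le_pow_right hp.out.pos (by omega)
      omega
    · rw [Nat.sub_self, pow_zero, one_mul]
      omega

end Cfsg.Agent.Helper31.HH
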