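import Mathlib
import Cfsg.Agent.Lib.Helper31.HHCore1

set_option autoImplicit false

/-!
# Hall–Higman Theorem B: the core induction, part 3 (the induced case)
-/

namespace Cfsg.Agent.Helper31.HH

open Module Subgroup Finset

theorem Concl.lift {p q n' r₁ r : ℕ} (hp : 0 < p) {G : Type*} [Group G] {Q : Subgroup G}
    {S : Subgroup G} (h : Concl p q (n' + 1) r₁ (Q.subgroupOf S)) (h1 : p * r₁ ≤ r)
    (h2 : r ≤ p ^ (n' + 2)) : Concl p q (n' + 2) r Q := by
  rcases h with h | ⟨⟨a, ha, b, hb, hab⟩, n₀, m, e1, e2, e3, e4, e5⟩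
  · left
    rw [h, ← pow_succ'] at h1
    have : n' + 1 + 1 = n' + 2 := rfl
    rw [this] at h1
    omega
  · right
    refine ⟨⟨a, mem_subgroupOf.mp ha, b, mem_subgroupOf.mp hb, ?_⟩, n₀, m, e1, by omega, e3, e4, ?_⟩
    · intro hcon
      apply hab
      apply Subtype.ext
      simpa using hcon
    · have e6 : n' + 2 - n₀ = (n' + 1 - n₀) + 1 := by omega
      rw [e6, pow_succ', mul_assoc]
      exact (Nat.mul_le_mul_left p e5).trans h1

theorem conj_inv_mem {G : Type*} [Group G] (Q : Subgroup G) (x : G)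
    (hQx : ∀ g ∈ Q, x * g * x⁻¹ ∈ Q) {P : ℕ} (hP : 0 < P) (hxP : x ^ P = 1) :
    ∀ g ∈ Q, x⁻¹ * g * x⁻¹⁻¹ ∈ Q := by
  have hinv : x⁻¹ = x ^ (P - 1) := by
    rw [inv_eq_iff_mul_eq_one, ← pow_succ', Nat.sub_add_cancel hP, hxP]
  intro g hg
  rw [hinv]
  exact pow_conj_mem Q x hQx _ g hg

variable {K : Type*} [Field K] {V : Type*} [AddCommGroup V] [Module K V]

theorem commute_of_commute_on_induced {G : Type*} [Group G] (ρ : Representation K G V)
    (Q : Subgroup G) (x y : G) (p : ℕ) (hxy : Commute x y)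
    (hQxi : ∀ j : ℕ, ∀ g ∈ Q, (x ^ j)⁻¹ * g * x ^ j ∈ Q)
    (V' : Submodule K V) (hsum : ⨆ j ∈ range p, V'.map ((ρ x) ^ j) = ⊤)
    (hcomm : ∀ g ∈ Q, ∀ v ∈ V', ρ g (ρ y v) = ρ y (ρ g v)) :
    ∀ g ∈ Q, ρ g * ρ y = ρ y * ρ g := by
  intro g hg
  have hle : (⊤ : Submodule K V) ≤ LinearMap.eqLocus (ρ g * ρ y) (ρ y * ρ g) := by
    rw [← hsum]
    apply iSup₂_le
    intro j _
    rintro _ ⟨v, hv, rfl⟩
    rw [LinearMap.mem_eqLocus, Module.End.mul_apply, Module.End.mul_apply, ← map_pow]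
    obtain ⟨g', hg'⟩ : ∃ g', g' = (x ^ j)⁻¹ * g * x ^ j := ⟨_, rfl⟩
    have hg'Q : g' ∈ Q := hg' ▸ hQxi j g hg
    have hc : x ^ j * y = y * x ^ j := (hxy.pow_left j).eq
    have e1 : g * y * x ^ j = x ^ j * g' * y := by
      calc g * y * x ^ j = g * (y * x ^ j) := mul_assoc _ _ _
        _ = g * (x ^ j * y) := by rw [hc]
        _ = x ^ j * g' * y := by rw [hg']; group
    have e2 : x ^ j * y * g' = y * g * x ^ j := by
      rw [hc, hg']
      group
    calc ρ g (ρ y (ρ (x ^ j) v)) = ρ (g * y * x ^ j) v := by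
          rw [map_mul, map_mul, Module.End.mul_apply, Module.End.mul_apply]
      _ = ρ (x ^ j) (ρ g' (ρ y v)) := by
          rw [e1, map_mul, map_mul, Module.End.mul_apply, Module.End.mul_apply]
      _ = ρ (x ^ j) (ρ y (ρ g' v)) := by rw [hcomm g' hg'Q v hv]
      _ = ρ (x ^ j * y * g') v := by
          rw [map_mul, map_mul, Module.End.mul_apply, Module.End.mul_apply]
      _ = ρ y (ρ g (ρ (x ^ j) v)) := by
          rw [e2, map_mul, map_mul, Module.End.mul_apply, Module.End.mul_apply]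
  apply LinearMap.ext
  intro v
  exact LinearMap.mem_eqLocus.mp (hle (Submodule.mem_top (x := v)))

section step

universe uG uK uV

/-- The induced (imprimitive) case. -/
theorem step_induced {K : Type uK} [Field K] (p q : ℕ) [hp : Fact p.Prime] [hq : Fact q.Prime]
    [CharP K p] (N : ℕ) (ih : ∀ m < N, CoreStmt.{uG, uK, uV} K p q m)
    {V : Type uV} [AddCommGroup V] [Module K V] [FiniteDimensional K V]
    {G : Type uG} [Group G] [Finite G] (ρ : Representation K G V) (Q : Subgroup G) (x : G)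
    (n r : ℕ) (hN : finrank K V + Nat.card Q ≤ N) (hQ : IsPGroup q Q)
    (hQx : ∀ g ∈ Q, x * g * x⁻¹ ∈ Q) (hx : x ^ p ^ (n + 1) = 1)
    (hNC : ∃ g ∈ Q, ρ g * ρ (x ^ p ^ n) ≠ ρ (x ^ p ^ n) * ρ g)
    (hr : (ρ x - 1) ^ r = 0) (hmin : ∀ k < r, (ρ x - 1) ^ k ≠ 0)
    (V' : Submodule K V) (hV0 : V' ≠ ⊥) (hV'Q : ∀ g ∈ Q, ∀ v ∈ V', ρ g v ∈ V')
    (hXp : ∀ v ∈ V', ((ρ x) ^ p) v ∈ V')
    (hind : ∀ i ∈ range p,
      Disjoint (V'.map ((ρ x) ^ i)) (⨆ j ∈ (range p).erase i, V'.map ((ρ x) ^ j)))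
    (hsum : ⨆ j ∈ range p, V'.map ((ρ x) ^ j) = ⊤) : Concl p q (n + 1) r Q := by
  have hrle : r ≤ p ^ (n + 1) := r_le_of_pow_eq_one p ρ x (n + 1) hx r hmin
  have hppos : 0 < p := hp.out.pos
  obtain ⟨v0, hv0, hv0ne⟩ := (Submodule.ne_bot_iff V').mp hV0
  cases n with
  | zero =>
    left
    have := induced_lower p (ρ x) V' hXp hind 0 v0 hv0 (by simpa using hv0ne) r hr
    simp only [zero_add, pow_one] at hrle ⊢
    omega
  | succ n' =>
    set S := stab ρ V' with hS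
    have hQS : Q ≤ S := fun g hg => (mem_stab ρ V').mpr (hV'Q g hg)
    have hxS : x ^ p ∈ S := by
      rw [hS, mem_stab, map_pow]
      exact hXp
    set φ : Representation K S V := ρ.comp S.subtype with hφ
    have hInv : Inv φ V' := inv_comp_stab ρ V'
    set ρ₁ : Representation K S V' := subRep φ V' hInv with hρ₁
    set Q₁ : Subgroup S := Q.subgroupOf S with hQ₁
    set x₁ : S := ⟨x ^ p, hxS⟩ with hx₁
    have hρ₁app : ∀ (a : S) (u : V'), ((ρ₁ a u : V') : V) = ρ (a : G) (u : V) := fun a u => rfl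
    -- (a) the measure
    have hXi : ρ x⁻¹ * ρ x = 1 := by rw [← map_mul, inv_mul_cancel, map_one]
    have hdim : 2 * finrank K V' ≤ finrank K V := two_mul_finrank_le hp.out.two_le hXi hind
    have hdim0 : 0 < finrank K V' := by
      rw [Module.finrank_pos_iff]
      exact (Submodule.nontrivial_iff_ne_bot).mpr hV0
    have hcardQ₁ : Nat.card Q₁ = Nat.card Q := Nat.card_congr (subgroupOfEquivOfLe hQS).toEquiv
    -- (b)
    have hQ₁p : IsPGroup q Q₁ := hQ.comap_subtype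
    -- (c)
    have hc : ∀ g ∈ Q₁, x₁ * g * x₁⁻¹ ∈ Q₁ := by
      intro g hg
      rw [hQ₁, mem_subgroupOf] at hg ⊢
      have := pow_conj_mem Q x hQx p _ hg
      simpa [hx₁] using this
    -- (d)
    have hd : x₁ ^ p ^ (n' + 1) = 1 := by
      apply Subtype.ext
      rw [Subgroup.coe_pow, Subgroup.coe_one, hx₁]
      show (x ^ p) ^ p ^ (n' + 1) = 1
      rw [← pow_mul, ← pow_succ', hx]
    have hy₁ : ((x₁ ^ p ^ n' : S) : G) = x ^ p ^ (n' + 1) := by
      rw [Subgroup.coe_pow, hx₁]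
      show (x ^ p) ^ p ^ n' = x ^ p ^ (n' + 1)
      rw [← pow_mul, ← pow_succ']
    -- (e)
    have he : ∃ g ∈ Q₁, ρ₁ g * ρ₁ (x₁ ^ p ^ n') ≠ ρ₁ (x₁ ^ p ^ n') * ρ₁ g := by
      by_contra hcon
      push Not at hcon
      obtain ⟨g, hg, hgne⟩ := hNC
      apply hgne
      have hxy : Commute x (x ^ p ^ (n' + 1)) := (Commute.refl x).pow_right _
      have hQxi : ∀ j : ℕ, ∀ g ∈ Q, (x ^ j)⁻¹ * g * x ^ j ∈ Q := by
        intro j g hg
        have h1 := conj_inv_mem Q x hQx (pow_pos hppos (n' + 1 + 1)) hx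
        have h2 := pow_conj_mem Q x⁻¹ h1 j g hg
        simpa using h2
      apply commute_of_commute_on_induced ρ Q x (x ^ p ^ (n' + 1)) p hxy hQxi V' hsum _ g hg
      intro g hg v hv
      have h1 := hcon ⟨g, hQS hg⟩ (by rw [hQ₁, mem_subgroupOf]; exact hg)
      have h2 := congrArg (fun f : End K V' => ((f ⟨v, hv⟩ : V') : V)) h1
      simp only [Module.End.mul_apply, hρ₁app, hy₁] at h2
      exact h2
    -- (f)
    have hf : (ρ₁ x₁ - 1) ^ p ^ (n' + 1) = 0 := by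
      apply sub_one_pow_pow_eq_zero
      rw [← map_pow, hd, map_one]
    obtain ⟨r₁, hr₁, hmin₁⟩ := exists_nilp_index _ hf
    -- (g)
    have hIH := ih (finrank K V' + Nat.card Q₁) (by omega) V' S ρ₁ Q₁ x₁ n' r₁ le_rfl hQ₁p hc hd he
      hr₁ hmin₁
    -- (h)
    have hr₁0 : r₁ ≠ 0 := by
      intro h0
      rw [h0, pow_zero] at hr₁
      have := congrArg (fun f : End K V' => ((f ⟨v0, hv0⟩ : V') : V)) hr₁
      simp at this
      exact hv0ne this
    obtain ⟨s, hs⟩ := Nat.exists_eq_succ_of_ne_zero hr₁0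
    have hne := hmin₁ s (by omega)
    have hex : ∃ u : V', ((ρ₁ x₁ - 1) ^ s) u ≠ 0 := by
      by_contra hcon
      push Not at hcon
      apply hne
      apply LinearMap.ext
      intro u
      rw [hcon u, LinearMap.zero_apply]
    obtain ⟨u, hu⟩ := hex
    have hXp' : ∀ u ∈ V', (ρ (x ^ p)) u ∈ V' := by
      intro u hu
      rw [map_pow]
      exact hXp u hu
    have hcoe := restrict_sub_one_pow V' (ρ (x ^ p)) hXp' s u
    have hne' : (((ρ x) ^ p - 1) ^ s) (u : V) ≠ 0 := by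
      rw [← map_pow, ← hcoe]
      intro h0
      apply hu
      apply Subtype.ext
      exact h0
    have hlow := induced_lower p (ρ x) V' hXp hind s u u.2 hne' r hr
    have hpr : p * r₁ ≤ r := by
      rw [hs, Nat.succ_eq_add_one, mul_add, mul_one]
      exact hlow
    exact hIH.lift hppos hpr hrle

end step

end Cfsg.Agent.Helper31.HH
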