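import Mathlib
import Cfsg.Agent.Lib.Helper31.HHCore1
import Cfsg.Agent.Lib.Helper31.HHCore2
import Cfsg.Agent.Lib.Helper31.HHCore3
import Cfsg.Agent.Lib.Helper31.HHCliff

set_option autoImplicit false

/-!
# Hall–Higman Theorem B: the core induction, part 4 (assembly)
-/

namespace Cfsg.Agent.Helper31.HH

open Module Subgroup Finset

section step

universe uG uK uV

theorem inv_of_gen {K : Type*} [Field K] {V : Type*} [AddCommGroup V] [Module K V]
    {G : Type*} [Group G] [Finite G] (ρ : Representation K G V) (Q : Subgroup G) (x : G)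
    (hgen : Q ⊔ zpowers x = ⊤) (U : Submodule K V) (hQ : ∀ g ∈ Q, ∀ u ∈ U, ρ g u ∈ U)
    (hx : ∀ u ∈ U, ρ x u ∈ U) : Inv ρ U := by
  have h1 : Q ≤ stab ρ U := fun g hg => (mem_stab ρ U).mpr (hQ g hg)
  have h2 : zpowers x ≤ stab ρ U := by
    rw [zpowers_le]
    exact (mem_stab ρ U).mpr hx
  have h3 : (⊤ : Subgroup G) ≤ stab ρ U := hgen ▸ sup_le h1 h2
  intro g u hu
  exact (mem_stab ρ U).mp (h3 (mem_top g)) u hu

/-- The faithful step of the core induction. -/
theorem core_faithful_step {K : Type uK} [Field K] [IsAlgClosed K] (p q : ℕ) [hp : Fact p.Prime]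
    [hq : Fact q.Prime] (hpq : p ≠ q) [CharP K p]
    (N : ℕ) (ih : ∀ m < N, CoreStmt.{uG, uK, uV} K p q m)
    {V : Type uV} [AddCommGroup V] [Module K V] [FiniteDimensional K V]
    {G : Type uG} [Group G] [Finite G] (ρ : Representation K G V) (hfaith : Function.Injective ρ)
    (Q : Subgroup G) (x : G) (n r : ℕ) (hN : finrank K V + Nat.card Q ≤ N) (hQ : IsPGroup q Q)
    (hQx : ∀ g ∈ Q, x * g * x⁻¹ ∈ Q) (hgen : Q ⊔ zpowers x = ⊤) (hx : orderOf x = p ^ (n + 1))
    (hNC : ∃ g ∈ Q, g * x ^ p ^ n ≠ x ^ p ^ n * g)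
    (hr : (ρ x - 1) ^ r = 0) (hmin : ∀ k < r, (ρ x - 1) ^ k ≠ 0) : Concl p q (n + 1) r Q := by
  have hxP : x ^ p ^ (n + 1) = 1 := by rw [← hx, pow_orderOf_eq_one]
  have hNCρ : ∀ (Q₁ : Subgroup G), (∃ g ∈ Q₁, g * x ^ p ^ n ≠ x ^ p ^ n * g) →
      ∃ g ∈ Q₁, ρ g * ρ (x ^ p ^ n) ≠ ρ (x ^ p ^ n) * ρ g := by
    rintro Q₁ ⟨g, hg, hgne⟩
    refine ⟨g, hg, fun h => hgne (hfaith ?_)⟩
    rw [map_mul, map_mul]
    exact h
  haveI hQn : Q.Normal := by
    rw [← normalizer_eq_top_iff, eq_top_iff, ← hgen]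
    exact sup_le le_normalizer
      (zpowers_le_normalizer_of_conj_mem Q x (pow_pos hp.out.pos (n + 1)) hxP hQx)
  haveI hnt : Nontrivial V := by
    by_contra hcon
    rw [not_nontrivial_iff_subsingleton] at hcon
    obtain ⟨g, hg, hgne⟩ := hNCρ Q hNC
    apply hgne
    apply LinearMap.ext
    intro v
    exact Subsingleton.elim _ _
  -- (S1)
  by_cases hS1 : ∃ Q₁ : Subgroup G, Q₁ ≤ Q ∧ Q₁ ≠ Q ∧ (∀ g ∈ Q₁, x * g * x⁻¹ ∈ Q₁) ∧
      ∃ g ∈ Q₁, g * x ^ p ^ n ≠ x ^ p ^ n * g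
  · obtain ⟨Q₁, hle, hne, hinv, hNC₁⟩ := hS1
    have hcard : Nat.card Q₁ < Nat.card Q := by
      by_contra hcon
      push Not at hcon
      exact hne (Subgroup.eq_of_le_of_card_ge hle hcon)
    have := ih (finrank K V + Nat.card Q₁) (by omega) V G ρ Q₁ x n r le_rfl (hQ.to_le hle) hinv hxP
      (hNCρ Q₁ hNC₁) hr hmin
    exact this.mono hle
  -- (S2)
  by_cases hS2 : ∃ U : Submodule K V, Inv ρ U ∧ U ≠ ⊥ ∧ U ≠ ⊤
  · obtain ⟨U, hU, hU0, hU1⟩ := hS2
    exact step_subquot p q hpq N ih ρ Q x n r hN hQ hQx hxP (hNCρ Q hNC) hr hmin U hU hU0 hU1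
  -- (S3)
  have hminQ : ∀ Q₁ : Subgroup G, Q₁ ≤ Q → Q₁ ≠ Q → (∀ g ∈ Q₁, x * g * x⁻¹ ∈ Q₁) →
      ∀ g ∈ Q₁, g * x ^ p ^ n = x ^ p ^ n * g := by
    intro Q₁ h1 h2 h3 g hg
    by_contra hcon
    exact hS1 ⟨Q₁, h1, h2, h3, g, hg, hcon⟩
  have hirrG : ∀ U : Submodule K V, Inv ρ U → U = ⊥ ∨ U = ⊤ := by
    intro U hU
    by_contra hcon
    push Not at hcon
    exact hS2 ⟨U, hU, hcon.1, hcon.2⟩
  set τ : Representation K Q V := ρ.comp Q.subtype with hτ
  set A : End K V := ρ x with hA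
  set Ai : End K V := ρ x⁻¹ with hAi
  set α : Equiv.Perm Q := (MulAut.conjNormal x : MulAut Q).toEquiv with hα
  have hTw : Twist τ A Ai α := by
    refine ⟨?_, ?_, ?_⟩
    · rw [hA, hAi, ← map_mul, mul_inv_cancel, map_one]
    · rw [hA, hAi, ← map_mul, inv_mul_cancel, map_one]
    · intro g
      show ρ x * ρ (g : G) = ρ ((α g : Q) : G) * ρ x
      rw [← map_mul, ← map_mul]
      congr 1
      have : ((α g : Q) : G) = x * g * x⁻¹ := MulAut.conjNormal_apply x g
      rw [this]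
      group
  have hAP : A ^ (p ^ (n + 1)) = 1 := by rw [hA, ← map_pow, hxP, map_one]
  have hirr' : ∀ U : Submodule K V, Inv τ U → (∀ u ∈ U, A u ∈ U) → U = ⊥ ∨ U = ⊤ := by
    intro U hU hAU
    apply hirrG
    exact inv_of_gen ρ Q x hgen U (fun g hg u hu => hU ⟨g, hg⟩ u hu) hAU
  rcases clifford_dichotomy hTw p n hp.out hAP hirr' with hcA | ⟨V', hV0, hV'inv, hXp, hind⟩
  · -- primitive case
    apply step_irr p q hpq ρ hfaith Q hQ x n r hx hNC hminQ _ hr hmin
    intro W hW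
    apply hcA
    intro g s hs
    exact hW g.1 g.2 ⟨s, hs, rfl⟩
  · -- induced case
    apply step_induced p q N ih ρ Q x n r hN hQ hQx hxP (hNCρ Q hNC) hr hmin V' hV0
      (fun g hg v hv => hV'inv ⟨g, hg⟩ v hv) hXp hind
    set U : Submodule K V := ⨆ j ∈ range p, V'.map (A ^ j) with hU
    have hUτ : Inv τ U := by
      apply Inv.iSup
      intro j
      apply Inv.iSup
      intro _
      exact (hTw.pow j).inv_map hV'inv
    have hV'U : V' ≤ U := by
      have h0 : V'.map (A ^ 0) ≤ U :=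
        le_iSup₂ (f := fun j (_ : j ∈ range p) => V'.map (A ^ j)) 0
          (Finset.mem_range.mpr hp.out.pos)
      rw [pow_zero] at h0
      have h11 : V'.map (1 : End K V) = V' := Submodule.map_id V'
      rwa [h11] at h0
    have hUA : ∀ u ∈ U, A u ∈ U := by
      have hmap : U.map A ≤ U := by
        rw [hU]
        simp only [Submodule.map_iSup]
        apply iSup₂_le
        intro j hj
        have e1 : (V'.map (A ^ j)).map A = V'.map (A ^ (j + 1)) := by
          rw [pow_succ', ← Submodule.map_comp]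
          rfl
        rw [e1]
        by_cases hjp : j + 1 < p
        · exact le_iSup₂ (f := fun j (_ : j ∈ range p) => V'.map (A ^ j)) (j + 1)
            (Finset.mem_range.mpr hjp)
        · have hjp' : j + 1 = p := by
            have := Finset.mem_range.mp hj
            omega
          rw [hjp']
          refine le_trans ?_ hV'U
          rintro _ ⟨v, hv, rfl⟩
          exact hXp v hv
      intro u hu
      exact hmap ⟨u, hu, rfl⟩
    have hUρ : Inv ρ U := inv_of_gen ρ Q x hgen U (fun g hg u hu => hUτ ⟨g, hg⟩ u hu) hUA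
    rcases hirrG U hUρ with h0 | h1
    · exfalso
      apply hV0
      rw [eq_bot_iff, ← h0]
      exact hV'U
    · exact h1

end step

end Cfsg.Agent.Helper31.HH
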