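import Mathlib
import Cfsg.Agent.Lib.Helper31.HHCore4

set_option autoImplicit false

/-!
# Hall–Higman Theorem B: the core induction, part 5 (reduction to the faithful case)
-/

namespace Cfsg.Agent.Helper31.HH

open Module Subgroup Finset

section step

universe uG uK uV

theorem gen_subgroupOf {G : Type*} [Group G] (Q : Subgroup G) (x : G)
    (hxΓ : x ∈ Q ⊔ zpowers x) :
    Q.subgroupOf (Q ⊔ zpowers x) ⊔ zpowers (⟨x, hxΓ⟩ : ↥(Q ⊔ zpowers x)) = ⊤ := by
  apply Subgroup.map_injective (Q ⊔ zpowers x).subtype_injective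
  rw [Subgroup.map_sup, Subgroup.map_subgroupOf_eq_of_le le_sup_left, MonoidHom.map_zpowers,
    ← MonoidHom.range_eq_map, Subgroup.range_subtype]
  rfl

/-- The core statement for all bounds. -/
theorem core_all {K : Type uK} [Field K] [IsAlgClosed K] (p q : ℕ) [hp : Fact p.Prime]
    [hq : Fact q.Prime] (hpq : p ≠ q) [CharP K p] : ∀ N, CoreStmt.{uG, uK, uV} K p q N := by
  intro N
  induction N using Nat.strong_induction_on with
  | _ N ih =>
    intro V _ _ _ G _ _ ρ Q x n r hN hQ hQx hx hNC hr hmin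
    set Γ : Subgroup G := Q ⊔ zpowers x with hΓ
    have hQΓ : Q ≤ Γ := le_sup_left
    have hxΓ : x ∈ Γ := (le_sup_right : zpowers x ≤ Γ) (mem_zpowers x)
    set φ : Γ →* End K V := ρ.comp Γ.subtype with hφ
    set Q' : Subgroup Γ := Q.subgroupOf Γ with hQ'
    set x' : Γ := ⟨x, hxΓ⟩ with hx'
    have hQ'p : IsPGroup q Q' := hQ.comap_subtype
    have hgen' : Q' ⊔ zpowers x' = ⊤ := gen_subgroupOf Q x hxΓ
    have hx'P : x' ^ p ^ (n + 1) = 1 := by
      apply Subtype.ext
      rw [Subgroup.coe_pow, Subgroup.coe_one]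
      exact hx
    have hNC' : ∃ g ∈ Q', φ g * φ (x' ^ p ^ n) ≠ φ (x' ^ p ^ n) * φ g := by
      obtain ⟨g, hg, hgne⟩ := hNC
      refine ⟨⟨g, hQΓ hg⟩, by rw [hQ', mem_subgroupOf]; exact hg, ?_⟩
      exact hgne
    obtain ⟨h1, h2, h3, h4, h5, h6, h7, h8⟩ := transfer_quot p q n φ Q' hQ'p x' hgen' hx'P hNC'
    have hcardQ' : Nat.card Q' = Nat.card Q := Nat.card_congr (subgroupOfEquivOfLe hQΓ).toEquiv
    have hQx'' : ∀ g ∈ Q'.map (QuotientGroup.mk' φ.ker),
        QuotientGroup.mk' φ.ker x' * g * (QuotientGroup.mk' φ.ker x')⁻¹ ∈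
          Q'.map (QuotientGroup.mk' φ.ker) := by
      rintro _ ⟨g, hg, rfl⟩
      have hg' : (g : G) ∈ Q := mem_subgroupOf.mp hg
      refine ⟨x' * g * x'⁻¹, ?_, by simp⟩
      exact mem_subgroupOf.mpr (hQx _ hg')
    have hρx : kerLiftM φ (QuotientGroup.mk' φ.ker x') = ρ x := h5
    have key := core_faithful_step p q hpq N ih (kerLiftM φ) h1 (Q'.map (QuotientGroup.mk' φ.ker))
      (QuotientGroup.mk' φ.ker x') n r (by omega) h2 hQx'' h3 h4 h6 (by rw [hρx]; exact hr)
      (by rw [hρx]; exact hmin)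
    rcases key with h | ⟨hab, hrest⟩
    · exact Or.inl h
    · right
      refine ⟨?_, hrest⟩
      obtain ⟨a, ha, b, hb, hne⟩ := h8 hab
      rw [hQ', mem_subgroupOf] at ha hb
      refine ⟨a, ha, b, hb, ?_⟩
      intro hcon
      apply hne
      apply Subtype.ext
      simpa using hcon

end step

end Cfsg.Agent.Helper31.HH
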