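import Mathlib
import Cfsg.Prelude.Def_Local
import Cfsg.Agent.Lib.Helper10.PSolvDual
import Cfsg.Agent.Lib.Helper76.SylowNorm
import Cfsg.Agent.Lib.Helper55.Cores
import Cfsg.Agent.Lib.Helper31.HHCore5

set_option autoImplicit false
set_option linter.style.haveILetI false

/-!
# Hall–Higman Theorem B: from the `p`-soluble linear group to the core statement
-/

namespace Cfsg.Agent.Helper31.HH

open Cfsg Module

/-- In a `p`-soluble group with `O_p = 1`, an element `y = x ^ (p ^ n) ≠ 1` of order `p` fails to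
centralise some `x`-invariant `q`-subgroup, `q ≠ p`. -/
theorem exists_invariant_q_not_centralized {H : Type*} [Group H] [Finite H] {p : ℕ}
    [hp : Fact p.Prime] (hsol : IsPSolvable p H) (hO : pCore p H = ⊥) (n : ℕ) (x : H)
    (hx : x ^ p ^ (n + 1) = 1) (hy1 : x ^ p ^ n ≠ 1) :
    ∃ q : ℕ, q.Prime ∧ q ≠ p ∧ ∃ Q : Subgroup H, IsPGroup q Q ∧ (∀ g ∈ Q, x * g * x⁻¹ ∈ Q) ∧
      ∃ g ∈ Q, g * x ^ p ^ n ≠ x ^ p ^ n * g := by
  by_contra hcon
  push Not at hcon
  apply hy1
  set K := pPrimeCore p H with hK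
  haveI hKn : K.Normal := inferInstance
  have hKcop : (Nat.card K).Coprime p := Cfsg.Agent.Helper55.pPrimeCore_coprime p
  have hpK : ¬ p ∣ Nat.card K := by
    intro hd
    have := Nat.Coprime.eq_one_of_dvd hKcop.symm hd
    exact hp.out.one_lt.ne' this
  have hCK : Subgroup.centralizer (K : Set H) ≤ K :=
    Cfsg.Agent.Helper10.centralizer_pPrimeCore_le_of_isPSolvable hsol hO
  set y := x ^ p ^ n with hy
  have hA : IsPGroup p (Subgroup.zpowers x) := by
    rintro ⟨g, hg⟩
    obtain ⟨k, rfl⟩ := Subgroup.mem_zpowers_iff.mp hg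
    refine ⟨n + 1, ?_⟩
    apply Subtype.ext
    rw [Subgroup.coe_pow]
    show (x ^ k) ^ p ^ (n + 1) = 1
    rw [← zpow_natCast, ← zpow_mul, mul_comm, zpow_mul, zpow_natCast, hx, one_zpow]
  have hkey : ∀ (q : ℕ) [Fact q.Prime], q ≠ p → ∃ S : Sylow q K,
      (S : Subgroup K).map K.subtype ≤ Subgroup.centralizer ({y} : Set H) := by
    intro q hq hqp
    obtain ⟨S, hS⟩ := Cfsg.Agent.Helper76.exists_invariant_sylow K q p hpK (Subgroup.zpowers x) hA
    refine ⟨S, ?_⟩
    set Q' := (S : Subgroup K).map K.subtype with hQ'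
    have hxN : x ∈ Subgroup.normalizer (Q' : Set H) :=
      (Cfsg.Agent.Helper76.mem_normalizer_map_subtype_iff K q x S).mpr
        (hS x (Subgroup.mem_zpowers x))
    have hQ'q : IsPGroup q Q' := S.isPGroup'.map _
    have hinv : ∀ g ∈ Q', x * g * x⁻¹ ∈ Q' := fun a ha =>
      (Subgroup.mem_normalizer_iff.mp hxN a).mp ha
    have := hcon q hq.out hqp Q' hQ'q hinv
    intro a ha
    rw [Subgroup.mem_centralizer_singleton_iff]
    exact this a ha
  set M := K ⊓ Subgroup.centralizer ({y} : Set H) with hM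
  have hdvd : Nat.card K ∣ Nat.card M := by
    rw [← Nat.factorization_prime_le_iff_dvd Nat.card_pos.ne' Nat.card_pos.ne']
    intro q hq
    by_cases hqp : q = p
    · rw [hqp, Nat.factorization_eq_zero_of_not_dvd hpK]
      exact Nat.zero_le _
    · haveI : Fact q.Prime := ⟨hq⟩
      obtain ⟨S, hS⟩ := hkey q hqp
      have h1 : Nat.card ((S : Subgroup K).map K.subtype) = q ^ (Nat.card K).factorization q := by
        rw [← Sylow.card_eq_multiplicity S]
        exact (Nat.card_congr
          (Subgroup.equivMapOfInjective _ K.subtype K.subtype_injective).toEquiv).symm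
      have h2 : (S : Subgroup K).map K.subtype ≤ M := le_inf (Subgroup.map_subtype_le _) hS
      have h3 := Subgroup.card_dvd_of_le h2
      rw [h1] at h3
      exact (Nat.Prime.pow_dvd_iff_le_factorization hq Nat.card_pos.ne').mp h3
  have hMK : M = K :=
    Subgroup.eq_of_le_of_card_ge inf_le_left (Nat.le_of_dvd Nat.card_pos hdvd)
  have hyC : y ∈ Subgroup.centralizer (K : Set H) := by
    rw [Subgroup.mem_centralizer_iff]
    intro k hk
    have hkM : k ∈ M := by rw [hMK]; exact hk
    exact Subgroup.mem_centralizer_singleton_iff.mp hkM.2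
  have hyK : y ∈ K := hCK hyC
  have hyp : y ^ p ^ 1 = 1 := by
    rw [hy, ← pow_mul, pow_one, ← pow_succ]
    exact hx
  exact Cfsg.Agent.Helper10.eq_one_of_pow_prime_pow_eq_one_of_coprime hKcop hyK hyp

/-- The core statement, without the size bound. -/
theorem theoremB_core {K : Type*} [Field K] [IsAlgClosed K] (p q : ℕ) [Fact p.Prime]
    [Fact q.Prime] (hpq : p ≠ q) [CharP K p]
    {V : Type*} [AddCommGroup V] [Module K V] [FiniteDimensional K V]
    {G : Type*} [Group G] [Finite G] (ρ : Representation K G V) (Q : Subgroup G) (x : G) (n r : ℕ)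
    (hQ : IsPGroup q Q) (hQx : ∀ g ∈ Q, x * g * x⁻¹ ∈ Q) (hx : x ^ p ^ (n + 1) = 1)
    (hNC : ∃ g ∈ Q, ρ g * ρ (x ^ p ^ n) ≠ ρ (x ^ p ^ n) * ρ g)
    (hr : (ρ x - 1) ^ r = 0) (hmin : ∀ k < r, (ρ x - 1) ^ k ≠ 0) : Concl p q (n + 1) r Q :=
  core_all p q hpq _ V G ρ Q x n r le_rfl hQ hQx hx hNC hr hmin

section linear

open TensorProduct

variable {F : Type*} [Field F] {V : Type*} [AddCommGroup V] [Module F V]

/-- The inclusion of a group of linear automorphisms into the endomorphism monoid. -/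
def toEndHom (H : Subgroup (V ≃ₗ[F] V)) : H →* End F V where
  toFun h := ((h : V ≃ₗ[F] V) : V →ₗ[F] V)
  map_one' := rfl
  map_mul' _ _ := rfl

theorem toEndHom_injective (H : Subgroup (V ≃ₗ[F] V)) : Function.Injective (toEndHom H) := by
  intro a b hab
  apply Subtype.ext
  exact LinearEquiv.toLinearMap_injective hab

/-- Theorem B for a group of linear automorphisms over an arbitrary field of characteristic `p`,
relative to a given invariant `q`-subgroup. -/
theorem theoremB_linear {p : ℕ} [hp : Fact p.Prime] [CharP F p] [FiniteDimensional F V]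
    (H : Subgroup (V ≃ₗ[F] V)) [Finite H] (q : ℕ) [hq : Fact q.Prime] (hpq : p ≠ q)
    (Q : Subgroup H) (hQ : IsPGroup q Q) (x : H) (hQx : ∀ g ∈ Q, x * g * x⁻¹ ∈ Q) (n : ℕ)
    (hx : x ^ p ^ (n + 1) = 1) (hNC : ∃ g ∈ Q, g * x ^ p ^ n ≠ x ^ p ^ n * g) (r : ℕ)
    (hr : (toEndHom H x - 1) ^ r = 0) (hmin : ∀ k < r, (toEndHom H x - 1) ^ k ≠ 0) :
    Concl p q (n + 1) r Q := by
  set K := AlgebraicClosure F with hK
  haveI : CharP K p := charP_of_injective_algebraMap (algebraMap F K).injective p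
  set Φ : End F V →ₐ[F] End K (K ⊗[F] V) := Module.End.baseChangeHom F K V with hΦ
  have hΦinj : Function.Injective Φ := LinearMap.baseChangeHom_injective F V K
  set ρ : Representation K H (K ⊗[F] V) := (Φ : End F V →* End K (K ⊗[F] V)).comp (toEndHom H)
    with hρ
  have hρinj : Function.Injective ρ := fun a b hab => toEndHom_injective H (hΦinj hab)
  have hpow : ∀ k, (ρ x - 1) ^ k = Φ ((toEndHom H x - 1) ^ k) := by
    intro k
    rw [map_pow, map_sub, map_one]
    rfl
  apply theoremB_core p q hpq ρ Q x n r hQ hQx hx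
  · obtain ⟨g, hg, hgne⟩ := hNC
    refine ⟨g, hg, fun h => hgne (hρinj ?_)⟩
    rw [map_mul, map_mul]
    exact h
  · rw [hpow, hr, map_zero]
  · intro k hk h0
    rw [hpow] at h0
    apply hmin k hk
    apply hΦinj
    rw [h0, map_zero]

end linear

end Cfsg.Agent.Helper31.HH
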