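import Mathlib
import Cfsg.Prelude.Def_LocalEven
import Cfsg.Prelude.Def_PLocal
import Cfsg.Agent.Lib.Helper46.Qd

set_option autoImplicit false
set_option linter.style.haveILetI false

/-!
# Recognition of `Qd(p)` as a section

If a finite group `Y` has commuting elements `v, w` of order `p` generating `E_{p^2}` and elements
`x, y` acting on `⟨v, w⟩` as the two standard transvections, then `Qd(p)` is involved in `Y`.
-/

namespace Cfsg.Agent.Helper31.QdR

open Cfsg Cfsg.Agent.Helper46

/-- `SL₂(F)` -/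
abbrev SL2 (F : Type*) [Field F] := Matrix.SpecialLinearGroup (Fin 2) F

section Gen

variable {F : Type*} [Field F]

/-- the lower unipotent element -/
def lowU (c : F) : SL2 F := ⟨!![1, 0; c, 1], by simp [Matrix.det_fin_two]⟩

/-- the central element `-1` -/
def negOne : SL2 F := ⟨!![-1, 0; 0, -1], by simp [Matrix.det_fin_two]⟩

lemma unip_add (a b : F) : unip (a + b) = unip a * unip b := by
  apply Matrix.SpecialLinearGroup.ext
  intro i j
  rw [Matrix.SpecialLinearGroup.coe_mul]
  fin_cases i <;> fin_cases j <;> simp [unip, Matrix.mul_apply, Fin.sum_univ_two, add_comm]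

lemma lowU_add (a b : F) : lowU (a + b) = lowU a * lowU b := by
  apply Matrix.SpecialLinearGroup.ext
  intro i j
  rw [Matrix.SpecialLinearGroup.coe_mul]
  fin_cases i <;> fin_cases j <;> simp [lowU, Matrix.mul_apply, Fin.sum_univ_two, add_comm]

lemma unip_zero : unip (0 : F) = 1 := by
  apply Matrix.SpecialLinearGroup.ext
  intro i j
  fin_cases i <;> fin_cases j <;> simp [unip]

lemma lowU_zero : lowU (0 : F) = 1 := by
  apply Matrix.SpecialLinearGroup.ext
  intro i j
  fin_cases i <;> fin_cases j <;> simp [lowU]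

lemma unip_natCast (n : ℕ) : unip (n : F) = (unip 1) ^ n := by
  induction n with
  | zero => simp [unip_zero]
  | succ n ih => rw [Nat.cast_succ, unip_add, ih, pow_succ]

lemma lowU_natCast (n : ℕ) : lowU (n : F) = (lowU 1) ^ n := by
  induction n with
  | zero => simp [lowU_zero]
  | succ n ih => rw [Nat.cast_succ, lowU_add, ih, pow_succ]

lemma bruhat (g : SL2 F) (hc : (g : Matrix (Fin 2) (Fin 2) F) 1 0 ≠ 0) :
    g = unip (((g : Matrix (Fin 2) (Fin 2) F) 0 0 - 1) / (g : Matrix (Fin 2) (Fin 2) F) 1 0) *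
      lowU ((g : Matrix (Fin 2) (Fin 2) F) 1 0) *
      unip (((g : Matrix (Fin 2) (Fin 2) F) 1 1 - 1) / (g : Matrix (Fin 2) (Fin 2) F) 1 0) := by
  have hd := sl2_det g
  apply Matrix.SpecialLinearGroup.ext
  intro i j
  rw [Matrix.SpecialLinearGroup.coe_mul, Matrix.SpecialLinearGroup.coe_mul]
  fin_cases i <;> fin_cases j
  · simp [unip, lowU, Matrix.mul_apply, Fin.sum_univ_two]
    field_simp
    ring
  · simp [unip, lowU, Matrix.mul_apply, Fin.sum_univ_two]
    field_simp
    linear_combination (-1) * hd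
  · simp [unip, lowU, Matrix.mul_apply, Fin.sum_univ_two]
  · simp [unip, lowU, Matrix.mul_apply, Fin.sum_univ_two]
    field_simp
    ring

/-- `SL₂(F_p)` is generated by the two standard transvections. -/
theorem closure_unip_lowU (p : ℕ) [Fact p.Prime] :
    Subgroup.closure {unip (1 : ZMod p), lowU (1 : ZMod p)} = ⊤ := by
  set H := Subgroup.closure {unip (1 : ZMod p), lowU (1 : ZMod p)} with hH
  have hu : ∀ c : ZMod p, unip c ∈ H := by
    intro c
    rw [← ZMod.natCast_zmod_val c, unip_natCast]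
    exact H.pow_mem (Subgroup.subset_closure (by simp)) _
  have hl : ∀ c : ZMod p, lowU c ∈ H := by
    intro c
    rw [← ZMod.natCast_zmod_val c, lowU_natCast]
    exact H.pow_mem (Subgroup.subset_closure (by simp)) _
  have h1 : ∀ g : SL2 (ZMod p), (g : Matrix (Fin 2) (Fin 2) (ZMod p)) 1 0 ≠ 0 → g ∈ H := by
    intro g hg
    rw [bruhat g hg]
    exact H.mul_mem (H.mul_mem (hu _) (hl _)) (hu _)
  rw [eq_top_iff]
  intro g _
  by_cases hc : (g : Matrix (Fin 2) (Fin 2) (ZMod p)) 1 0 = 0
  · have hd := sl2_det g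
    rw [hc, mul_zero, sub_zero] at hd
    have ha : (g : Matrix (Fin 2) (Fin 2) (ZMod p)) 0 0 ≠ 0 := by
      intro h0
      rw [h0, zero_mul] at hd
      exact zero_ne_one hd
    have h2 : lowU (1 : ZMod p) * g ∈ H := by
      apply h1
      rw [Matrix.SpecialLinearGroup.coe_mul]
      simp [lowU, Matrix.mul_apply, Fin.sum_univ_two, hc, ha]
    have h3 : g = (lowU (1 : ZMod p))⁻¹ * (lowU (1 : ZMod p) * g) := by group
    rw [h3]
    exact H.mul_mem (H.inv_mem (hl 1)) h2
  · exact h1 g hc

end Gen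

section Act

variable {F : Type*} [Field F]

/-- the action of `SL₂(F)` on `F²` written multiplicatively -/
def actHom (F : Type*) [Field F] : SL2 F →* MulAut (Multiplicative (Fin 2 → F)) where
  toFun A :=
    { toFun := fun m => Multiplicative.ofAdd (A • Multiplicative.toAdd m)
      invFun := fun m => Multiplicative.ofAdd (A⁻¹ • Multiplicative.toAdd m)
      left_inv := fun m => by simp
      right_inv := fun m => by simp
      map_mul' := fun a b => by simp [smul_add] }
  map_one' := by ext m; simp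
  map_mul' A B := by ext m; simp [mul_smul]

@[simp] lemma actHom_apply (A : SL2 F) (m : Multiplicative (Fin 2 → F)) :
    actHom F A m = Multiplicative.ofAdd (A • Multiplicative.toAdd m) := rfl

lemma negOne_smul (v : Fin 2 → F) : (negOne : SL2 F) • v = -v := by
  ext i
  fin_cases i
  · show ((negOne : SL2 F) • v) 0 = (-v) 0
    rw [smul_apply_zero]; simp [negOne]
  · show ((negOne : SL2 F) • v) 1 = (-v) 1
    rw [smul_apply_one]; simp [negOne]

lemma negOne_comm (A : SL2 F) : A * negOne = negOne * A := by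
  apply Matrix.SpecialLinearGroup.ext
  intro i j
  rw [Matrix.SpecialLinearGroup.coe_mul, Matrix.SpecialLinearGroup.coe_mul]
  fin_cases i <;> fin_cases j <;> simp [negOne, Matrix.mul_apply, Fin.sum_univ_two]

lemma negOne_sq : (negOne : SL2 F) * negOne = 1 := by
  apply Matrix.SpecialLinearGroup.ext
  intro i j
  rw [Matrix.SpecialLinearGroup.coe_mul]
  fin_cases i <;> fin_cases j <;> simp [negOne, Matrix.mul_apply, Fin.sum_univ_two]

lemma negOne_pow_odd {b : ℕ} (hb : Odd b) : (negOne : SL2 F) ^ b = negOne := by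
  obtain ⟨k, rfl⟩ := hb
  rw [pow_succ, pow_mul, pow_two, negOne_sq, one_pow, one_mul]

lemma unip_smul (c : F) (v : Fin 2 → F) : unip c • v = ![v 0 + c * v 1, v 1] := by
  ext i
  fin_cases i
  · show (unip c • v) 0 = v 0 + c * v 1
    rw [smul_apply_zero]; simp [unip]
  · show (unip c • v) 1 = v 1
    rw [smul_apply_one]; simp [unip]

lemma lowU_smul (c : F) (v : Fin 2 → F) : lowU c • v = ![v 0, c * v 0 + v 1] := by
  ext i
  fin_cases i
  · show (lowU c • v) 0 = v 0
    rw [smul_apply_zero]; simp [lowU]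
  · show (lowU c • v) 1 = c * v 0 + v 1
    rw [smul_apply_one]; simp [lowU]

end Act

section Involves

/-- A quotient of a subgroup is involved. -/
theorem involves_of_inj_surj {S' H X : Type*} [Group S'] [Group H] [Group X] (f : S' →* X)
    (hf : Function.Injective f) (g : S' →* H) (hg : Function.Surjective g) : Involves H X := by
  set K := f.range with hK
  set ι : S' ≃* ↥K := MonoidHom.ofInjective hf with hι
  set Ψ : ↥K →* H := g.comp ι.symm.toMonoidHom with hΨ
  have hΨs : Function.Surjective Ψ := by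
    intro h
    obtain ⟨s, rfl⟩ := hg h
    exact ⟨ι s, by simp [hΨ]⟩
  set R := Ψ.ker.map K.subtype with hR
  have hRK : R.subgroupOf K = Ψ.ker := by
    rw [hR, Subgroup.subgroupOf, Subgroup.comap_map_eq_self_of_injective K.subtype_injective]
  haveI hn : (R.subgroupOf K).Normal := by rw [hRK]; infer_instance
  exact ⟨K, R, hn, ⟨(QuotientGroup.quotientMulEquivOfEq hRK).trans
    (QuotientGroup.quotientKerEquivOfSurjective Ψ hΨs)⟩⟩

/-- Being involved passes along injective homomorphisms. -/
theorem involves_of_injective {H X Y : Type*} [Group H] [Group X] [Group Y] (f : X →* Y)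
    (hf : Function.Injective f) (h : Involves H X) : Involves H Y := by
  obtain ⟨K, R, hn, ⟨e⟩⟩ := h
  haveI := hn
  refine involves_of_inj_surj (f.comp K.subtype) (hf.comp K.subtype_injective)
    (e.toMonoidHom.comp (QuotientGroup.mk' (R.subgroupOf K))) ?_
  exact e.surjective.comp (QuotientGroup.mk'_surjective _)

end Involves

section Main

variable {p : ℕ} [hp : Fact p.Prime]

/-- `Qd(p)` recognition, abstract form: a finite group `X` with an injective homomorphism `e` of
`F_p²` into `X` and a surjection `ρ : X → SL₂(p)` such that conjugation by `g` on `e(F_p²)` is the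
natural action of `ρ g`, involves `Qd(p)`. -/
theorem involves_qd_of_rho (hp2 : p ≠ 2) {X : Type*} [Group X] [Finite X]
    (e : Multiplicative (Fin 2 → ZMod p) →* X) (he : Function.Injective e)
    (ρ : X →* SL2 (ZMod p)) (hρ : Function.Surjective ρ)
    (hc : ∀ (g : X) (m : Multiplicative (Fin 2 → ZMod p)),
      g * e m * g⁻¹ = e (actHom (ZMod p) (ρ g) m)) :
    Involves ↥(qd p) X := by
  classical
  haveI : Fact (Nat.Prime 2) := ⟨Nat.prime_two⟩
  -- a `2`-element over `-1`
  obtain ⟨t₀, ht₀⟩ := hρ negOne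
  obtain ⟨a, b, hb, hn⟩ := Nat.exists_eq_two_pow_mul_odd (orderOf_pos t₀).ne'
  set t := t₀ ^ b with ht
  have hρt : ρ t = negOne := by rw [ht, map_pow, ht₀, negOne_pow_odd hb]
  have ht2 : t ^ 2 ^ a = 1 := by
    rw [ht, ← pow_mul, mul_comm, ← hn, pow_orderOf_eq_one]
  -- the normal subgroup `D` over `⟨-1⟩`
  haveI hZn : (Subgroup.zpowers (negOne : SL2 (ZMod p))).Normal := by
    refine ⟨fun n hn g => ?_⟩
    obtain ⟨k, rfl⟩ := Subgroup.mem_zpowers_iff.mp hn
    have hcomm : Commute g (negOne ^ k : SL2 (ZMod p)) :=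
      (show Commute g negOne from negOne_comm g).zpow_right k
    rw [hcomm.eq, mul_inv_cancel_right]
    exact Subgroup.zpow_mem_zpowers _ _
  set D : Subgroup X := (Subgroup.zpowers (negOne : SL2 (ZMod p))).comap ρ with hD
  haveI hDn : D.Normal := hZn.comap ρ
  have htD : t ∈ D := by
    rw [hD, Subgroup.mem_comap, hρt]
    exact Subgroup.mem_zpowers _
  set tD : ↥D := ⟨t, htD⟩ with htD'
  have hpg : IsPGroup 2 (Subgroup.zpowers tD) := by
    have h1 : tD ^ 2 ^ a = 1 := Subtype.ext (by simpa using ht2)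
    have h2 : orderOf tD ∣ 2 ^ a := orderOf_dvd_of_pow_eq_one h1
    obtain ⟨i, _, hi⟩ := (Nat.dvd_prime_pow Nat.prime_two).mp h2
    exact IsPGroup.of_card (n := i) (by rw [Nat.card_zpowers, hi])
  obtain ⟨Q, hQ⟩ := hpg.exists_le_sylow
  set T₂ : Subgroup X := (Q : Subgroup ↥D).map D.subtype with hT₂
  have htT : t ∈ T₂ := ⟨tD, hQ (Subgroup.mem_zpowers tD), rfl⟩
  have hT₂p : IsPGroup 2 T₂ := Q.isPGroup'.map _
  set Y' : Subgroup X := Subgroup.normalizer (T₂ : Set X) with hY'
  have hfrat : Y' ⊔ D = ⊤ := Sylow.normalizer_sup_eq_top Q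
  have htY : t ∈ Y' := Subgroup.le_normalizer htT
  -- Claim A: `ρ` maps `Y'` onto `SL₂(p)`
  have hA : ∀ A : SL2 (ZMod p), ∃ k ∈ Y', ρ k = A := by
    intro A
    obtain ⟨g, rfl⟩ := hρ A
    have hg : g ∈ Y' ⊔ D := by rw [hfrat]; exact Subgroup.mem_top g
    obtain ⟨y', hy', d, hd, rfl⟩ := Subgroup.mem_sup_of_normal_right.mp hg
    rw [hD, Subgroup.mem_comap] at hd
    obtain ⟨k, hk⟩ := Subgroup.mem_zpowers_iff.mp hd
    refine ⟨y' * t ^ k, Y'.mul_mem hy' (Y'.zpow_mem htY k), ?_⟩
    rw [map_mul, map_mul, map_zpow, hρt, hk]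
  -- Claim B: `Y'` meets `e(F_p²)` trivially
  have hB : ∀ m : Multiplicative (Fin 2 → ZMod p), e m ∈ Y' → m = 1 := by
    intro m hm
    have h1 : e m * t * (e m)⁻¹ ∈ T₂ := (Subgroup.mem_normalizer_iff.mp hm t).mp htT
    have h2 : e m * t * (e m)⁻¹ * t⁻¹ ∈ T₂ := T₂.mul_mem h1 (T₂.inv_mem htT)
    have h3 : t * (e m)⁻¹ * t⁻¹ = e m := by
      rw [← map_inv, hc t m⁻¹, hρt]
      congr 1
      show Multiplicative.ofAdd ((negOne : SL2 (ZMod p)) • Multiplicative.toAdd m⁻¹) = m
      rw [negOne_smul]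
      simp
    have h4 : e m * t * (e m)⁻¹ * t⁻¹ = e (m * m) := by
      rw [map_mul]
      calc e m * t * (e m)⁻¹ * t⁻¹ = e m * (t * (e m)⁻¹ * t⁻¹) := by group
        _ = e m * e m := by rw [h3]
    rw [h4] at h2
    obtain ⟨j, hj⟩ := hT₂p ⟨e (m * m), h2⟩
    have h5 : e (m * m) ^ 2 ^ j = 1 := by
      have := congrArg Subtype.val hj
      simpa using this
    have h6 : e (m * m) ^ p = 1 := by
      rw [← map_pow]
      have : (m * m) ^ p = 1 := by
        apply Multiplicative.toAdd.injective
        rw [toAdd_pow, toAdd_one]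
        ext i
        simp
      rw [this, map_one]
    have hcop : Nat.Coprime (2 ^ j) p := by
      apply Nat.Coprime.pow_left
      rw [Nat.coprime_primes Nat.prime_two hp.out]
      exact fun h => hp2 h.symm
    have h7 := pow_gcd_eq_one.mpr ⟨h5, h6⟩
    rw [hcop.gcd_eq_one, pow_one] at h7
    have h8 : m * m = 1 := he (by rw [h7, map_one])
    have h9 : Multiplicative.toAdd m + Multiplicative.toAdd m = 0 := by
      have := congrArg Multiplicative.toAdd h8
      simpa using this
    apply Multiplicative.toAdd.injective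
    rw [toAdd_one]
    ext i
    have h10 : Multiplicative.toAdd m i + Multiplicative.toAdd m i = 0 := by
      have := congrFun h9 i
      simpa using this
    have h11 : (2 : ZMod p) * Multiplicative.toAdd m i = 0 := by rw [two_mul]; exact h10
    have h2ne : (2 : ZMod p) ≠ 0 := by
      intro h
      have h12 : ((2 : ℕ) : ZMod p) = 0 := by exact_mod_cast h
      rw [ZMod.natCast_eq_zero_iff] at h12
      exact hp2 ((Nat.prime_dvd_prime_iff_eq hp.out Nat.prime_two).mp h12)
    rcases mul_eq_zero.mp h11 with h | h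
    · exact absurd h h2ne
    · simpa using h
  -- the semidirect product
  set φ : ↥Y' →* MulAut (Multiplicative (Fin 2 → ZMod p)) :=
    (actHom (ZMod p)).comp (ρ.comp Y'.subtype) with hφ
  set Φ₁ : Multiplicative (Fin 2 → ZMod p) ⋊[φ] ↥Y' →* X :=
    SemidirectProduct.lift e Y'.subtype (by
      intro g
      refine MonoidHom.ext fun m => ?_
      show e (φ g m) = (g : X) * e m * (g : X)⁻¹
      rw [hc (g : X) m]
      rfl) with hΦ₁
  have hΦ₁inj : Function.Injective Φ₁ := by
    rw [injective_iff_map_eq_one]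
    intro s hs
    have h1 : e s.left * (s.right : X) = 1 := hs
    have h2 : e s.left = ((s.right)⁻¹ : ↥Y') := by
      rw [Subgroup.coe_inv]
      exact eq_inv_of_mul_eq_one_left h1
    have h3 : s.left = 1 := hB _ (by rw [h2]; exact ((s.right)⁻¹ : ↥Y').2)
    rw [h3, map_one, one_mul] at h1
    refine SemidirectProduct.ext h3 ?_
    exact Subtype.ext (by simpa using h1)
  set fn : Multiplicative (Fin 2 → ZMod p) →* ↥(qd p) :=
    { toFun := fun m => (mkQd 1 (Multiplicative.toAdd m) : ↥(qdOver (ZMod p)))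
      map_one' := by
        show (mkQd 1 (Multiplicative.toAdd (1 : Multiplicative (Fin 2 → ZMod p))) :
          ↥(qdOver (ZMod p))) = 1
        rw [toAdd_one, mkQd_one]
      map_mul' := fun m m' => by
        show (mkQd 1 (Multiplicative.toAdd (m * m')) : ↥(qdOver (ZMod p))) =
          mkQd 1 (Multiplicative.toAdd m) * mkQd 1 (Multiplicative.toAdd m')
        rw [mkQd_mul, one_mul, one_smul, toAdd_mul, add_comm] } with hfn
  set fg : ↥Y' →* ↥(qd p) :=
    { toFun := fun k => (mkQd (ρ (k : X)) 0 : ↥(qdOver (ZMod p)))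
      map_one' := by
        show (mkQd (ρ ((1 : ↥Y') : X)) 0 : ↥(qdOver (ZMod p))) = 1
        rw [Subgroup.coe_one, map_one, mkQd_one]
      map_mul' := fun k k' => by
        show (mkQd (ρ ((k * k' : ↥Y') : X)) 0 : ↥(qdOver (ZMod p))) =
          mkQd (ρ (k : X)) 0 * mkQd (ρ (k' : X)) 0
        rw [mkQd_mul, smul_zero, add_zero, Subgroup.coe_mul, map_mul] } with hfg
  set Φ₂ : Multiplicative (Fin 2 → ZMod p) ⋊[φ] ↥Y' →* ↥(qd p) :=
    SemidirectProduct.lift fn fg (by
      intro g
      refine MonoidHom.ext fun m => ?_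
      show (mkQd 1 (Multiplicative.toAdd (φ g m)) : ↥(qdOver (ZMod p))) =
        mkQd (ρ (g : X)) 0 * mkQd 1 (Multiplicative.toAdd m) * (mkQd (ρ (g : X)) 0)⁻¹
      rw [mkQd_inv, mkQd_mul, mkQd_mul, smul_zero, neg_zero, smul_zero, zero_add, add_zero,
        mul_one, mul_inv_cancel]
      rfl) with hΦ₂
  have hΦ₂surj : Function.Surjective Φ₂ := by
    intro M
    obtain ⟨A, v, hM⟩ := exists_mkQd (F := ZMod p) M
    obtain ⟨k, hk, hkA⟩ := hA A
    refine ⟨⟨Multiplicative.ofAdd v, ⟨k, hk⟩⟩, ?_⟩
    show (mkQd 1 (Multiplicative.toAdd (Multiplicative.ofAdd v)) : ↥(qdOver (ZMod p))) *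
      mkQd (ρ k) 0 = M
    rw [mkQd_mul, one_mul, one_smul, zero_add, toAdd_ofAdd, hkA, hM]
  exact involves_of_inj_surj Φ₁ hΦ₁inj Φ₂ hΦ₂surj

end Main

section Pair

variable {p : ℕ} [hp : Fact p.Prime]

lemma pow_val_add {Y : Type*} [Group Y] {v : Y} (hv : v ^ p = 1) (a b : ZMod p) :
    v ^ (a + b).val = v ^ a.val * v ^ b.val := by
  rw [ZMod.val_add, ← pow_add, ← pow_eq_pow_mod _ hv]

/-- the coordinate homomorphism `F_p² → Y`, `m ↦ v ^ m₀ * w ^ m₁` -/
def coordHom {Y : Type*} [Group Y] (v w : Y) (hv : v ^ p = 1) (hw : w ^ p = 1)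
    (hvw : v * w = w * v) : Multiplicative (Fin 2 → ZMod p) →* Y where
  toFun m := v ^ (Multiplicative.toAdd m 0).val * w ^ (Multiplicative.toAdd m 1).val
  map_one' := by simp
  map_mul' m m' := by
    have hc : Commute v w := hvw
    rw [toAdd_mul, Pi.add_apply, Pi.add_apply, pow_val_add hv, pow_val_add hw]
    have h1 : Commute (v ^ (Multiplicative.toAdd m' 0).val) (w ^ (Multiplicative.toAdd m 1).val) :=
      (hc.pow_pow _ _)
    calc v ^ (Multiplicative.toAdd m 0).val * v ^ (Multiplicative.toAdd m' 0).val *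
          (w ^ (Multiplicative.toAdd m 1).val * w ^ (Multiplicative.toAdd m' 1).val)
        = v ^ (Multiplicative.toAdd m 0).val * (v ^ (Multiplicative.toAdd m' 0).val *
          w ^ (Multiplicative.toAdd m 1).val) * w ^ (Multiplicative.toAdd m' 1).val := by
          simp only [mul_assoc]
      _ = v ^ (Multiplicative.toAdd m 0).val * (w ^ (Multiplicative.toAdd m 1).val *
          v ^ (Multiplicative.toAdd m' 0).val) * w ^ (Multiplicative.toAdd m' 1).val := by
          rw [h1.eq]
      _ = _ := by simp only [mul_assoc]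

lemma coordHom_apply {Y : Type*} [Group Y] (v w : Y) (hv : v ^ p = 1) (hw : w ^ p = 1)
    (hvw : v * w = w * v) (m : Multiplicative (Fin 2 → ZMod p)) :
    coordHom v w hv hw hvw m =
      v ^ (Multiplicative.toAdd m 0).val * w ^ (Multiplicative.toAdd m 1).val := rfl

/-- **`Qd(p)` recognition**, pair form. -/
theorem involves_qd_of_pair (hp2 : p ≠ 2) {Y : Type*} [Group Y] [Finite Y] (v w x y : Y)
    (hv : v ^ p = 1) (hw : w ^ p = 1) (hvw : v * w = w * v)
    (hind : ∀ i j : ℕ, v ^ i * w ^ j = 1 → p ∣ i ∧ p ∣ j)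
    (hxv : x * v * x⁻¹ = v) (hxw : x * w * x⁻¹ = w * v)
    (hyv : y * v * y⁻¹ = v * w) (hyw : y * w * y⁻¹ = w) :
    Involves ↥(qd p) Y := by
  classical
  set e := coordHom v w hv hw hvw with he
  have hcomm : Commute v w := hvw
  have heinj : Function.Injective e := by
    rw [injective_iff_map_eq_one]
    intro m hm
    rw [he, coordHom_apply] at hm
    obtain ⟨h1, h2⟩ := hind _ _ hm
    have h3 : (Multiplicative.toAdd m 0).val = 0 :=
      Nat.eq_zero_of_dvd_of_lt h1 (ZMod.val_lt _)
    have h4 : (Multiplicative.toAdd m 1).val = 0 :=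
      Nat.eq_zero_of_dvd_of_lt h2 (ZMod.val_lt _)
    apply Multiplicative.toAdd.injective
    rw [toAdd_one]
    ext i
    fin_cases i
    · exact (ZMod.val_eq_zero _).mp h3
    · exact (ZMod.val_eq_zero _).mp h4
  -- the graph subgroup
  set R : Subgroup (Y × SL2 (ZMod p)) :=
    { carrier := {r | ∀ m : Multiplicative (Fin 2 → ZMod p),
        r.1 * e m * r.1⁻¹ = e (actHom (ZMod p) r.2 m)}
      one_mem' := by
        intro m
        simp
      mul_mem' := by
        intro r r' hr hr' m
        have h1 := hr' m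
        have h2 := hr (actHom (ZMod p) r'.2 m)
        show (r.1 * r'.1) * e m * (r.1 * r'.1)⁻¹ = e (actHom (ZMod p) (r.2 * r'.2) m)
        rw [map_mul, MulAut.mul_apply, ← h2, ← h1]
        group
      inv_mem' := by
        intro r hr m
        have h1 := hr (actHom (ZMod p) r.2⁻¹ m)
        have h2 : actHom (ZMod p) r.2 (actHom (ZMod p) r.2⁻¹ m) = m := by
          rw [← MulAut.mul_apply, ← map_mul, mul_inv_cancel, map_one, MulAut.one_apply]
        rw [h2] at h1
        show r.1⁻¹ * e m * r.1⁻¹⁻¹ = e (actHom (ZMod p) r.2⁻¹ m)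
        rw [← h1]
        group } with hR
  have hRmem : ∀ r : Y × SL2 (ZMod p), r ∈ R ↔ ∀ m : Multiplicative (Fin 2 → ZMod p),
      r.1 * e m * r.1⁻¹ = e (actHom (ZMod p) r.2 m) := fun r => Iff.rfl
  -- `x` and `y`
  have hxR : (x, unip (1 : ZMod p)) ∈ R := by
    rw [hRmem]
    intro m
    show x * e m * x⁻¹ = e (Multiplicative.ofAdd (unip (1 : ZMod p) • Multiplicative.toAdd m))
    rw [he, coordHom_apply, coordHom_apply, unip_smul, toAdd_ofAdd]
    simp only [Matrix.cons_val_zero, Matrix.cons_val_one, one_mul]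
    rw [pow_val_add hv]
    have e1 : x * (v ^ (Multiplicative.toAdd m 0).val * w ^ (Multiplicative.toAdd m 1).val) * x⁻¹
        = (x * v * x⁻¹) ^ (Multiplicative.toAdd m 0).val *
          (x * w * x⁻¹) ^ (Multiplicative.toAdd m 1).val := by
      rw [conj_pow, conj_pow]; group
    rw [e1, hxv, hxw, hcomm.symm.mul_pow]
    have h1 : Commute (w ^ (Multiplicative.toAdd m 1).val) (v ^ (Multiplicative.toAdd m 1).val) :=
      (hcomm.symm.pow_pow _ _)
    rw [h1.eq, mul_assoc]
  have hyR : (y, lowU (1 : ZMod p)) ∈ R := by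
    rw [hRmem]
    intro m
    show y * e m * y⁻¹ = e (Multiplicative.ofAdd (lowU (1 : ZMod p) • Multiplicative.toAdd m))
    rw [he, coordHom_apply, coordHom_apply, lowU_smul, toAdd_ofAdd]
    simp only [Matrix.cons_val_zero, Matrix.cons_val_one, one_mul]
    rw [pow_val_add hw]
    have e1 : y * (v ^ (Multiplicative.toAdd m 0).val * w ^ (Multiplicative.toAdd m 1).val) * y⁻¹
        = (y * v * y⁻¹) ^ (Multiplicative.toAdd m 0).val *
          (y * w * y⁻¹) ^ (Multiplicative.toAdd m 1).val := by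
      rw [conj_pow, conj_pow]; group
    rw [e1, hyv, hyw, hcomm.mul_pow, mul_assoc]
  -- the maps
  set ρ : ↥R →* SL2 (ZMod p) := (MonoidHom.snd Y (SL2 (ZMod p))).comp R.subtype with hρ
  set π : ↥R →* Y := (MonoidHom.fst Y (SL2 (ZMod p))).comp R.subtype with hπ
  have hρsurj : Function.Surjective ρ := by
    rw [← MonoidHom.range_eq_top, eq_top_iff, ← closure_unip_lowU p, Subgroup.closure_le]
    rintro g (rfl | rfl)
    · exact ⟨⟨_, hxR⟩, rfl⟩
    · exact ⟨⟨_, hyR⟩, rfl⟩
  have hπinj : Function.Injective π := by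
    rw [injective_iff_map_eq_one]
    rintro ⟨⟨g, A⟩, hr⟩ h1
    have h1' : g = 1 := h1
    subst h1'
    have h2 : A = 1 := by
      apply eq_one_of_smul_eq
      intro u
      have h3 := (hRmem _).mp hr (Multiplicative.ofAdd u)
      simp only [one_mul, inv_one, mul_one] at h3
      have h4 := heinj h3
      have h5 := congrArg Multiplicative.toAdd h4
      rw [actHom_apply, toAdd_ofAdd, toAdd_ofAdd] at h5
      exact h5.symm
    subst h2
    rfl
  set e' : Multiplicative (Fin 2 → ZMod p) →* ↥R :=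
    { toFun := fun m => ⟨(e m, 1), by
        rw [hRmem]
        intro m'
        show e m * e m' * (e m)⁻¹ = e (actHom (ZMod p) 1 m')
        rw [map_one, MulAut.one_apply, ← map_mul, ← map_inv, ← map_mul, mul_comm m m',
          mul_inv_cancel_right]⟩
      map_one' := by
        apply Subtype.ext
        show (e 1, (1 : SL2 (ZMod p))) = 1
        rw [map_one]; rfl
      map_mul' := fun m m' => by
        apply Subtype.ext
        show (e (m * m'), (1 : SL2 (ZMod p))) = (e m, 1) * (e m', 1)
        rw [map_mul, Prod.mk_mul_mk, one_mul] } with he'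
  have he'inj : Function.Injective e' := by
    intro m m' h
    have h1 := congrArg (fun r : ↥R => (r : Y × SL2 (ZMod p)).1) h
    exact heinj h1
  have hcompat : ∀ (r : ↥R) (m : Multiplicative (Fin 2 → ZMod p)),
      r * e' m * r⁻¹ = e' (actHom (ZMod p) (ρ r) m) := by
    rintro ⟨⟨g, A⟩, hr⟩ m
    apply Subtype.ext
    apply Prod.ext
    · exact (hRmem _).mp hr m
    · show A * 1 * A⁻¹ = 1
      rw [mul_one, mul_inv_cancel]
  have hinv := involves_qd_of_rho hp2 e' he'inj ρ hρsurj hcompat
  exact involves_of_injective π hπinj hinv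

end Pair

end Cfsg.Agent.Helper31.QdR
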