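import Mathlib
import Cfsg.Prelude.Def_Local
import Cfsg.Prelude.Def_SolvableStructure

set_option autoImplicit false

/-!
# SCH (S4394): `p`-soluble groups whose Sylow `p`-subgroups are of Schmidt type have `p`-length 1

Shared definitions.  A *Schmidt automorphism* of a `p`-group `P` is an automorphism `α ≠ 1` of prime
order `q ≠ p` that fixes every proper `α`-invariant subgroup of `P` pointwise (this is what conjugation
by a generator of the cyclic Sylow subgroup of a minimal non-nilpotent group induces on the normal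
Sylow subgroup).
-/

namespace Cfsg.Agent.Helper31.SCH

open Cfsg

/-- The commutator `a b a⁻¹ b⁻¹` of two elements. -/
def cmt {H : Type*} [Group H] (a b : H) : H := a * b * a⁻¹ * b⁻¹

/-- Schmidt automorphism. -/
structure SA (p : ℕ) {P : Type*} [Group P] (α : MulAut P) : Prop where
  ord : ∃ q : ℕ, q.Prime ∧ q ≠ p ∧ α ^ q = 1
  ne : α ≠ 1
  fix : ∀ R : Subgroup P, R ≠ ⊤ → (∀ x ∈ R, α x ∈ R) → ∀ x ∈ R, α x = x

/-- `O_{p,p'}(G)`: the preimage of `O_{p'}(G / O_p(G))`. -/
def Kc (p : ℕ) (G : Type*) [Group G] : Subgroup G :=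
  (pPrimeCore p (G ⧸ pCore p G)).comap (QuotientGroup.mk' (pCore p G))

end Cfsg.Agent.Helper31.SCH
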