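import Mathlib

set_option autoImplicit false

/-!
# Trace-zero action of an element normalizing an abelian `p'`-group

`x` acting on an abelian group `W` of exponent `p` with `(x - 1)^(p-1) = 0`, and normalizing an
abelian `p'`-group `R` of automorphisms of `W`: then `x` centralizes `R`.
(Generalizes `QuadAct`, no hypothesis `p ≠ 2`.)
-/

namespace Cfsg.Agent.Helper31.GT

open Finset

section Trace

variable {p : ℕ} [hp : Fact p.Prime]

lemma geom_sum_eq_sub_pow :
    (∑ i ∈ range p, (Polynomial.X : Polynomial (ZMod p)) ^ i) = (Polynomial.X - 1) ^ (p - 1) := by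
  have h1 : (∑ i ∈ range p, (Polynomial.X : Polynomial (ZMod p)) ^ i) * (Polynomial.X - 1) =
      Polynomial.X ^ p - 1 := geom_sum_mul _ _
  have h2 : ((Polynomial.X : Polynomial (ZMod p)) - 1) ^ p = Polynomial.X ^ p - 1 := by
    rw [sub_pow_char, one_pow]
  have h3 : ((Polynomial.X : Polynomial (ZMod p)) - 1) ^ p =
      (Polynomial.X - 1) ^ (p - 1) * (Polynomial.X - 1) := by
    rw [← pow_succ]
    congr 1
    have := hp.out.one_lt
    omega
  have hne : ((Polynomial.X : Polynomial (ZMod p)) - 1) ≠ 0 := by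
    have := Polynomial.X_sub_C_ne_zero (1 : ZMod p)
    simpa using this
  exact mul_right_cancel₀ hne (by rw [h1, ← h2, h3])

lemma ring_trace {E : Type*} [Ring E] [Algebra (ZMod p) E] (x : E)
    (h : (x - 1) ^ (p - 1) = 0) : ∑ i ∈ range p, x ^ i = 0 ∧ x ^ p = 1 := by
  have h1 := congrArg (Polynomial.aeval x) (geom_sum_eq_sub_pow (p := p))
  simp only [map_sum, map_pow, Polynomial.aeval_X, map_sub, map_one] at h1
  refine ⟨by rw [h1, h], ?_⟩
  have h2 := geom_sum_mul x p
  rw [h1, h, zero_mul] at h2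
  exact (sub_eq_zero.mp h2.symm)

lemma add_tr {M : Type*} [AddCommGroup M] [Module (ZMod p) M] (xL : M →ₗ[ZMod p] M)
    (h : ∀ w : M, (fun w => xL w - w)^[p - 1] w = 0) :
    xL ^ p = 1 ∧ ∑ j ∈ range p, xL ^ j = 0 := by
  have hdpow : ∀ (j : ℕ) (w : M), ((xL - 1) ^ j) w = (fun w => xL w - w)^[j] w := by
    intro j
    induction j with
    | zero => intro w; simp
    | succ j ih =>
      intro w
      rw [pow_succ', Module.End.mul_apply, ih, Function.iterate_succ_apply']
      rfl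
  have hzero : (xL - 1) ^ (p - 1) = 0 := by
    apply LinearMap.ext
    intro w
    rw [hdpow, h]
    rfl
  obtain ⟨h1, h2⟩ := ring_trace (p := p) xL hzero
  exact ⟨h2, h1⟩

variable {W : Type*} [CommGroup W]

/-- From `(x - 1)^(p-1) = 0` on a group of exponent `p`: `x ^ p = 1` and the trace of `x` is zero. -/
theorem tr_of_iter (hexp : ∀ w : W, w ^ p = 1) (x : MulAut W)
    (h : ∀ w : W, (fun w => x w / w)^[p - 1] w = 1) :
    x ^ p = 1 ∧ ∀ w : W, ∏ j ∈ range p, (x ^ j) w = 1 := by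
  have h0 : ∀ w : Additive W, p • w = 0 := by
    intro w
    show Additive.ofMul ((Additive.toMul w) ^ p) = 0
    rw [hexp]; rfl
  haveI inst : Module (ZMod p) (Additive W) := AddCommGroup.zmodModule h0
  have hiter : ∀ (j : ℕ) (w : W),
      (fun w : Additive W =>
        ((MonoidHom.toAdditive x.toMonoidHom).toZModLinearMap p) w - w)^[j] (Additive.ofMul w) =
        Additive.ofMul ((fun w => x w / w)^[j] w) := by
    intro j
    induction j with
    | zero => intro w; rfl
    | succ j ih =>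
      intro w
      rw [Function.iterate_succ_apply', ih, Function.iterate_succ_apply']
      rfl
  obtain ⟨h1, h2⟩ := add_tr (p := p) ((MonoidHom.toAdditive x.toMonoidHom).toZModLinearMap p) (by
    intro w
    obtain ⟨w, rfl⟩ := Additive.ofMul.surjective w
    rw [hiter, h]
    rfl)
  have hpow : ∀ (j : ℕ) (w : W),
      (((MonoidHom.toAdditive x.toMonoidHom).toZModLinearMap p) ^ j) (Additive.ofMul w) =
        Additive.ofMul ((x ^ j) w) := by
    intro j
    induction j with
    | zero => intro w; simp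
    | succ j ih =>
      intro w
      rw [pow_succ', Module.End.mul_apply, ih, pow_succ', MulAut.mul_apply]
      rfl
  refine ⟨?_, ?_⟩
  · ext w
    have := hpow p w
    rw [h1, Module.End.one_apply] at this
    exact (Additive.ofMul.injective this).symm
  · intro w
    have h3 := congrArg (fun f => f (Additive.ofMul w)) h2
    simp only [LinearMap.sum_apply, LinearMap.zero_apply] at h3
    rw [Finset.sum_congr rfl (fun j _ => hpow j w), ← ofMul_prod] at h3
    exact Additive.ofMul.injective h3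

/-- The fixed-point-free case: an abelian `p'`-group `A` acting on `W`, normalized by a trace-zero
`x` acting on `A` without fixed points, acts trivially. -/
theorem tr_fpf {A : Type*} [CommGroup A] [Finite A] (hexp : ∀ w : W, w ^ p = 1)
    (x : MulAut W) (htr : ∀ w : W, ∏ j ∈ range p, (x ^ j) w = 1)
    (ρ : A →* MulAut W) (ξ : A →* A) (hξ : ∀ a, ρ (ξ a) = x * ρ a * x⁻¹)
    (hξp : ∀ a, ξ^[p] a = a) (hfix : ∀ a, ξ a = a → a = 1)
    (hcop : (Nat.card A).Coprime p) : ∀ a w, ρ a w = w := by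
  classical
  haveI := Fintype.ofFinite A
  have hξj : ∀ (j : ℕ) (a : A), ρ (ξ^[j] a) = x ^ j * ρ a * (x ^ j)⁻¹ := by
    intro j
    induction j with
    | zero => intro a; simp
    | succ j ih =>
      intro a
      rw [Function.iterate_succ_apply', hξ, ih, pow_succ']
      group
  have hconj : ∀ (j : ℕ) (a : A), ρ a * x ^ j * (ρ a)⁻¹ = ρ (a / ξ^[j] a) * x ^ j := by
    intro j a
    rw [map_div, hξj, div_eq_mul_inv]
    group
  have hinj : ∀ j, 0 < j → j < p → Function.Injective (fun a : A => a / ξ^[j] a) := by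
    intro j hj0 hjp a b hab
    have hab' : a / ξ^[j] a = b / ξ^[j] b := hab
    have hc : ξ^[j] (a / b) = a / b := by
      rw [iterate_map_div]
      rw [div_eq_div_iff_mul_eq_mul] at hab' ⊢
      rw [mul_comm, ← hab', mul_comm]
    have h1 : Function.IsPeriodicPt ξ j (a / b) := hc
    have h2 : Function.IsPeriodicPt ξ p (a / b) := hξp _
    have h3 := h1.gcd h2
    have hcop' : Nat.gcd j p = 1 := by
      rw [Nat.gcd_comm]
      exact (Nat.Prime.coprime_iff_not_dvd hp.out).mpr (Nat.not_dvd_of_pos_of_lt hj0 hjp)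
    rw [hcop'] at h3
    have h4 : ξ (a / b) = a / b := h3
    have h5 := hfix _ h4
    exact div_eq_one.mp h5
  set ν : W → W := fun w => ∏ a : A, ρ a w with hν
  have hνinv : ∀ (b : A) (w : W), ρ b (ν w) = ν w := by
    intro b w
    simp only [hν, map_prod]
    apply Fintype.prod_equiv (Equiv.mulLeft b)
    intro a
    simp [map_mul]
  have hinner : ∀ (a : A) (w : W),
      ∏ j ∈ range (p - 1), (ρ a * x ^ (j + 1) * (ρ a)⁻¹) w = w⁻¹ := by
    intro a w
    have h1 := htr ((ρ a)⁻¹ w)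
    have h2 := congrArg (ρ a) h1
    rw [map_prod, map_one] at h2
    have hp1 : p = (p - 1) + 1 := by
      have := hp.out.one_lt; omega
    rw [hp1, prod_range_succ'] at h2
    have h3 : (ρ a) ((x ^ 0) ((ρ a)⁻¹ w)) = w := by simp
    rw [h3] at h2
    have h4 : ∀ j ∈ range (p - 1), (ρ a * x ^ (j + 1) * (ρ a)⁻¹) w =
        (ρ a) ((x ^ (j + 1)) ((ρ a)⁻¹ w)) := by
      intro j _; rfl
    rw [prod_congr rfl h4]
    exact eq_inv_of_mul_eq_one_left h2
  have houter : ∀ (j : ℕ), j < p - 1 → ∀ w : W,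
      ∏ a : A, (ρ a * x ^ (j + 1) * (ρ a)⁻¹) w = ν ((x ^ (j + 1)) w) := by
    intro j hj w
    have hb : Function.Bijective (fun a : A => a / ξ^[j + 1] a) :=
      Finite.injective_iff_bijective.mp (hinj (j + 1) (by omega) (by omega))
    have h1 : ∀ a : A, (ρ a * x ^ (j + 1) * (ρ a)⁻¹) w =
        ρ (a / ξ^[j + 1] a) ((x ^ (j + 1)) w) := by
      intro a
      rw [hconj]; rfl
    rw [Fintype.prod_congr _ _ h1]
    exact Fintype.prod_bijective _ hb _ _ (fun a => rfl)
  intro b w
  have hT : (w⁻¹) ^ Fintype.card A = ∏ j ∈ range (p - 1), ν ((x ^ (j + 1)) w) := by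
    calc (w⁻¹) ^ Fintype.card A = ∏ _a : A, w⁻¹ := by
          rw [prod_const, card_univ]
      _ = ∏ a : A, ∏ j ∈ range (p - 1), (ρ a * x ^ (j + 1) * (ρ a)⁻¹) w := by
          apply Fintype.prod_congr; intro a; rw [hinner]
      _ = ∏ j ∈ range (p - 1), ∏ a : A, (ρ a * x ^ (j + 1) * (ρ a)⁻¹) w := prod_comm
      _ = ∏ j ∈ range (p - 1), ν ((x ^ (j + 1)) w) := by
          apply prod_congr rfl
          intro j hj
          exact houter j (mem_range.mp hj) w
  have hfixT : ρ b ((w⁻¹) ^ Fintype.card A) = (w⁻¹) ^ Fintype.card A := by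
    rw [hT, map_prod]
    apply prod_congr rfl
    intro j _
    exact hνinv b _
  rw [map_pow, map_inv] at hfixT
  have hu : (ρ b w * w⁻¹) ^ Fintype.card A = 1 := by
    rw [mul_pow, inv_pow]
    rw [inv_pow, inv_pow] at hfixT
    rw [inv_inj] at hfixT
    rw [hfixT, mul_inv_cancel]
  have hu2 : (ρ b w * w⁻¹) ^ p = 1 := hexp _
  have h3 := pow_gcd_eq_one.mpr ⟨hu, hu2⟩
  rw [← Nat.card_eq_fintype_card, Nat.Coprime.gcd_eq_one hcop, pow_one] at h3
  exact mul_inv_eq_one.mp h3

/-- An abelian `p'`-group `A` acting faithfully on `W`, normalized by a trace-zero `x` with `x ^ p = 1`: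
then `x` centralizes `A`. -/
theorem tr_centralizes_hom {A : Type*} [CommGroup A] [Finite A] (hexp : ∀ w : W, w ^ p = 1)
    (x : MulAut W) (hxp : x ^ p = 1) (htr : ∀ w : W, ∏ j ∈ range p, (x ^ j) w = 1)
    (ρ : A →* MulAut W) (hρ : Function.Injective ρ) (ξ : A →* A)
    (hξ : ∀ a, ρ (ξ a) = x * ρ a * x⁻¹)
    (m : ℕ) (hm : m.Coprime p) (hAm : ∀ a : A, a ^ m = 1) : ∀ a, ξ a = a := by
  classical
  have hξj : ∀ (j : ℕ) (a : A), ρ (ξ^[j] a) = x ^ j * ρ a * (x ^ j)⁻¹ := by
    intro j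
    induction j with
    | zero => intro a; simp
    | succ j ih =>
      intro a
      rw [Function.iterate_succ_apply', hξ, ih, pow_succ']
      group
  have hξp : ∀ a, ξ^[p] a = a := by
    intro a
    apply hρ
    rw [hξj, hxp]
    simp
  set θ : A →* A := MonoidHom.id A / ξ with hθ
  have hθa : ∀ a, θ a = a / ξ a := fun a => rfl
  set A₁ : Subgroup A := θ.range with hA₁
  have hmem : ∀ b : ↥A₁, ξ (b : A) ∈ A₁ := by
    rintro ⟨_, a, rfl⟩
    refine ⟨ξ a, ?_⟩
    show θ (ξ a) = ξ (θ a)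
    rw [hθa, hθa, map_div]
  set ξ₁ : ↥A₁ →* ↥A₁ := (ξ.comp A₁.subtype).codRestrict A₁ hmem with hξ₁
  set ρ₁ : ↥A₁ →* MulAut W := ρ.comp A₁.subtype with hρ₁
  have hcoe : ∀ (j : ℕ) (b : ↥A₁), ((ξ₁^[j] b : ↥A₁) : A) = ξ^[j] (b : A) := by
    intro j
    induction j with
    | zero => intro b; rfl
    | succ j ih =>
      intro b
      rw [Function.iterate_succ_apply', Function.iterate_succ_apply', ← ih]
      rfl
  have h1 : ∀ b : ↥A₁, ρ₁ (ξ₁ b) = x * ρ₁ b * x⁻¹ := fun b => hξ (b : A)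
  have h2 : ∀ b : ↥A₁, ξ₁^[p] b = b := fun b => Subtype.ext (by rw [hcoe, hξp])
  have hpow1 : ∀ c : A, c ^ p = 1 → c = 1 := by
    intro c hc
    have h3 := pow_gcd_eq_one.mpr ⟨hAm c, hc⟩
    rwa [Nat.Coprime.gcd_eq_one hm, pow_one] at h3
  have h3 : ∀ b : ↥A₁, ξ₁ b = b → b = 1 := by
    rintro ⟨b, a, rfl⟩ hb
    have hb' : ξ (θ a) = θ a := congrArg Subtype.val hb
    apply Subtype.ext
    show θ a = 1
    apply hpow1
    have hiter : ∀ j : ℕ, ξ^[j] (θ a) = θ a := by
      intro j
      induction j with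
      | zero => rfl
      | succ j ih => rw [Function.iterate_succ_apply', ih, hb']
    have hN1 : ∏ j ∈ range p, ξ^[j] (θ a) = (θ a) ^ p := by
      rw [prod_congr rfl (fun j _ => hiter j), prod_const, card_range]
    have hN2 : ∏ j ∈ range p, ξ^[j] (θ a) = 1 := by
      have h4 : ∀ j ∈ range p, ξ^[j] (θ a) = ξ^[j] a / ξ^[j + 1] a := by
        intro j _
        rw [hθa, iterate_map_div, Function.iterate_succ_apply]
      rw [prod_congr rfl h4, prod_range_div' (fun j => ξ^[j] a) p, hξp]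
      simp
    rw [← hN1, hN2]
  have hcop : (Nat.card ↥A₁).Coprime p := by
    rw [Nat.coprime_comm, Nat.Prime.coprime_iff_not_dvd hp.out]
    intro hdvd
    obtain ⟨b, hb⟩ := exists_prime_orderOf_dvd_card' p hdvd
    have h4 : (b : A) ^ m = 1 := hAm _
    have h5 : b ^ m = 1 := Subtype.ext (by simpa using h4)
    have h6 := orderOf_dvd_of_pow_eq_one h5
    rw [hb] at h6
    have := Nat.Coprime.eq_one_of_dvd hm.symm h6
    exact hp.out.one_lt.ne' this
  have h4 := tr_fpf hexp x htr ρ₁ ξ₁ h1 h2 h3 hcop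
  intro a
  have h5 : ρ (θ a) = 1 := by
    ext w
    exact h4 ⟨θ a, a, rfl⟩ w
  have h6 : θ a = 1 := by
    apply hρ
    rw [h5, map_one]
  rw [hθa, div_eq_one] at h6
  exact h6.symm

/-- Subgroup form. -/
theorem tr_centralizes (hexp : ∀ w : W, w ^ p = 1)
    (x : MulAut W) (hxp : x ^ p = 1) (htr : ∀ w : W, ∏ j ∈ range p, (x ^ j) w = 1)
    (R : Subgroup (MulAut W)) [Finite R] (hRc : ∀ r ∈ R, ∀ s ∈ R, r * s = s * r)
    (m : ℕ) (hm : m.Coprime p) (hRm : ∀ r ∈ R, r ^ m = 1)
    (hx : ∀ r ∈ R, x * r * x⁻¹ ∈ R) : ∀ r ∈ R, x * r * x⁻¹ = r := by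
  letI : CommGroup ↥R :=
    { (inferInstance : Group ↥R) with
      mul_comm := fun a b => Subtype.ext (hRc a a.2 b b.2) }
  let ξ : ↥R →* ↥R :=
    { toFun := fun r => ⟨x * r * x⁻¹, hx r r.2⟩
      map_one' := by apply Subtype.ext; simp
      map_mul' := by intro a b; apply Subtype.ext; simp }
  have h := tr_centralizes_hom hexp x hxp htr R.subtype R.subtype_injective ξ (fun a => rfl) m hm
    (fun a => Subtype.ext (by simpa using hRm a a.2))
  intro r hr
  exact congrArg Subtype.val (h ⟨r, hr⟩)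


end Trace

end Cfsg.Agent.Helper31.GT
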