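import Mathlib
import Cfsg.Agent.Lib.Helper31.QuadAct2

set_option autoImplicit false

/-!
# Trace-zero action of an element of order `p ^ n` normalizing an abelian `p'`-group

The easy case of Hall–Higman's Theorem B: if `x` (with `x ^ (p ^ (n+1)) = 1`) acts on an abelian
group `W` of exponent `p` with `1 + x + ⋯ + x ^ (p ^ (n+1) - 1) = 0`, and normalizes an abelian
`p'`-group `R` of automorphisms of `W`, then `x ^ (p ^ n)` centralizes `R`.
-/

namespace Cfsg.Agent.Helper31.GT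

open Finset

section TraceN

variable {p : ℕ} [hp : Fact p.Prime]

variable {W : Type*} [CommGroup W]

omit hp in
/-- The fixed-point-free case for a general order `N`. -/
theorem trN_fpf {A : Type*} [CommGroup A] [Finite A] (hexp : ∀ w : W, w ^ p = 1) (N : ℕ)
    (hN : 0 < N)
    (x : MulAut W) (htr : ∀ w : W, ∏ j ∈ range N, (x ^ j) w = 1)
    (ρ : A →* MulAut W) (ξ : A →* A) (hξ : ∀ a, ρ (ξ a) = x * ρ a * x⁻¹)
    (hfix : ∀ j, 0 < j → j < N → ∀ a, ξ^[j] a = a → a = 1)
    (hcop : (Nat.card A).Coprime p) : ∀ a w, ρ a w = w := by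
  classical
  haveI := Fintype.ofFinite A
  have hξj : ∀ (j : ℕ) (a : A), ρ (ξ^[j] a) = x ^ j * ρ a * (x ^ j)⁻¹ := by
    intro j
    induction j with
    | zero => intro a; simp
    | succ j ih =>
      intro a
      rw [Function.iterate_succ_apply', hξ, ih, pow_succ']
      group
  have hconj : ∀ (j : ℕ) (a : A), ρ a * x ^ j * (ρ a)⁻¹ = ρ (a / ξ^[j] a) * x ^ j := by
    intro j a
    rw [map_div, hξj, div_eq_mul_inv]
    group
  have hinj : ∀ j, 0 < j → j < N → Function.Injective (fun a : A => a / ξ^[j] a) := by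
    intro j hj0 hjp a b hab
    have hab' : a / ξ^[j] a = b / ξ^[j] b := hab
    have hc : ξ^[j] (a / b) = a / b := by
      rw [iterate_map_div]
      rw [div_eq_div_iff_mul_eq_mul] at hab' ⊢
      rw [mul_comm, ← hab', mul_comm]
    have h5 := hfix j hj0 hjp _ hc
    exact div_eq_one.mp h5
  set ν : W → W := fun w => ∏ a : A, ρ a w with hν
  have hνinv : ∀ (b : A) (w : W), ρ b (ν w) = ν w := by
    intro b w
    simp only [hν, map_prod]
    apply Fintype.prod_equiv (Equiv.mulLeft b)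
    intro a
    simp [map_mul]
  have hinner : ∀ (a : A) (w : W),
      ∏ j ∈ range (N - 1), (ρ a * x ^ (j + 1) * (ρ a)⁻¹) w = w⁻¹ := by
    intro a w
    have h1 := htr ((ρ a)⁻¹ w)
    have h2 := congrArg (ρ a) h1
    rw [map_prod, map_one] at h2
    have hp1 : N = (N - 1) + 1 := by omega
    rw [hp1, prod_range_succ'] at h2
    have h3 : (ρ a) ((x ^ 0) ((ρ a)⁻¹ w)) = w := by simp
    rw [h3] at h2
    have h4 : ∀ j ∈ range (N - 1), (ρ a * x ^ (j + 1) * (ρ a)⁻¹) w =
        (ρ a) ((x ^ (j + 1)) ((ρ a)⁻¹ w)) := by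
      intro j _; rfl
    rw [prod_congr rfl h4]
    exact eq_inv_of_mul_eq_one_left h2
  have houter : ∀ (j : ℕ), j < N - 1 → ∀ w : W,
      ∏ a : A, (ρ a * x ^ (j + 1) * (ρ a)⁻¹) w = ν ((x ^ (j + 1)) w) := by
    intro j hj w
    have hb : Function.Bijective (fun a : A => a / ξ^[j + 1] a) :=
      Finite.injective_iff_bijective.mp (hinj (j + 1) (by omega) (by omega))
    have h1 : ∀ a : A, (ρ a * x ^ (j + 1) * (ρ a)⁻¹) w =
        ρ (a / ξ^[j + 1] a) ((x ^ (j + 1)) w) := by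
      intro a
      rw [hconj]; rfl
    rw [Fintype.prod_congr _ _ h1]
    exact Fintype.prod_bijective _ hb _ _ (fun a => rfl)
  intro b w
  have hT : (w⁻¹) ^ Fintype.card A = ∏ j ∈ range (N - 1), ν ((x ^ (j + 1)) w) := by
    calc (w⁻¹) ^ Fintype.card A = ∏ _a : A, w⁻¹ := by
          rw [prod_const, card_univ]
      _ = ∏ a : A, ∏ j ∈ range (N - 1), (ρ a * x ^ (j + 1) * (ρ a)⁻¹) w := by
          apply Fintype.prod_congr; intro a; rw [hinner]
      _ = ∏ j ∈ range (N - 1), ∏ a : A, (ρ a * x ^ (j + 1) * (ρ a)⁻¹) w := prod_comm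
      _ = ∏ j ∈ range (N - 1), ν ((x ^ (j + 1)) w) := by
          apply prod_congr rfl
          intro j hj
          exact houter j (mem_range.mp hj) w
  have hfixT : ρ b ((w⁻¹) ^ Fintype.card A) = (w⁻¹) ^ Fintype.card A := by
    rw [hT, map_prod]
    apply prod_congr rfl
    intro j _
    exact hνinv b _
  rw [map_pow, map_inv] at hfixT
  have hu : (ρ b w * w⁻¹) ^ Fintype.card A = 1 := by
    rw [mul_pow, inv_pow]
    rw [inv_pow, inv_pow] at hfixT
    rw [inv_inj] at hfixT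
    rw [hfixT, mul_inv_cancel]
  have hu2 : (ρ b w * w⁻¹) ^ p = 1 := hexp _
  have h3 := pow_gcd_eq_one.mpr ⟨hu, hu2⟩
  rw [← Nat.card_eq_fintype_card, Nat.Coprime.gcd_eq_one hcop, pow_one] at h3
  exact mul_inv_eq_one.mp h3

/-- An abelian `p'`-group `A` acting faithfully on `W`, normalized by a trace-zero `x` with
`x ^ (p ^ (n+1)) = 1`: then `x ^ (p ^ n)` centralizes `A`. -/
theorem trN_centralizes_hom {A : Type*} [CommGroup A] [Finite A] (hexp : ∀ w : W, w ^ p = 1)
    (n : ℕ) (x : MulAut W) (hxp : x ^ p ^ (n + 1) = 1)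
    (htr : ∀ w : W, ∏ j ∈ range (p ^ (n + 1)), (x ^ j) w = 1)
    (ρ : A →* MulAut W) (hρ : Function.Injective ρ) (ξ : A →* A)
    (hξ : ∀ a, ρ (ξ a) = x * ρ a * x⁻¹)
    (m : ℕ) (hm : m.Coprime p) (hAm : ∀ a : A, a ^ m = 1) : ∀ a, ξ^[p ^ n] a = a := by
  classical
  have hξj : ∀ (j : ℕ) (a : A), ρ (ξ^[j] a) = x ^ j * ρ a * (x ^ j)⁻¹ := by
    intro j
    induction j with
    | zero => intro a; simp
    | succ j ih =>
      intro a
      rw [Function.iterate_succ_apply', hξ, ih, pow_succ']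
      group
  have hξp : ∀ a, ξ^[p ^ (n + 1)] a = a := by
    intro a
    apply hρ
    rw [hξj, hxp]
    simp
  -- `η = ξ ^ (p ^ n)` as a hom
  set η : A →* A :=
    { toFun := ξ^[p ^ n]
      map_one' := iterate_map_one ξ _
      map_mul' := fun a b => iterate_map_mul ξ _ a b } with hη
  have hηa : ∀ a, η a = ξ^[p ^ n] a := fun a => rfl
  have hηiter : ∀ (i : ℕ) (a : A), η^[i] a = ξ^[p ^ n * i] a := by
    intro i
    induction i with
    | zero => intro a; simp
    | succ i ih =>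
      intro a
      rw [Function.iterate_succ_apply', ih, hηa, ← Function.iterate_add_apply]
      congr 1
      ring
  have hηp : ∀ a, η^[p] a = a := by
    intro a
    rw [hηiter, ← pow_succ, hξp]
  have hηξ : ∀ a, η (ξ a) = ξ (η a) := by
    intro a
    rw [hηa, hηa, ← Function.iterate_succ_apply, Function.iterate_succ_apply']
  set θ : A →* A := MonoidHom.id A / η with hθ
  have hθa : ∀ a, θ a = a / η a := fun a => rfl
  set A₁ : Subgroup A := θ.range with hA₁
  have hmem : ∀ b : ↥A₁, ξ (b : A) ∈ A₁ := by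
    rintro ⟨_, a, rfl⟩
    refine ⟨ξ a, ?_⟩
    show θ (ξ a) = ξ (θ a)
    rw [hθa, hθa, map_div, hηξ]
  set ξ₁ : ↥A₁ →* ↥A₁ := (ξ.comp A₁.subtype).codRestrict A₁ hmem with hξ₁
  set ρ₁ : ↥A₁ →* MulAut W := ρ.comp A₁.subtype with hρ₁
  have hcoe : ∀ (j : ℕ) (b : ↥A₁), ((ξ₁^[j] b : ↥A₁) : A) = ξ^[j] (b : A) := by
    intro j
    induction j with
    | zero => intro b; rfl
    | succ j ih =>
      intro b
      rw [Function.iterate_succ_apply', Function.iterate_succ_apply', ← ih]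
      rfl
  have h1 : ∀ b : ↥A₁, ρ₁ (ξ₁ b) = x * ρ₁ b * x⁻¹ := fun b => hξ (b : A)
  have hpow1 : ∀ c : A, c ^ p = 1 → c = 1 := by
    intro c hc
    have h3 := pow_gcd_eq_one.mpr ⟨hAm c, hc⟩
    rwa [Nat.Coprime.gcd_eq_one hm, pow_one] at h3
  -- elements of `A₁` fixed by `η` are trivial
  have hηfix : ∀ a : A, η (θ a) = θ a → θ a = 1 := by
    intro a hb'
    apply hpow1
    have hiter : ∀ j : ℕ, η^[j] (θ a) = θ a := by
      intro j
      induction j with
      | zero => rfl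
      | succ j ih => rw [Function.iterate_succ_apply', ih, hb']
    have hN1 : ∏ j ∈ range p, η^[j] (θ a) = (θ a) ^ p := by
      rw [prod_congr rfl (fun j _ => hiter j), prod_const, card_range]
    have hN2 : ∏ j ∈ range p, η^[j] (θ a) = 1 := by
      have h4 : ∀ j ∈ range p, η^[j] (θ a) = η^[j] a / η^[j + 1] a := by
        intro j _
        rw [hθa, iterate_map_div, Function.iterate_succ_apply]
      rw [prod_congr rfl h4, prod_range_div' (fun j => η^[j] a) p, hηp]
      simp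
    rw [← hN1, hN2]
  have h3 : ∀ j, 0 < j → j < p ^ (n + 1) → ∀ b : ↥A₁, ξ₁^[j] b = b → b = 1 := by
    rintro j hj0 hjN ⟨b, a, rfl⟩ hb
    have hb' : ξ^[j] (θ a) = θ a := by
      have := congrArg Subtype.val hb
      rwa [hcoe] at this
    apply Subtype.ext
    show θ a = 1
    apply hηfix
    have hp1 : Function.IsPeriodicPt ξ j (θ a) := hb'
    have hp2 : Function.IsPeriodicPt ξ (p ^ (n + 1)) (θ a) := hξp _
    have hp3 := hp1.gcd hp2
    -- `gcd j (p^(n+1))` divides `p ^ n`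
    have hdvd : Nat.gcd j (p ^ (n + 1)) ∣ p ^ n := by
      obtain ⟨k, hk, hgk⟩ := (Nat.dvd_prime_pow hp.out).mp (Nat.gcd_dvd_right j (p ^ (n + 1)))
      rw [hgk]
      apply pow_dvd_pow
      by_contra hlt
      have hk' : k = n + 1 := by omega
      rw [hk'] at hgk
      have h5 : p ^ (n + 1) ∣ j := by rw [← hgk]; exact Nat.gcd_dvd_left _ _
      exact absurd (Nat.le_of_dvd hj0 h5) (by omega)
    obtain ⟨c, hc⟩ := hdvd
    have hp4 : Function.IsPeriodicPt ξ (p ^ n) (θ a) := by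
      rw [hc]
      exact hp3.mul_const c
    rw [hηa]
    exact hp4
  have hcop : (Nat.card ↥A₁).Coprime p := by
    rw [Nat.coprime_comm, Nat.Prime.coprime_iff_not_dvd hp.out]
    intro hdvd
    obtain ⟨b, hb⟩ := exists_prime_orderOf_dvd_card' p hdvd
    have h4 : (b : A) ^ m = 1 := hAm _
    have h5 : b ^ m = 1 := Subtype.ext (by simpa using h4)
    have h6 := orderOf_dvd_of_pow_eq_one h5
    rw [hb] at h6
    have := Nat.Coprime.eq_one_of_dvd hm.symm h6
    exact hp.out.one_lt.ne' this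
  have h4 := trN_fpf hexp (p ^ (n + 1)) (pow_pos hp.out.pos _) x htr ρ₁ ξ₁ h1 h3 hcop
  intro a
  have h5 : ρ (θ a) = 1 := by
    ext w
    exact h4 ⟨θ a, a, rfl⟩ w
  have h6 : θ a = 1 := by
    apply hρ
    rw [h5, map_one]
  rw [hθa, div_eq_one] at h6
  rw [← hηa]
  exact h6.symm

/-- Subgroup form. -/
theorem trN_centralizes (hexp : ∀ w : W, w ^ p = 1) (n : ℕ)
    (x : MulAut W) (hxp : x ^ p ^ (n + 1) = 1)
    (htr : ∀ w : W, ∏ j ∈ range (p ^ (n + 1)), (x ^ j) w = 1)
    (R : Subgroup (MulAut W)) [Finite R] (hRc : ∀ r ∈ R, ∀ s ∈ R, r * s = s * r)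
    (m : ℕ) (hm : m.Coprime p) (hRm : ∀ r ∈ R, r ^ m = 1)
    (hx : ∀ r ∈ R, x * r * x⁻¹ ∈ R) : ∀ r ∈ R, x ^ p ^ n * r * (x ^ p ^ n)⁻¹ = r := by
  letI : CommGroup ↥R :=
    { (inferInstance : Group ↥R) with
      mul_comm := fun a b => Subtype.ext (hRc a a.2 b b.2) }
  let ξ : ↥R →* ↥R :=
    { toFun := fun r => ⟨x * r * x⁻¹, hx r r.2⟩
      map_one' := by apply Subtype.ext; simp
      map_mul' := by intro a b; apply Subtype.ext; simp }
  have h := trN_centralizes_hom hexp n x hxp htr R.subtype R.subtype_injective ξ (fun a => rfl) m hm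
    (fun a => Subtype.ext (by simpa using hRm a a.2))
  have hiter : ∀ (j : ℕ) (r : ↥R), ((ξ^[j] r : ↥R) : MulAut W) = x ^ j * r * (x ^ j)⁻¹ := by
    intro j
    induction j with
    | zero => intro r; simp
    | succ j ih =>
      intro r
      rw [Function.iterate_succ_apply']
      show x * ((ξ^[j] r : ↥R) : MulAut W) * x⁻¹ = _
      rw [ih, pow_succ']
      group
  intro r hr
  have := congrArg Subtype.val (h ⟨r, hr⟩)
  rw [hiter] at this
  exact this

end TraceN

end Cfsg.Agent.Helper31.GT
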