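import Mathlib
import Cfsg.Prelude.Def_Local
import Cfsg.Agent.Lib.Helper31.QuadAct3
import Cfsg.Agent.Lib.Helper31.GTStable
import Cfsg.Agent.Lib.Helper24.HH125
import Cfsg.Agent.Lib.Helper10.PSolvDual
import Cfsg.Agent.Lib.Helper76.SylowNorm
import Cfsg.Agent.Lib.Helper76.PSolvable
import Cfsg.Agent.Lib.Helper63.PLen
import Cfsg.Agent.S0635
import Cfsg.Agent.S4208

set_option autoImplicit false
set_option linter.style.haveILetI false

/-!
# Hall–Higman: `p`-length at most the exponent of a Sylow `p`-subgroup, abelian Sylow `q`-subgroups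

For a finite `p`-soluble group whose Sylow `q`-subgroups (`q ≠ p`) are abelian and whose
`p`-elements satisfy `x ^ (p ^ n) = 1`, the `p`-length is at most `n`.
-/

namespace Cfsg.Agent.Helper31.HHB

open Cfsg Cfsg.Agent.Helper31.GT Cfsg.Agent.Helper63

universe u

variable {G : Type*} [Group G]

/-- The Sylow `q`-subgroups are abelian for all primes `q ≠ p`. -/
def AbSyl (p : ℕ) (G : Type*) [Group G] : Prop :=
  ∀ (q : ℕ) [Fact q.Prime], q ≠ p → ∀ Q : Sylow q G,
    ∀ a ∈ (Q : Subgroup G), ∀ b ∈ (Q : Subgroup G), a * b = b * a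

/-- All `p`-elements have order dividing `p ^ n`. -/
def ExpLE (p n : ℕ) (G : Type*) [Group G] : Prop :=
  ∀ x : G, (∃ k : ℕ, x ^ p ^ k = 1) → x ^ p ^ n = 1

theorem AbSyl.quotient [Finite G] {p : ℕ} (h : AbSyl p G) (N : Subgroup G) [N.Normal] :
    AbSyl p (G ⧸ N) := by
  intro q hq hqp Q'
  obtain ⟨Q, rfl⟩ := Sylow.mapSurjective_surjective (QuotientGroup.mk'_surjective N) q Q'
  intro a ha b hb
  rw [Sylow.coe_mapSurjective] at ha hb
  obtain ⟨a, ha, rfl⟩ := ha
  obtain ⟨b, hb, rfl⟩ := hb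
  rw [← map_mul, ← map_mul, h q hqp Q a ha b hb]

theorem AbSyl.comm_of_isPGroup {p : ℕ} (h : AbSyl p G) (q : ℕ) [Fact q.Prime] (hqp : q ≠ p)
    (Q : Subgroup G) (hQ : IsPGroup q Q) : ∀ a ∈ Q, ∀ b ∈ Q, a * b = b * a := by
  obtain ⟨S, hS⟩ := hQ.exists_le_sylow
  intro a ha b hb
  exact h q hqp S a (hS ha) b (hS hb)

theorem ExpLE.quotient [Finite G] {p n : ℕ} [hp : Fact p.Prime] (h : ExpLE p n G) (N : Subgroup G)
    [N.Normal] : ExpLE p n (G ⧸ N) := by
  intro x' ⟨k, hk⟩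
  have h1 : orderOf x' ∣ p ^ k := orderOf_dvd_of_pow_eq_one hk
  obtain ⟨j, _, hj⟩ := (Nat.dvd_prime_pow hp.out).mp h1
  obtain ⟨x, rfl, k', hk'⟩ := Cfsg.Agent.Helper76.exists_primePow_lift p (QuotientGroup.mk' N)
    (QuotientGroup.mk'_surjective N) x' ⟨j, hj⟩
  rw [← map_pow, h x ⟨k', by rw [← hk']; exact pow_orderOf_eq_one x⟩, map_one]

/-- The core step: a faithful action on an elementary abelian `p`-group with trace zero. -/
theorem thmB_core {H : Type*} [Group H] [Finite H] {p : ℕ} [hp : Fact p.Prime]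
    (hsol : IsPSolvable p H) (hO : pCore p H = ⊥) (hab : AbSyl p H)
    {W : Type*} [CommGroup W] (hexp : ∀ w : W, w ^ p = 1)
    (ψ : H →* MulAut W) (hψ : Function.Injective ψ) (n : ℕ) (x : H)
    (hx : x ^ p ^ (n + 1) = 1)
    (htr : ∀ w : W, ∏ j ∈ Finset.range (p ^ (n + 1)), ((ψ x) ^ j) w = 1) :
    x ^ p ^ n = 1 := by
  set K := pPrimeCore p H with hK
  haveI hKn : K.Normal := inferInstance
  have hKcop : (Nat.card K).Coprime p := Cfsg.Agent.Helper55.pPrimeCore_coprime p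
  have hpK : ¬ p ∣ Nat.card K := by
    intro hd
    have := Nat.Coprime.eq_one_of_dvd hKcop.symm hd
    exact hp.out.one_lt.ne' this
  have hCK : Subgroup.centralizer (K : Set H) ≤ K :=
    Cfsg.Agent.Helper10.centralizer_pPrimeCore_le_of_isPSolvable hsol hO
  set y := x ^ p ^ n with hy
  have hA : IsPGroup p (Subgroup.zpowers x) := by
    rintro ⟨g, hg⟩
    obtain ⟨k, rfl⟩ := Subgroup.mem_zpowers_iff.mp hg
    refine ⟨n + 1, ?_⟩
    apply Subtype.ext
    rw [Subgroup.coe_pow]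
    show (x ^ k) ^ p ^ (n + 1) = 1
    rw [← zpow_natCast, ← zpow_mul, mul_comm, zpow_mul, zpow_natCast, hx, one_zpow]
  have hkey : ∀ (q : ℕ) [Fact q.Prime], q ≠ p → ∃ S : Sylow q K,
      (S : Subgroup K).map K.subtype ≤ Subgroup.centralizer ({y} : Set H) := by
    intro q hq hqp
    obtain ⟨S, hS⟩ := Cfsg.Agent.Helper76.exists_invariant_sylow K q p hpK (Subgroup.zpowers x) hA
    refine ⟨S, ?_⟩
    set Q' := (S : Subgroup K).map K.subtype with hQ'
    have hxN : x ∈ Subgroup.normalizer (Q' : Set H) :=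
      (Cfsg.Agent.Helper76.mem_normalizer_map_subtype_iff K q x S).mpr
        (hS x (Subgroup.mem_zpowers x))
    have hQ'q : IsPGroup q Q' := S.isPGroup'.map _
    have hQ'c := hab.comm_of_isPGroup q hqp Q' hQ'q
    have hQ'K : Q' ≤ K := Subgroup.map_subtype_le _
    set R := Q'.map ψ with hR
    haveI : Finite ↥R := by
      show Finite ↥(ψ '' (Q' : Set H))
      infer_instance
    have hRc : ∀ r ∈ R, ∀ s ∈ R, r * s = s * r := by
      rintro _ ⟨a, ha, rfl⟩ _ ⟨b, hb, rfl⟩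
      rw [← map_mul, ← map_mul, hQ'c a ha b hb]
    have hRm : ∀ r ∈ R, r ^ Nat.card K = 1 := by
      rintro _ ⟨a, ha, rfl⟩
      rw [← map_pow]
      have h1 : (⟨a, hQ'K ha⟩ : ↥K) ^ Nat.card ↥K = 1 := pow_card_eq_one'
      have h2 := congrArg Subtype.val h1
      rw [Subgroup.coe_pow] at h2
      rw [show a ^ Nat.card ↥K = 1 from h2, map_one]
    have hxR : ∀ r ∈ R, ψ x * r * (ψ x)⁻¹ ∈ R := by
      rintro _ ⟨a, ha, rfl⟩
      refine ⟨x * a * x⁻¹, (Subgroup.mem_normalizer_iff.mp hxN a).mp ha, ?_⟩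
      rw [map_mul, map_mul, map_inv]
    have hxp : (ψ x) ^ p ^ (n + 1) = 1 := by rw [← map_pow, hx, map_one]
    have h4 := trN_centralizes hexp n (ψ x) hxp htr R hRc (Nat.card K) hKcop hRm hxR
    intro a ha
    rw [Subgroup.mem_centralizer_singleton_iff]
    have h5 := h4 (ψ a) (Subgroup.mem_map_of_mem _ ha)
    rw [← map_pow, ← map_inv, ← map_mul, ← map_mul] at h5
    have h6 := hψ h5
    calc a * y = (y * a * y⁻¹) * y := by rw [h6]
      _ = y * a := by group
  set M := K ⊓ Subgroup.centralizer ({y} : Set H) with hM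
  have hdvd : Nat.card K ∣ Nat.card M := by
    rw [← Nat.factorization_prime_le_iff_dvd Nat.card_pos.ne' Nat.card_pos.ne']
    intro q hq
    by_cases hqp : q = p
    · rw [hqp, Nat.factorization_eq_zero_of_not_dvd hpK]
      exact Nat.zero_le _
    · haveI : Fact q.Prime := ⟨hq⟩
      obtain ⟨S, hS⟩ := hkey q hqp
      have h1 : Nat.card ((S : Subgroup K).map K.subtype) = q ^ (Nat.card K).factorization q := by
        rw [← Sylow.card_eq_multiplicity S]
        exact (Nat.card_congr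
          (Subgroup.equivMapOfInjective _ K.subtype K.subtype_injective).toEquiv).symm
      have h2 : (S : Subgroup K).map K.subtype ≤ M := le_inf (Subgroup.map_subtype_le _) hS
      have h3 := Subgroup.card_dvd_of_le h2
      rw [h1] at h3
      exact (Nat.Prime.pow_dvd_iff_le_factorization hq Nat.card_pos.ne').mp h3
  have hMK : M = K :=
    Subgroup.eq_of_le_of_card_ge inf_le_left (Nat.le_of_dvd Nat.card_pos hdvd)
  have hyC : y ∈ Subgroup.centralizer (K : Set H) := by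
    rw [Subgroup.mem_centralizer_iff]
    intro k hk
    have hkM : k ∈ M := by rw [hMK]; exact hk
    exact Subgroup.mem_centralizer_singleton_iff.mp hkM.2
  have hyK : y ∈ K := hCK hyC
  have hyp : y ^ p ^ 1 = 1 := by
    rw [hy, ← pow_mul, pow_one, ← pow_succ]
    exact hx
  exact Cfsg.Agent.Helper10.eq_one_of_pow_prime_pow_eq_one_of_coprime hKcop hyK hyp

theorem pCore_quot_pCore_eq_bot (p : ℕ) [Fact p.Prime] : pCore p (G ⧸ pCore p G) = ⊥ := by
  have hNn : ((pCore p (G ⧸ pCore p G)).comap (QuotientGroup.mk' (pCore p G))).Normal :=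
    inferInstance
  have hNp : IsPGroup p ((pCore p (G ⧸ pCore p G)).comap (QuotientGroup.mk' (pCore p G))) := by
    intro x
    have hx : QuotientGroup.mk' (pCore p G) (x : G) ∈ pCore p (G ⧸ pCore p G) := x.2
    obtain ⟨k, hk⟩ := (Cfsg.Agent.Helper55.isPGroup_pCore (G := G ⧸ pCore p G) (p := p)) ⟨_, hx⟩
    have hk' : (QuotientGroup.mk' (pCore p G) (x : G)) ^ (p ^ k) = 1 := by
      have := congrArg Subtype.val hk
      simpa using this
    rw [← map_pow, QuotientGroup.mk'_apply, QuotientGroup.eq_one_iff] at hk'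
    obtain ⟨j, hj⟩ := (Cfsg.Agent.Helper55.isPGroup_pCore (G := G) (p := p)) ⟨_, hk'⟩
    have hj' : ((x : G) ^ (p ^ k)) ^ (p ^ j) = 1 := by
      have := congrArg Subtype.val hj
      simpa using this
    refine ⟨k + j, ?_⟩
    apply Subtype.ext
    rw [Subgroup.coe_pow, pow_add, pow_mul, hj']
    rfl
  have hle := Cfsg.Agent.Helper55.le_pCore hNn hNp
  rw [eq_bot_iff]
  intro q hq
  obtain ⟨g, rfl⟩ := QuotientGroup.mk_surjective q
  have hg : g ∈ (pCore p (G ⧸ pCore p G)).comap (QuotientGroup.mk' (pCore p G)) := hq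
  rw [Subgroup.mem_bot]
  exact (QuotientGroup.eq_one_iff g).mpr (hle hg)

/-- In a `p`-soluble group with `O_{p'} = 1`, abelian Sylow `q`-subgroups (`q ≠ p`) and `p`-exponent
`p ^ (n+1)`, the `p ^ n`-th power of every `p`-element lies in `O_p`. -/
theorem pow_mem_pCore [Finite G] {p : ℕ} [hp : Fact p.Prime]
    (hsol : IsPSolvable p G) (hcore : pPrimeCore p G = ⊥) (hab : AbSyl p G) (n : ℕ)
    (hexp : ExpLE p (n + 1) G) (x : G) (hx : ∃ k : ℕ, x ^ p ^ k = 1) :
    x ^ p ^ n ∈ pCore p G := by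
  set P₁ := pCore p G with hP₁
  haveI hPn : P₁.Normal := Cfsg.pCore_normal p G
  have hPp : IsPGroup p P₁ := Cfsg.Agent.Helper55.isPGroup_pCore
  set Φ := (frattini ↥P₁).map P₁.subtype with hΦ
  haveI hΦn : Φ.Normal := by
    rw [← Subgroup.normalizer_eq_top_iff, eq_top_iff]
    have h1 := Cfsg.Agent.Helper24.normalizer_le_normalizer_map_subtype_of_characteristic P₁
      (frattini ↥P₁)
    rw [Subgroup.normalizer_eq_top_iff.mpr hPn] at h1
    exact h1
  obtain ⟨hfc, hfe⟩ := Cfsg.Agent.S4208.frattini_quot_props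
    (IsPGroup.of_equiv hPp (MulEquiv.refl _) : IsPGroup p ↥P₁)
  have hΦ1 : ∀ u ∈ P₁, ∀ v ∈ P₁, u * v * u⁻¹ * v⁻¹ ∈ Φ := by
    intro u hu v hv
    refine ⟨⟨u, hu⟩ * ⟨v, hv⟩ * ⟨u, hu⟩⁻¹ * ⟨v, hv⟩⁻¹, ?_, rfl⟩
    rw [SetLike.mem_coe, ← QuotientGroup.eq_one_iff, QuotientGroup.mk_mul, QuotientGroup.mk_mul,
      QuotientGroup.mk_mul, QuotientGroup.mk_inv, QuotientGroup.mk_inv,
      hfc (⟨u, hu⟩ : ↥P₁) (⟨v, hv⟩ : ↥P₁)]
    group
  have hΦ2 : ∀ v ∈ P₁, v ^ p ∈ Φ := by
    intro v hv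
    refine ⟨⟨v, hv⟩ ^ p, ?_, rfl⟩
    rw [SetLike.mem_coe, ← QuotientGroup.eq_one_iff, QuotientGroup.mk_pow]
    exact hfe _
  set mk := QuotientGroup.mk' Φ with hmk
  have hmk1 : ∀ g : G, mk g = 1 ↔ g ∈ Φ := fun g => QuotientGroup.eq_one_iff g
  set φ := secAct P₁ Φ with hφ
  have hUcomm : ∀ u u' : ↥(P₁.map mk), u * u' = u' * u := by
    rintro ⟨_, v, hv, rfl⟩ ⟨_, v', hv', rfl⟩
    apply Subtype.ext
    show mk v * mk v' = mk v' * mk v
    have h3 := (hmk1 _).mpr (hΦ1 v hv v' hv')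
    rw [map_mul, map_mul, map_mul, map_inv, map_inv] at h3
    calc mk v * mk v' = (mk v * mk v' * (mk v)⁻¹ * (mk v')⁻¹) * (mk v' * mk v) := by group
      _ = mk v' * mk v := by rw [h3, one_mul]
  letI : CommGroup ↥(P₁.map mk) :=
    { (inferInstance : Group ↥(P₁.map mk)) with mul_comm := hUcomm }
  have hWexp : ∀ w : ↥(P₁.map mk), w ^ p = 1 := by
    rintro ⟨_, v, hv, rfl⟩
    apply Subtype.ext
    show (mk v) ^ p = 1
    rw [← map_pow]
    exact (hmk1 _).mpr (hΦ2 v hv)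
  have hPker : P₁ ≤ φ.ker := fun g hg =>
    (mem_ker_secAct P₁ Φ g).mpr (fun v hv => hΦ1 g hg v hv)
  have hkerP : φ.ker ≤ P₁ := fun g hg =>
    Cfsg.Agent.Helper24.mem_pCore_of_commutator_mem_frattini hsol hcore g
      ((mem_ker_secAct P₁ Φ g).mp hg)
  set ψ : G ⧸ P₁ →* MulAut ↥(P₁.map mk) := QuotientGroup.lift P₁ φ hPker with hψ
  have hψinj : Function.Injective ψ := by
    rw [injective_iff_map_eq_one]
    intro g' hg'
    obtain ⟨g, rfl⟩ := QuotientGroup.mk_surjective g'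
    have h1 : φ g = 1 := hg'
    exact (QuotientGroup.eq_one_iff g).mpr (hkerP (MonoidHom.mem_ker.mpr h1))
  have hsolH : IsPSolvable p (G ⧸ P₁) := Cfsg.Agent.Helper76.IsPSolvable.quotient hsol P₁
  have hOH : pCore p (G ⧸ P₁) = ⊥ := pCore_quot_pCore_eq_bot p
  have habH : AbSyl p (G ⧸ P₁) := hab.quotient P₁
  have hxN : x ^ p ^ (n + 1) = 1 := hexp x hx
  have hxb : (QuotientGroup.mk' P₁ x) ^ p ^ (n + 1) = 1 := by rw [← map_pow, hxN, map_one]
  -- the trace condition
  have htr : ∀ w : ↥(P₁.map mk),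
      ∏ j ∈ Finset.range (p ^ (n + 1)), ((ψ (QuotientGroup.mk' P₁ x)) ^ j) w = 1 := by
    rintro ⟨_, v, hv, rfl⟩
    have hψx : ψ (QuotientGroup.mk' P₁ x) = φ x := rfl
    rw [hψx]
    have hind : ∀ m : ℕ, ((∏ j ∈ Finset.range m,
        ((φ x) ^ j) (⟨mk v, Subgroup.mem_map_of_mem _ hv⟩ : ↥(P₁.map mk)) : ↥(P₁.map mk)) : G ⧸ Φ) =
        mk ((v * x) ^ m * (x ^ m)⁻¹) := by
      intro m
      induction m with
      | zero => simp
      | succ m ih =>
        rw [Finset.prod_range_succ]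
        have hmul : ∀ a b : ↥(P₁.map mk), ((a * b : ↥(P₁.map mk)) : G ⧸ Φ) = (a : G ⧸ Φ) * b :=
          fun a b => rfl
        rw [hmul, ih, ← map_pow, secAct_apply_coe]
        show mk ((v * x) ^ m * (x ^ m)⁻¹) * (mk (x ^ m) * mk v * (mk (x ^ m))⁻¹) = _
        rw [← map_inv, ← map_mul, ← map_mul, ← map_mul]
        congr 1
        rw [pow_succ, pow_succ]
        group
    apply Subtype.ext
    rw [hind]
    have hvx : ∃ k : ℕ, (v * x) ^ p ^ k = 1 := by
      have hZ : IsPGroup p (Subgroup.zpowers x) := by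
        obtain ⟨k, hk⟩ := hx
        rintro ⟨g, hg⟩
        obtain ⟨i, rfl⟩ := Subgroup.mem_zpowers_iff.mp hg
        refine ⟨k, ?_⟩
        apply Subtype.ext
        rw [Subgroup.coe_pow]
        show (x ^ i) ^ p ^ k = 1
        rw [← zpow_natCast, ← zpow_mul, mul_comm, zpow_mul, zpow_natCast, hk, one_zpow]
      have hsup : IsPGroup p (P₁ ⊔ Subgroup.zpowers x : Subgroup G) :=
        IsPGroup.to_sup_of_normal_left hPp hZ
      have hmem : v * x ∈ P₁ ⊔ Subgroup.zpowers x :=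
        Subgroup.mul_mem _ (Subgroup.mem_sup_left hv)
          (Subgroup.mem_sup_right (Subgroup.mem_zpowers x))
      obtain ⟨k, hk⟩ := hsup ⟨v * x, hmem⟩
      refine ⟨k, ?_⟩
      have := congrArg Subtype.val hk
      rwa [Subgroup.coe_pow] at this
    rw [hexp (v * x) hvx, hxN]
    simp
  have hfin := thmB_core hsolH hOH habH hWexp ψ hψinj n (QuotientGroup.mk' P₁ x) hxb htr
  rw [← map_pow] at hfin
  exact (QuotientGroup.eq_one_iff _).mp hfin

/-- The `p ^ n`-th power of every `p`-element lies in `O_{p',p}`. -/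
theorem pow_mem_pPrimePCore [Finite G] {p : ℕ} [hp : Fact p.Prime]
    (hsol : IsPSolvable p G) (hab : AbSyl p G) (n : ℕ)
    (hexp : ExpLE p (n + 1) G) (x : G) (hx : ∃ k : ℕ, x ^ p ^ k = 1) :
    x ^ p ^ n ∈ pPrimePCore p G := by
  show QuotientGroup.mk' (pPrimeCore p G) (x ^ p ^ n) ∈ pCore p (G ⧸ pPrimeCore p G)
  have hsol' : IsPSolvable p (G ⧸ pPrimeCore p G) :=
    Cfsg.Agent.Helper76.IsPSolvable.quotient hsol _
  have hbot : pPrimeCore p (G ⧸ pPrimeCore p G) = ⊥ :=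
    Cfsg.Agent.Helper55.pPrimeCore_quotient_eq_bot p
  rw [map_pow]
  apply pow_mem_pCore hsol' hbot (hab.quotient _) n (hexp.quotient _)
  obtain ⟨k, hk⟩ := hx
  exact ⟨k, by rw [← map_pow, hk, map_one]⟩

theorem main {p : ℕ} [hp : Fact p.Prime] : ∀ n : ℕ, ∀ (G : Type u) [Group G] [Finite G],
    IsPSolvable p G → AbSyl p G → ExpLE p n G → PL p n (⊥ : Subgroup G) ⊤ := by
  intro n
  induction n with
  | zero =>
    intro G _ _ _ _ hexp
    refine PL.base _ _ bot_le inferInstance inferInstance ?_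
    rw [Subgroup.relIndex_bot_left]
    have h3 : Nat.card ↥(⊤ : Subgroup G) = Nat.card G := Nat.card_congr Subgroup.topEquiv.toEquiv
    rw [h3, Nat.coprime_comm, Nat.Prime.coprime_iff_not_dvd hp.out]
    intro hd
    obtain ⟨g, hg⟩ := exists_prime_orderOf_dvd_card' p hd
    have h1 : g ^ p ^ 0 = 1 := hexp g ⟨1, by rw [pow_one, ← hg]; exact pow_orderOf_eq_one g⟩
    rw [pow_zero, pow_one] at h1
    rw [h1, orderOf_one] at hg
    exact hp.out.one_lt.ne' hg.symm
  | succ k ih =>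
    intro G _ _ hsol hab hexp
    have hKn : (pPrimeCore p G).Normal := inferInstance
    have hNn : (pPrimePCore p G).Normal := inferInstance
    have hKN : pPrimeCore p G ≤ pPrimePCore p G := le_comap_mk'_self _ _
    have hc1 : PL p 1 (⊥ : Subgroup G) (pPrimePCore p G) := by
      refine PL.step 0 ⊥ (pPrimeCore p G) (pPrimePCore p G) (pPrimePCore p G)
        (PL.base _ _ bot_le inferInstance hKn ?_) hKN le_rfl hNn hNn ?_ ?_
      · rw [Subgroup.relIndex_bot_left]; exact Cfsg.Agent.Helper55.pPrimeCore_coprime p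
      · have h1 : (pPrimeCore p G).relIndex (pPrimePCore p G) =
            Nat.card (pCore p (G ⧸ pPrimeCore p G)) := relIndex_comap_mk' _ _
        rw [h1]
        exact IsPGroup.iff_card.mp Cfsg.Agent.Helper55.isPGroup_pCore
      · simp
    have hsol' : IsPSolvable p (G ⧸ pPrimePCore p G) :=
      Cfsg.Agent.Helper76.IsPSolvable.quotient hsol _
    have hexp' : ExpLE p k (G ⧸ pPrimePCore p G) := by
      intro x' ⟨j, hj⟩
      have h1 : orderOf x' ∣ p ^ j := orderOf_dvd_of_pow_eq_one hj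
      obtain ⟨i, _, hi⟩ := (Nat.dvd_prime_pow hp.out).mp h1
      obtain ⟨x, rfl, k', hk'⟩ := Cfsg.Agent.Helper76.exists_primePow_lift p
        (QuotientGroup.mk' (pPrimePCore p G)) (QuotientGroup.mk'_surjective _) x' ⟨i, hi⟩
      rw [← map_pow]
      exact (QuotientGroup.eq_one_iff _).mpr (pow_mem_pPrimePCore hsol hab k hexp x
        ⟨k', by rw [← hk']; exact pow_orderOf_eq_one x⟩)
    have hc2 := ih (G ⧸ pPrimePCore p G) hsol' (hab.quotient _) hexp'
    have hc3 := Cfsg.Agent.S0635.PL_comap (pPrimePCore p G) hc2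
    rw [MonoidHom.comap_bot, QuotientGroup.ker_mk', Subgroup.comap_top] at hc3
    have hc4 := hc1.trans hc3
    rw [Nat.add_comm] at hc4
    exact hc4

end Cfsg.Agent.Helper31.HHB
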