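import Mathlib
import Cfsg.Prelude.Def_Local
import Cfsg.Agent.Lib.Helper31.HHB
import Cfsg.Agent.Lib.Helper48.WreathHHP

set_option autoImplicit false

/-!
# The Hall–Higman bound `l_p ≤ 2 e_p` (S3786): intermediate statements

The "two-step" argument: if `k₁, k₂` are elements of a `p`-group `T` (`p` odd) acting on a `p'`-group `N`
and both are *ab-deficient* (the top power `k ^ p ^ l` centralises every `k`-invariant abelian subgroup
of `N`), then the commutator of the top powers centralises `N`.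
-/

namespace Cfsg.Agent.Helper31.H2

open Cfsg

universe u

/-- The commutator `a b a⁻¹ b⁻¹` of two elements. -/
def cmt {H : Type*} [Group H] (a b : H) : H := a * b * a⁻¹ * b⁻¹

/-- The Sylow `2`-subgroups are abelian. -/
def Ab2 (G : Type*) [Group G] : Prop :=
  ∀ Q : Sylow 2 G, ∀ a ∈ (Q : Subgroup G), ∀ b ∈ (Q : Subgroup G), a * b = b * a

/-- The non-exceptional hypothesis of part (a). -/
def NE (p : ℕ) (G : Type*) [Group G] : Prop := (¬ ∃ k : ℕ, p = 2 ^ k + 1) ∨ Ab2 G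

/-- `k` is ab-deficient of level `l` on `N`: `k ^ p ^ l` centralises every abelian subgroup of `N`
normalised by `k`. -/
def AbDef {H : Type*} [Group H] (p : ℕ) (N : Subgroup H) (k : H) (l : ℕ) : Prop :=
  ∀ X : Subgroup H, X ≤ N → (∀ a ∈ X, ∀ b ∈ X, a * b = b * a) → (∀ a ∈ X, k * a * k⁻¹ ∈ X) →
    ∀ a ∈ X, k ^ p ^ l * a = a * k ^ p ^ l

/-- The inductive statement: two ab-deficient elements of a `p`-group have top powers whose commutator
centralises `N`. -/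
def IndStmt.{v} (p s : ℕ) : Prop :=
  ∀ (H : Type v) [Group H] [Finite H] (T N : Subgroup H) (k₁ k₂ : H) (l₁ l₂ : ℕ),
    l₁ + l₂ ≤ s → IsPGroup p T → (Nat.card N).Coprime p → k₁ ∈ T → k₂ ∈ T →
    (∀ g ∈ N, k₁ * g * k₁⁻¹ ∈ N) → (∀ g ∈ N, k₂ * g * k₂⁻¹ ∈ N) →
    k₁ ^ p ^ (l₁ + 1) = 1 → k₂ ^ p ^ (l₂ + 1) = 1 → AbDef p N k₁ l₁ → AbDef p N k₂ l₂ →
    ∀ g ∈ N, cmt (k₁ ^ p ^ l₁) (k₂ ^ p ^ l₂) * g = g * cmt (k₁ ^ p ^ l₁) (k₂ ^ p ^ l₂)

/-- The Frattini-quotient action of a group with `O_{p'} = 1` (statement of piece (S2)). -/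
def SetupUp.{v} (p : ℕ) : Prop :=
  ∀ (G : Type v) [Group G] [Finite G], IsPSolvable p G → pPrimeCore p G = ⊥ →
    ∃ (W : Type v) (_ : CommGroup W) (_ : Finite W) (φ : G →* MulAut W) (cls : ↥(pCore p G) →* W),
      (∀ w : W, w ^ p = 1) ∧ φ.ker = pCore p G ∧ Function.Surjective cls ∧
      ∀ (g : G) (v : ↥(pCore p G)),
        φ g (cls v) = cls ⟨g * v * g⁻¹, (Cfsg.pCore_normal p G).conj_mem _ v.2 g⟩

/-- The minimal configuration: `R₁ < R`, both `B`-invariant, `R₁` central in `R` and containing the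
commutators of `R`, and no `B`-invariant subgroup strictly between `R₁` and `R`. -/
structure MinCfg {H : Type*} [Group H] (B R R₁ : Subgroup H) : Prop where
  le : R₁ ≤ R
  ne : R₁ ≠ R
  invR : ∀ b ∈ B, ∀ g ∈ R, b * g * b⁻¹ ∈ R
  invR₁ : ∀ b ∈ B, ∀ g ∈ R₁, b * g * b⁻¹ ∈ R₁
  central : ∀ x ∈ R₁, ∀ g ∈ R, x * g = g * x
  comm : ∀ x ∈ R, ∀ g ∈ R, cmt x g ∈ R₁
  max : ∀ M : Subgroup H, R₁ ≤ M → M ≤ R → (∀ b ∈ B, ∀ g ∈ M, b * g * b⁻¹ ∈ M) → M = R₁ ∨ M = R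

/-- The pieces of the decomposition: `C_R(a c^j)`. -/
def Rj {H : Type*} [Group H] {p : ℕ} (R : Subgroup H) (a c : H) (j : ZMod p) : Subgroup H :=
  R ⊓ Subgroup.centralizer {a * c ^ j.val}

/-- The hypotheses of the decomposition: a faithful minimal configuration together with a normal
subgroup `⟨a⟩ × ⟨c⟩` of type `(p, p)` of `B`, `c` central, `a` not, both centralising `R₁`. -/
structure DecHyp {H : Type*} [Group H] (p : ℕ) (B R R₁ : Subgroup H) (a c : H) : Prop where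
  hB : IsPGroup p B
  hR : (Nat.card R).Coprime p
  cfg : MinCfg B R R₁
  faith : ∀ b ∈ B, (∀ g ∈ R, b * g = g * b) → b = 1
  a_mem : a ∈ B
  c_mem : c ∈ B
  ap : a ^ p = 1
  cp : c ^ p = 1
  ac : a * c = c * a
  c_ne : c ≠ 1
  c_central : ∀ b ∈ B, b * c = c * b
  a_nc : ∃ b ∈ B, b * a ≠ a * b
  conj : ∀ b ∈ B, ∃ t : ZMod p, b * a * b⁻¹ = a * c ^ t.val
  aR₁ : ∀ g ∈ R₁, a * g = g * a
  cR₁ : ∀ g ∈ R₁, c * g = g * c

end Cfsg.Agent.Helper31.H2
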