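import Mathlib
import Cfsg.Prelude.Def_ConjugacyFunctors
import Cfsg.Agent.Lib.Helper31.GTMain

set_option autoImplicit false
set_option linter.style.haveILetI false

/-!
# The Glauberman–Thompson reduction for a general isomorphism-invariant `p`-group functor `W`

If `N_G(W(S))` has a normal `p`-complement and `W(T)` is normal in every group `X` (of a class closed
under subgroups and quotients, containing `G`) with `O_{p'}(X) = 1`, `C_X(O_p(X)) ≤ O_p(X)`,
`X / O_p(X)` `p`-nilpotent and a Sylow `p`-subgroup `T` which is a maximal subgroup, then `G` has a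
normal `p`-complement.
-/

namespace Cfsg.Agent.Helper31.GTG

open Cfsg Cfsg.Agent.Helper2 Cfsg.Agent.Helper11.ZJ Cfsg.Agent.Helper31.GT
open scoped Pointwise

universe u

section Functor

variable {p : ℕ} {W : ∀ (Q : Type u) [Group Q], Subgroup Q}

theorem if_le {X : Type u} [Group X] (P : Subgroup X) : inducedFunctor W P ≤ P :=
  Subgroup.map_subtype_le _

/-- Compatibility with homomorphisms injective on the finite `p`-subgroup `P`. -/
theorem if_map (hW : IsCharPFunctor.{u} p W) {X Y : Type u} [Group X] [Group Y] (f : X →* Y)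
    (P : Subgroup X) [Finite P] (hP : IsPGroup p P) (hinj : f.ker ⊓ P = ⊥) :
    inducedFunctor W (P.map f) = (inducedFunctor W P).map f := by
  have hbij : Function.Bijective (f.subgroupMap P) := by
    refine ⟨?_, f.subgroupMap_surjective P⟩
    rw [injective_iff_map_eq_one]
    intro x hx
    have h1 : f (x : X) = 1 := congrArg Subtype.val hx
    have h2 : (x : X) ∈ f.ker ⊓ P := ⟨h1, x.2⟩
    rw [hinj, Subgroup.mem_bot] at h2
    exact Subtype.ext h2
  set e : ↥P ≃* ↥(P.map f) := MulEquiv.ofBijective (f.subgroupMap P) hbij with he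
  have h1 := hW.2 ↥P ↥(P.map f) hP e
  unfold inducedFunctor
  rw [← h1, Subgroup.map_map, Subgroup.map_map]
  rfl

theorem if_ne_bot (hW : IsCharPFunctor.{u} p W) {X : Type u} [Group X] (P : Subgroup X) [Finite P]
    (hP : IsPGroup p P) (hne : P ≠ ⊥) : inducedFunctor W P ≠ ⊥ := by
  haveI : Nontrivial ↥P := (Subgroup.nontrivial_iff_ne_bot P).mpr hne
  have h1 := hW.1 ↥P hP inferInstance
  intro h
  apply h1
  unfold inducedFunctor at h
  rw [eq_bot_iff] at h ⊢
  intro x hx
  have : (x : X) ∈ (W ↥P).map P.subtype := ⟨x, hx, rfl⟩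
  have h2 := h this
  rw [Subgroup.mem_bot] at h2 ⊢
  exact Subtype.ext h2

theorem if_conj (hW : IsCharPFunctor.{u} p W) {X : Type u} [Group X] (P : Subgroup X) [Finite P]
    (hP : IsPGroup p P) (g : X) :
    inducedFunctor W (P.map (MulAut.conj g).toMonoidHom) =
      (inducedFunctor W P).map (MulAut.conj g).toMonoidHom := by
  apply if_map hW _ P hP
  rw [eq_bot_iff]
  intro x hx
  have h1 : (MulAut.conj g) x = 1 := hx.1
  rw [Subgroup.mem_bot]
  exact (MulAut.conj g).injective (by rw [h1, map_one])

theorem normalizer_le_normalizer_if (hW : IsCharPFunctor.{u} p W) {X : Type u} [Group X]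
    (P : Subgroup X) [Finite P] (hP : IsPGroup p P) :
    Subgroup.normalizer (P : Set X) ≤ Subgroup.normalizer (inducedFunctor W P : Set X) := by
  intro g hg
  have h1 : P.map (MulAut.conj g).toMonoidHom = P := by
    ext x
    constructor
    · rintro ⟨y, hy, rfl⟩
      exact (Subgroup.mem_normalizer_iff.mp hg y).mp hy
    · intro hx
      refine ⟨g⁻¹ * x * g, ?_, by simp [MulAut.conj_apply, mul_assoc]⟩
      have := (Subgroup.mem_normalizer_iff.mp (Subgroup.inv_mem _ hg) x).mp hx
      simpa using this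
  have h2 := if_conj hW P hP g
  rw [h1] at h2
  rw [Subgroup.mem_normalizer_iff]
  intro x
  constructor
  · intro hx
    rw [h2]
    exact ⟨x, hx, rfl⟩
  · intro hx
    rw [h2] at hx
    obtain ⟨y, hy, hyx⟩ := hx
    have : y = x := by
      have h3 : g * y * g⁻¹ = g * x * g⁻¹ := hyx
      have h4 := mul_right_cancel h3
      exact mul_left_cancel h4
    rwa [← this]

end Functor

section Induction

variable {p : ℕ} [hp : Fact p.Prime] {W : ∀ (Q : Type u) [Group Q], Subgroup Q}
  {C : ∀ (X : Type u) [Group X], Prop}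

/-- A class of groups closed under subgroups and quotients. -/
structure ClosedClass (C : ∀ (X : Type u) [Group X], Prop) : Prop where
  sub : ∀ (X : Type u) [Group X] (M : Subgroup X), C X → C ↥M
  quot : ∀ (X : Type u) [Group X] (N : Subgroup X) [N.Normal], C X → C (X ⧸ N)

/-- The induction hypothesis. -/
def IHypG (p : ℕ) (W : ∀ (Q : Type u) [Group Q], Subgroup Q)
    (C : ∀ (X : Type u) [Group X], Prop) (n : ℕ) : Prop :=
  ∀ (X : Type u) [Group X] [Finite X], C X → Nat.card X < n → ∀ R : Sylow p X,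
    HasNormalPComplement p ↥(Subgroup.normalizer (inducedFunctor W (R : Subgroup X) : Set X)) →
      HasNormalPComplement p X

theorem ih_sub (hW : IsCharPFunctor.{u} p W) (hC : ClosedClass C) {G : Type u} [Group G] [Finite G]
    (hCG : C G) (ih : IHypG.{u} p W C (Nat.card G)) (M : Subgroup G) (hM : M ≠ ⊤) (R : Sylow p ↥M)
    (h : HasNormalPComplement p
      ↥(M ⊓ Subgroup.normalizer (inducedFunctor W ((R : Subgroup ↥M).map M.subtype) : Set G))) :
    HasNormalPComplement p ↥M := by
  have hcard : Nat.card ↥M < Nat.card G := by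
    have := card_lt_of_lt' (lt_top_iff_ne_top.mpr hM)
    rwa [Subgroup.card_top] at this
  apply ih ↥M (hC.sub G M hCG) hcard R
  set Z := inducedFunctor W (R : Subgroup ↥M) with hZ
  have hinj : M.subtype.ker ⊓ (R : Subgroup ↥M) = ⊥ := by
    rw [M.ker_subtype, bot_inf_eq]
  have hmap : inducedFunctor W ((R : Subgroup ↥M).map M.subtype) = Z.map M.subtype :=
    if_map hW M.subtype (R : Subgroup ↥M) R.isPGroup' hinj
  have hle : (Subgroup.normalizer (Z : Set ↥M)).map M.subtype ≤
      M ⊓ Subgroup.normalizer (inducedFunctor W ((R : Subgroup ↥M).map M.subtype) : Set G) := by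
    apply le_inf (Subgroup.map_subtype_le _)
    rw [hmap]
    exact Subgroup.le_normalizer_map M.subtype
  have h1 := pn_mono hle h
  exact hasNormalPComplement_of_mulEquiv
    (Subgroup.equivMapOfInjective _ M.subtype M.subtype_injective).symm h1

theorem hyp_conj (hW : IsCharPFunctor.{u} p W) {G : Type u} [Group G] [Finite G] (P : Sylow p G)
    (h : HasNormalPComplement p
      ↥(Subgroup.normalizer (inducedFunctor W (P : Subgroup G) : Set G))) (g : G) :
    HasNormalPComplement p
      ↥(Subgroup.normalizer (inducedFunctor W ((g • P : Sylow p G) : Subgroup G) : Set G)) := by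
  have h1 : ((g • P : Sylow p G) : Subgroup G) =
      (P : Subgroup G).map (MulAut.conj g).toMonoidHom := rfl
  have h2 : inducedFunctor W ((g • P : Sylow p G) : Subgroup G) =
      (inducedFunctor W (P : Subgroup G)).map (MulAut.conj g).toMonoidHom := by
    rw [h1]
    exact if_conj hW _ P.isPGroup' g
  have h3 := pn_map (MulAut.conj g).toMonoidHom _ h
  rw [Subgroup.map_equiv_normalizer_eq] at h3
  exact pn_mono (le_of_eq (by rw [h2])) h3

theorem hyp_all (hW : IsCharPFunctor.{u} p W) {G : Type u} [Group G] [Finite G] (P : Sylow p G)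
    (h : HasNormalPComplement p
      ↥(Subgroup.normalizer (inducedFunctor W (P : Subgroup G) : Set G))) (P' : Sylow p G) :
    HasNormalPComplement p
      ↥(Subgroup.normalizer (inducedFunctor W (P' : Subgroup G) : Set G)) := by
  obtain ⟨g, rfl⟩ := MulAction.exists_smul_eq G P P'
  exact hyp_conj hW P h g

theorem hnpc_of_quot_coprime (hW : IsCharPFunctor.{u} p W) (hC : ClosedClass C) {G : Type u}
    [Group G] [Finite G] (hCG : C G) (ih : IHypG.{u} p W C (Nat.card G)) (D : Subgroup G)
    [hDn : D.Normal] (hD : (Nat.card D).Coprime p) (hD1 : D ≠ ⊥) (P : Sylow p G)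
    (h : HasNormalPComplement p
      ↥(Subgroup.normalizer (inducedFunctor W (P : Subgroup G) : Set G))) :
    HasNormalPComplement p G := by
  set mk := QuotientGroup.mk' D with hmk
  have hsurj : Function.Surjective mk := QuotientGroup.mk'_surjective D
  have hker : mk.ker = D := QuotientGroup.ker_mk' D
  apply hnpc_of_ker_coprime mk hsurj (by rw [hker]; exact hD)
  have hcard : Nat.card (G ⧸ D) < Nat.card G := by
    rw [Subgroup.card_eq_card_quotient_mul_card_subgroup D]
    have h1 : 1 < Nat.card D := by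
      rcases Nat.lt_or_ge 1 (Nat.card D) with h | h
      · exact h
      · exfalso
        have : Nat.card D = 1 := le_antisymm h Nat.card_pos
        exact hD1 (Subgroup.card_eq_one.mp this)
    have h2 : 0 < Nat.card (G ⧸ D) := Nat.card_pos
    nlinarith
  set Pb : Sylow p (G ⧸ D) := P.mapSurjective hsurj with hPb
  have hPbc : (Pb : Subgroup (G ⧸ D)) = (P : Subgroup G).map mk := Sylow.coe_mapSurjective hsurj P
  apply ih (G ⧸ D) (hC.quot G D hCG) hcard Pb
  have hinj : mk.ker ⊓ (P : Subgroup G) = ⊥ := by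
    rw [hker]
    obtain ⟨k, hk⟩ := IsPGroup.iff_card.mp P.isPGroup'
    apply (Subgroup.disjoint_of_coprime_natCard _).eq_bot
    rw [hk]
    exact Nat.Coprime.pow_right k hD
  have hZ : inducedFunctor W (Pb : Subgroup (G ⧸ D)) =
      (inducedFunctor W (P : Subgroup G)).map mk := by
    rw [hPbc]
    exact if_map hW mk (P : Subgroup G) P.isPGroup' hinj
  set Z := inducedFunctor W (P : Subgroup G) with hZdef
  have hZp : IsPGroup p Z := P.isPGroup'.to_le (if_le _)
  have hle : Subgroup.normalizer (inducedFunctor W (Pb : Subgroup (G ⧸ D)) : Set (G ⧸ D)) ≤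
      (Subgroup.normalizer (Z : Set G)).map mk := by
    rw [hZ]
    intro gb hgb
    obtain ⟨g, rfl⟩ := hsurj gb
    have hconj : MulAut.conj g • Z ≤ Z ⊔ D := by
      rintro _ ⟨z, hz, rfl⟩
      show g * z * g⁻¹ ∈ Z ⊔ D
      have h1 : mk (g * z * g⁻¹) ∈ Z.map mk := by
        rw [map_mul, map_mul, map_inv]
        exact (Subgroup.mem_normalizer_iff.mp hgb (mk z)).mp (Subgroup.mem_map_of_mem mk hz)
      obtain ⟨z', hz', hzz⟩ := h1
      have h2 : z'⁻¹ * (g * z * g⁻¹) ∈ D := by
        rw [← hker, MonoidHom.mem_ker, map_mul, map_inv, hzz, inv_mul_cancel]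
      have h3 : g * z * g⁻¹ = z' * (z'⁻¹ * (g * z * g⁻¹)) := by group
      rw [h3]
      exact Subgroup.mul_mem _ (Subgroup.mem_sup_left hz') (Subgroup.mem_sup_right h2)
    obtain ⟨m, hm, hmg⟩ := Helper10.exists_mul_mem_normalizer_of_conj_le_sup hZp hD g hconj
    refine ⟨m * g, hmg, ?_⟩
    have : mk m = 1 := by rw [← MonoidHom.mem_ker, hker]; exact hm
    rw [map_mul, this, one_mul]
  exact pn_mono hle (pn_map mk _ h)

theorem hnpc_quot_of_pgroup (hW : IsCharPFunctor.{u} p W) (hC : ClosedClass C) {G : Type u}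
    [Group G] [Finite G] (hCG : C G) (ih : IHypG.{u} p W C (Nat.card G)) (H : Subgroup G)
    [hHn : H.Normal] (hH1 : H ≠ ⊥) (P : Sylow p G) (hHP : H < (P : Subgroup G))
    (hloc : ∀ L : Subgroup G, H < L → L ≤ (P : Subgroup G) →
      (P : Subgroup G) ≤ Subgroup.normalizer (L : Set G) →
      HasNormalPComplement p ↥(Subgroup.normalizer (L : Set G))) :
    HasNormalPComplement p (G ⧸ H) := by
  set mk := QuotientGroup.mk' H with hmk
  have hsurj : Function.Surjective mk := QuotientGroup.mk'_surjective H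
  have hker : mk.ker = H := QuotientGroup.ker_mk' H
  have hmk1 : ∀ g : G, mk g = 1 ↔ g ∈ H := fun g => QuotientGroup.eq_one_iff g
  have hcard : Nat.card (G ⧸ H) < Nat.card G := by
    rw [Subgroup.card_eq_card_quotient_mul_card_subgroup H]
    have h1 : 1 < Nat.card H := by
      rcases Nat.lt_or_ge 1 (Nat.card H) with h | h
      · exact h
      · exfalso
        have : Nat.card H = 1 := le_antisymm h Nat.card_pos
        exact hH1 (Subgroup.card_eq_one.mp this)
    have h2 : 0 < Nat.card (G ⧸ H) := Nat.card_pos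
    nlinarith
  set Pb : Sylow p (G ⧸ H) := P.mapSurjective hsurj with hPb
  have hPbc : (Pb : Subgroup (G ⧸ H)) = (P : Subgroup G).map mk := Sylow.coe_mapSurjective hsurj P
  apply ih (G ⧸ H) (hC.quot G H hCG) hcard Pb
  set Zb := inducedFunctor W (Pb : Subgroup (G ⧸ H)) with hZb
  set L := Zb.comap mk with hL
  have hPbne : (Pb : Subgroup (G ⧸ H)) ≠ ⊥ := by
    obtain ⟨u, hu, hu'⟩ := SetLike.exists_of_lt hHP
    intro h
    have h1 : mk u ∈ (Pb : Subgroup (G ⧸ H)) := by
      rw [hPbc]; exact Subgroup.mem_map_of_mem _ hu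
    rw [h, Subgroup.mem_bot, hmk1] at h1
    exact hu' h1
  have hZbne : Zb ≠ ⊥ := if_ne_bot hW _ Pb.isPGroup' hPbne
  have hLP : L ≤ (P : Subgroup G) := by
    intro x hx
    have h1 : mk x ∈ (Pb : Subgroup (G ⧸ H)) := if_le _ (Subgroup.mem_comap.mp hx)
    rw [hPbc] at h1
    obtain ⟨u, hu, hux⟩ := h1
    have h2 : u⁻¹ * x ∈ H := by
      rw [← hmk1, map_mul, map_inv, hux, inv_mul_cancel]
    have h3 : x = u * (u⁻¹ * x) := by group
    rw [h3]
    exact (P : Subgroup G).mul_mem hu ((le_of_lt hHP) h2)
  have hHL : H < L := by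
    refine lt_of_le_of_ne ?_ ?_
    · intro x hx
      rw [hL, Subgroup.mem_comap, (hmk1 x).mpr hx]
      exact Zb.one_mem
    · intro heq
      apply hZbne
      rw [eq_bot_iff]
      intro zb hzb
      obtain ⟨z, rfl⟩ := hsurj zb
      have h1 : z ∈ L := hzb
      rw [← heq] at h1
      rw [Subgroup.mem_bot]
      exact (hmk1 z).mpr h1
  have hPL : (P : Subgroup G) ≤ Subgroup.normalizer (L : Set G) := by
    intro u hu
    have h3 : mk u ∈ Subgroup.normalizer (Zb : Set (G ⧸ H)) := by
      apply normalizer_le_normalizer_if hW (Pb : Subgroup (G ⧸ H)) Pb.isPGroup'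
      apply Subgroup.le_normalizer
      rw [hPbc]
      exact Subgroup.mem_map_of_mem _ hu
    rw [hL, ← Subgroup.comap_normalizer_eq_of_surjective Zb hsurj]
    exact h3
  have h1 := pn_map mk _ (hloc L hHL hLP hPL)
  have h2 : (Subgroup.normalizer (L : Set G)).map mk = Subgroup.normalizer (Zb : Set (G ⧸ H)) := by
    rw [hL, ← Subgroup.comap_normalizer_eq_of_surjective Zb hsurj,
      Subgroup.map_comap_eq_self_of_surjective hsurj]
  exact pn_mono (le_of_eq h2.symm) h1

/-- The hypothesis on the functor `W` in the minimal configuration. -/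
def CfgNormal (p : ℕ) (W : ∀ (Q : Type u) [Group Q], Subgroup Q)
    (C : ∀ (X : Type u) [Group X], Prop) : Prop :=
  ∀ (X : Type u) [Group X] [Finite X], C X → pPrimeCore p X = ⊥ →
    Subgroup.centralizer (pCore p X : Set X) ≤ pCore p X →
    HasNormalPComplement p (X ⧸ pCore p X) →
    ∀ T : Sylow p X, IsCoatom (T : Subgroup X) → (inducedFunctor W (T : Subgroup X)).Normal

/-- The inductive step, for a general functor. -/
theorem gt_step (hW : IsCharPFunctor.{u} p W) (hC : ClosedClass C) (hcfg : CfgNormal.{u} p W C)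
    {G : Type u} [Group G] [Finite G] (hCG : C G)
    (ih : IHypG.{u} p W C (Nat.card G)) (P : Sylow p G)
    (hN : HasNormalPComplement p
      ↥(Subgroup.normalizer (inducedFunctor W (P : Subgroup G) : Set G))) :
    HasNormalPComplement p G := by
  by_contra hG
  have hall := hyp_all hW P hN
  -- `O_{p'}(G) = 1`
  have hO : pPrimeCore p G = ⊥ := by
    by_contra h
    haveI := (Helper54.pPrimeCore_mem (G := G) p).1
    exact hG (hnpc_of_quot_coprime hW hC hCG ih (pPrimeCore p G) (Helper54.pPrimeCore_coprime p)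
      h P hN)
  -- the choice of `H`
  set 𝒳 : Set (Subgroup G) := {X | IsPGroup p X ∧ X ≠ ⊥ ∧
    ¬ HasNormalPComplement p ↥(Subgroup.normalizer (X : Set G))} with h𝒳
  obtain ⟨X₀, hX₀⟩ : 𝒳.Nonempty := by
    obtain ⟨X, h1, h2, h3⟩ := exists_bad_local hG
    exact ⟨X, h1, h2, h3⟩
  set ν : Subgroup G → ℕ :=
    fun X => (Nat.card ↥(Subgroup.normalizer (X : Set G))).factorization p with hν
  set μ : Subgroup G → ℕ := fun X => ν X * (Nat.card G + 1) + Nat.card X with hμ
  obtain ⟨H, hH𝒳, hHmax⟩ := Set.exists_max_image 𝒳 μ (Set.toFinite _) ⟨X₀, hX₀⟩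
  obtain ⟨hHp, hH1, hHbad⟩ := hH𝒳
  have hcardle : ∀ X : Subgroup G, Nat.card X ≤ Nat.card G := fun X => Subgroup.card_le_card_group X
  have hν_le : ∀ X ∈ 𝒳, ν X ≤ ν H := by
    intro X hX
    by_contra hlt
    push Not at hlt
    have h1 : ν X * (Nat.card G + 1) + Nat.card X ≤ ν H * (Nat.card G + 1) + Nat.card H :=
      hHmax X hX
    have h2 : (ν H + 1) * (Nat.card G + 1) ≤ ν X * (Nat.card G + 1) := Nat.mul_le_mul_right _ hlt
    have h3 := hcardle H
    nlinarith
  have hcard_le : ∀ X ∈ 𝒳, ν X = ν H → Nat.card X ≤ Nat.card H := by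
    intro X hX heq
    have h1 : ν X * (Nat.card G + 1) + Nat.card X ≤ ν H * (Nat.card G + 1) + Nat.card H :=
      hHmax X hX
    rw [heq] at h1
    omega
  -- `N_G(H) = G`
  have hNH : Subgroup.normalizer (H : Set G) = ⊤ := by
    by_contra hNH
    set N := Subgroup.normalizer (H : Set G) with hN'
    obtain ⟨Q⟩ : Nonempty (Sylow p ↥N) := inferInstance
    set Q' : Subgroup G := (Q : Subgroup ↥N).map N.subtype with hQ'
    have hQ'p : IsPGroup p Q' := Q.isPGroup'.map _
    have hHQ' : H ≤ Q' := by
      haveI : (H.subgroupOf N).Normal := Subgroup.normal_in_normalizer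
      have hp' : IsPGroup p ↥(H.subgroupOf N) := hHp.comap_subtype
      have h1 : H.subgroupOf N ≤ Q := hp'.le_sylow_of_normal Q
      intro x hx
      exact ⟨⟨x, Subgroup.le_normalizer hx⟩, h1 (Subgroup.mem_subgroupOf.mpr hx), rfl⟩
    have hQ'ne : Q' ≠ ⊥ := fun h => hH1 (eq_bot_iff.mpr (h ▸ hHQ'))
    have hbadZ : ¬ HasNormalPComplement p
        ↥(Subgroup.normalizer (inducedFunctor W Q' : Set G)) := by
      intro h
      apply hHbad
      apply ih_sub hW hC hCG ih N hNH Q
      exact pn_mono inf_le_right h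
    have hZ𝒳 : inducedFunctor W Q' ∈ 𝒳 :=
      ⟨hQ'p.to_le (if_le _), if_ne_bot hW _ hQ'p hQ'ne, hbadZ⟩
    have h1 := hν_le _ hZ𝒳
    have hcardQ' : Nat.card Q' = p ^ ν H := by
      rw [hQ', Subgroup.card_map_of_injective N.subtype_injective]
      exact Q.card_eq_multiplicity
    obtain ⟨P', hP'⟩ := hQ'p.exists_le_sylow
    rcases eq_or_lt_of_le hP' with heq | hlt
    · apply hbadZ
      rw [heq]
      exact hall P'
    · have h2 := lt_inf_normalizer P'.isPGroup' hlt
      set T := (P' : Subgroup G) ⊓ Subgroup.normalizer (Q' : Set G) with hT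
      have hTp : IsPGroup p T := P'.isPGroup'.to_le inf_le_left
      obtain ⟨t, ht⟩ := IsPGroup.iff_card.mp hTp
      have hTle : T ≤ Subgroup.normalizer (inducedFunctor W Q' : Set G) :=
        inf_le_right.trans (normalizer_le_normalizer_if hW Q' hQ'p)
      have h3 : p ^ t ∣ Nat.card ↥(Subgroup.normalizer (inducedFunctor W Q' : Set G)) :=
        ht ▸ Subgroup.card_dvd_of_le hTle
      have h4 : t ≤ ν (inducedFunctor W Q') :=
        (hp.out.pow_dvd_iff_le_factorization Nat.card_pos.ne').mp h3
      have h5 : Nat.card Q' < Nat.card T := card_lt_of_lt' h2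
      rw [hcardQ', ht] at h5
      have h6 : ν H < t := (Nat.pow_lt_pow_iff_right hp.out.one_lt).mp h5
      omega
  haveI hHn : H.Normal := Subgroup.normalizer_eq_top_iff.mp hNH
  have hνH : ν H = (Nat.card G).factorization p := by
    simp only [hν]
    rw [hNH, Subgroup.card_top]
  have hgood : ∀ X : Subgroup G, IsPGroup p X → Nat.card H < Nat.card X →
      (∃ P' : Sylow p G, (P' : Subgroup G) ≤ Subgroup.normalizer (X : Set G)) →
      HasNormalPComplement p ↥(Subgroup.normalizer (X : Set G)) := by
    rintro X hXp hXc ⟨P', hP'⟩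
    by_contra hbad
    have hX1 : X ≠ ⊥ := by
      intro h
      rw [h, Subgroup.card_bot] at hXc
      have := Nat.card_pos (α := H)
      omega
    have hX𝒳 : X ∈ 𝒳 := ⟨hXp, hX1, hbad⟩
    have h1 : ν X = ν H := by
      apply le_antisymm (hν_le X hX𝒳)
      rw [hνH]
      have h2 : p ^ (Nat.card G).factorization p ∣
          Nat.card ↥(Subgroup.normalizer (X : Set G)) := by
        rw [← P'.card_eq_multiplicity]
        exact Subgroup.card_dvd_of_le hP'
      exact (hp.out.pow_dvd_iff_le_factorization Nat.card_pos.ne').mp h2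
    have := hcard_le X hX𝒳 h1
    omega
  -- `H = O_p(G)`
  have hHcore : H = pCore p G := by
    have hle : H ≤ pCore p G := le_pCore' hHn hHp
    by_contra hne
    have hlt : H < pCore p G := lt_of_le_of_ne hle hne
    have hnt : Subgroup.normalizer ((pCore p G : Subgroup G) : Set G) = ⊤ :=
      Subgroup.normalizer_eq_top_iff.mpr (pCore_normal' p G)
    have h1 := hgood (pCore p G) isPGroup_pCore' (card_lt_of_lt' hlt)
      ⟨P, by rw [hnt]; exact le_top⟩
    apply hG
    rw [← pn_top]
    exact pn_mono (le_of_eq hnt.symm) h1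
  -- `H < P`
  have hHP : H < (P : Subgroup G) := by
    have hle : H ≤ (P : Subgroup G) := hHcore ▸ pCore_le_sylow' P
    refine lt_of_le_of_ne hle ?_
    intro heq
    apply hG
    rw [← pn_top]
    have h1 : Subgroup.normalizer ((P : Subgroup G) : Set G) = ⊤ := by rw [← heq]; exact hNH
    have h2 : (⊤ : Subgroup G) ≤ Subgroup.normalizer (inducedFunctor W (P : Subgroup G) : Set G) :=
      h1 ▸ normalizer_le_normalizer_if hW (P : Subgroup G) P.isPGroup'
    exact pn_mono h2 hN
  -- `G / H` has a normal `p`-complement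
  have hquot : HasNormalPComplement p (G ⧸ H) := by
    apply hnpc_quot_of_pgroup hW hC hCG ih H hH1 P hHP
    intro L hHL hLP hPL
    exact hgood L (P.isPGroup'.to_le hLP) (card_lt_of_lt' hHL) ⟨P, hPL⟩
  subst hHcore
  obtain ⟨Nb, hNbn, hNbc, k, hNbk⟩ := hnpc_iff.mp hquot
  set mk := QuotientGroup.mk' (pCore p G) with hmk
  have hsurj : Function.Surjective mk := QuotientGroup.mk'_surjective _
  set K := Nb.comap mk with hK
  haveI hKn : K.Normal := hNbn.comap _
  have hHK : pCore p G ≤ K := by
    intro x hx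
    show mk x ∈ Nb
    have : mk x = 1 := (QuotientGroup.eq_one_iff x).mpr hx
    rw [this]
    exact Nb.one_mem
  have hKH : ((pCore p G).relIndex K).Coprime p := by
    have h1 : (pCore p G).relIndex K = Nat.card Nb := by
      have h2 : pCore p G = (⊥ : Subgroup (G ⧸ pCore p G)).comap mk := by
        rw [MonoidHom.comap_bot, QuotientGroup.ker_mk']
      conv_lhs => rw [h2]
      rw [Subgroup.relIndex_comap, hK, Subgroup.map_comap_eq_self_of_surjective hsurj,
        Subgroup.relIndex_bot_left]
    rw [h1]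
    exact hNbc
  have hKi : ∃ k : ℕ, K.index = p ^ k :=
    ⟨k, by rw [hK, Subgroup.index_comap_of_surjective Nb hsurj]; exact hNbk⟩
  -- `C_G(O_p(G)) ≤ O_p(G)`
  have hc : Subgroup.centralizer (pCore p G : Set G) ≤ pCore p G :=
    Helper76.centralizer_pCore_le
      (isPSolvable_of_chain (pCore p G) K hHK isPGroup_pCore' hKH hKi) hO
  -- `P` is a maximal subgroup
  have hmax : ∀ M : Subgroup G, (P : Subgroup G) ≤ M → M = (P : Subgroup G) ∨ M = ⊤ := by
    intro M hPM
    by_cases hM : M = ⊤
    · exact Or.inr hM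
    · left
      have h1 : HasNormalPComplement p ↥M := by
        apply ih_sub hW hC hCG ih M hM (P.subtype hPM)
        have h2 : ((P.subtype hPM : Sylow p ↥M) : Subgroup ↥M).map M.subtype =
            (P : Subgroup G) := by
          rw [Sylow.coe_subtype, Subgroup.subgroupOf_map_subtype, inf_eq_left.mpr hPM]
        rw [h2]
        exact pn_mono inf_le_right hN
      obtain ⟨T, hTn, hTc, j, hTj⟩ := hnpc_iff.mp h1
      set T' := T.map M.subtype with hT'
      have hT'c : (Nat.card T').Coprime p := by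
        rw [hT', Subgroup.card_map_of_injective M.subtype_injective]
        exact hTc
      have hdisj : T' ⊓ pCore p G = ⊥ := by
        apply (Subgroup.disjoint_of_coprime_natCard _).eq_bot
        obtain ⟨a, ha⟩ := IsPGroup.iff_card.mp hHp
        rw [ha]
        exact Nat.Coprime.pow_right a hT'c
      have hT'cent : T' ≤ Subgroup.centralizer (pCore p G : Set G) := by
        rintro _ ⟨t, ht, rfl⟩
        rw [Subgroup.mem_centralizer_iff]
        intro h hh
        have hhM : h ∈ M := hPM (le_of_lt hHP hh)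
        have h3 : (t : G) * h * (t : G)⁻¹ * h⁻¹ ∈ T' := by
          refine ⟨t * ((⟨h, hhM⟩ : ↥M) * t⁻¹ * (⟨h, hhM⟩ : ↥M)⁻¹),
            T.mul_mem ht (hTn.conj_mem _ (T.inv_mem ht) _), ?_⟩
          simp [mul_assoc]
        have h4 : (t : G) * h * (t : G)⁻¹ * h⁻¹ ∈ pCore p G :=
          (pCore p G).mul_mem (hHn.conj_mem h hh _) ((pCore p G).inv_mem hh)
        have h5 : (t : G) * h * (t : G)⁻¹ * h⁻¹ ∈ T' ⊓ pCore p G := ⟨h3, h4⟩
        rw [hdisj, Subgroup.mem_bot] at h5
        calc h * M.subtype t = ((t : G) * h * (t : G)⁻¹ * h⁻¹)⁻¹ * ((t : G) * h) := by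
              simp [mul_assoc]
          _ = M.subtype t * h := by rw [h5, inv_one, one_mul]; rfl
      have hT'bot : T' = ⊥ := by
        rw [eq_bot_iff, ← hdisj]
        exact le_inf le_rfl (hT'cent.trans hc)
      have hTbot : T = ⊥ := by
        rw [eq_bot_iff]
        intro t ht
        have : (t : G) ∈ T' := ⟨t, ht, rfl⟩
        rw [hT'bot, Subgroup.mem_bot] at this
        rw [Subgroup.mem_bot]
        exact Subtype.ext this
      have hMp : IsPGroup p ↥M := by
        apply IsPGroup.of_card (n := j)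
        rw [← hTj, hTbot, Subgroup.index_bot]
      exact P.is_maximal' hMp hPM
  have hcoatom : IsCoatom (P : Subgroup G) := by
    refine ⟨?_, ?_⟩
    · intro htop
      apply hG
      rw [hnpc_iff]
      obtain ⟨a, ha⟩ := IsPGroup.iff_card.mp P.isPGroup'
      refine ⟨⊥, inferInstance, by simp, a, ?_⟩
      rw [Subgroup.index_bot, ← ha, htop, Subgroup.card_top]
    · intro M hM
      rcases hmax M (le_of_lt hM) with h | h
      · exact absurd h (ne_of_gt hM)
      · exact h
  haveI := hcfg G hCG hO hc hquot P hcoatom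
  apply hG
  rw [← pn_top]
  exact pn_mono (le_of_eq (Subgroup.normalizer_eq_top_iff.mpr inferInstance).symm) hN

/-- The generic Glauberman–Thompson reduction. -/
theorem gt_all (hW : IsCharPFunctor.{u} p W) (hC : ClosedClass C) (hcfg : CfgNormal.{u} p W C) :
    ∀ n : ℕ, IHypG.{u} p W C n := by
  intro n
  induction n with
  | zero =>
    intro X _ _ _ h
    exact absurd h (Nat.not_lt_zero _)
  | succ n ih =>
    intro X _ _ hCX hX R hR
    by_cases h : Nat.card X < n
    · exact ih X hCX h R hR
    · have h1 : Nat.card X = n := by omega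
      subst h1
      exact gt_step hW hC hcfg hCX ih R hR

theorem gt_generic (hW : IsCharPFunctor.{u} p W) (hC : ClosedClass C) (hcfg : CfgNormal.{u} p W C)
    {G : Type u} [Group G] [Finite G] (hCG : C G) (P : Sylow p G)
    (hN : HasNormalPComplement p
      ↥(Subgroup.normalizer (inducedFunctor W (P : Subgroup G) : Set G))) :
    HasNormalPComplement p G :=
  gt_all hW hC hcfg (Nat.card G + 1) G hCG (Nat.lt_succ_self _) P hN

/-- In the minimal configuration, the structure `Config` of `GTStable` holds (for a suitable `K`),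
so the group is `p`-stable on its normal `p`-subgroups (for `p` odd) by
`GT.mem_stabL_of_quadratic`. -/
theorem exists_config {X : Type u} [Group X] [Finite X]
    (hquot : HasNormalPComplement p (X ⧸ pCore p X)) (T : Sylow p X)
    (hT : IsCoatom (T : Subgroup X)) :
    ∃ (K : Subgroup X) (m : ℕ), Config p T K m := by
  haveI hHn : (pCore p X).Normal := pCore_normal' p X
  obtain ⟨Nb, hNbn, hNbc, k, hNbk⟩ := hnpc_iff.mp hquot
  set mk := QuotientGroup.mk' (pCore p X) with hmk
  have hsurj : Function.Surjective mk := QuotientGroup.mk'_surjective _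
  set K := Nb.comap mk with hK
  haveI hKn : K.Normal := hNbn.comap _
  have hHK : pCore p X ≤ K := by
    intro x hx
    show mk x ∈ Nb
    have : mk x = 1 := (QuotientGroup.eq_one_iff x).mpr hx
    rw [this]
    exact Nb.one_mem
  have hKH : ((pCore p X).relIndex K).Coprime p := by
    have h1 : (pCore p X).relIndex K = Nat.card Nb := by
      have h2 : pCore p X = (⊥ : Subgroup (X ⧸ pCore p X)).comap mk := by
        rw [MonoidHom.comap_bot, QuotientGroup.ker_mk']
      conv_lhs => rw [h2]
      rw [Subgroup.relIndex_comap, hK, Subgroup.map_comap_eq_self_of_surjective hsurj,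
        Subgroup.relIndex_bot_left]
    rw [h1]
    exact hNbc
  have hKi : ∃ k : ℕ, K.index = p ^ k :=
    ⟨k, by rw [hK, Subgroup.index_comap_of_surjective Nb hsurj]; exact hNbk⟩
  have hmax : ∀ M : Subgroup X, (T : Subgroup X) ≤ M → M = (T : Subgroup X) ∨ M = ⊤ := by
    intro M hM
    rcases eq_or_lt_of_le hM with h | h
    · exact Or.inl h.symm
    · exact Or.inr (hT.2 M h)
  exact ⟨K, _, config_of_max T K hHK hKH hKi hmax⟩

end Induction

end Cfsg.Agent.Helper31.GTG
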