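import Mathlib
import Cfsg.Prelude.Def_Transfer

set_option autoImplicit false
open Cfsg

namespace Cfsg.Agent.Helper31

open MulAction Subgroup

/-- Key counting statement: the number of `y`-fixed cosets `c` of `S` with `c.out⁻¹ y c.out ∈ T`
is odd. -/
theorem odd_card_fixed_of_pResidual {G : Type*} [Group G] [Finite G] (hO : Cfsg.pResidual 2 G = ⊤)
    (S : Sylow 2 G) (T : Subgroup G) (hTS : T ≤ S)
    [hTn : (T.subgroupOf (S : Subgroup G)).Normal]
    (hcyc : IsCyclic (↥(S : Subgroup G) ⧸ T.subgroupOf (S : Subgroup G)))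
    (y : G) (hy : orderOf y = 2) (hyS : y ∈ S) (hyT : y ∉ T) :
    Odd (Nat.card {c : G ⧸ (S : Subgroup G) // y • c = c ∧ c.out⁻¹ * y * c.out ∈ T}) := by
  classical
  set H : Subgroup G := (S : Subgroup G) with hH
  let _ : CommGroup (↥H ⧸ T.subgroupOf H) := IsCyclic.commGroup
  let ϕ : ↥H →* (↥H ⧸ T.subgroupOf H) := QuotientGroup.mk' (T.subgroupOf H)
  have hy2 : y ^ 2 = 1 := by rw [← hy]; exact pow_orderOf_eq_one y
  -- transfer is trivial
  have htriv : ∀ g : G, MonoidHom.transfer ϕ g = 1 := by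
    intro g
    have hle : Cfsg.pResidual 2 G ≤ (MonoidHom.transfer ϕ).ker := by
      unfold Cfsg.pResidual
      rw [Subgroup.closure_le]
      intro x hx
      have hx' : Nat.Coprime (orderOf x) 2 := hx
      show MonoidHom.transfer ϕ x = 1
      have hP : IsPGroup 2 (↥H ⧸ T.subgroupOf H) :=
        S.isPGroup'.to_quotient _
      obtain ⟨k, hk⟩ := hP (MonoidHom.transfer ϕ x)
      have h1 : orderOf (MonoidHom.transfer ϕ x) ∣ 2 ^ k := orderOf_dvd_of_pow_eq_one hk
      have h2 : orderOf (MonoidHom.transfer ϕ x) ∣ orderOf x := orderOf_map_dvd _ x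
      have h3 : Nat.Coprime (orderOf (MonoidHom.transfer ϕ x)) (2 ^ k) :=
        (Nat.Coprime.coprime_dvd_left h2 hx').pow_right k
      have h4 : orderOf (MonoidHom.transfer ϕ x) = 1 := Nat.Coprime.eq_one_of_dvd h3 h1
      exact orderOf_eq_one_iff.mp h4
    have : g ∈ Cfsg.pResidual 2 G := by rw [hO]; trivial
    exact hle this
  have : Fintype (G ⧸ H) := Fintype.ofFinite _
  let Q := Quotient (orbitRel (zpowers y) (G ⧸ H))
  have : Fintype Q := Fintype.ofFinite _
  have hformula := MonoidHom.transfer_eq_prod_quotient_orbitRel_zpowers_quot ϕ y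
  rw [htriv y] at hformula
  let ψ : G → (↥H ⧸ T.subgroupOf H) := fun g => if h : g ∈ H then ϕ ⟨g, h⟩ else 1
  have hψ : ∀ (g : G) (h : g ∈ H), ϕ ⟨g, h⟩ = ψ g := fun g h => by simp only [ψ, dif_pos h]
  let n : Q → ℕ := fun q => Function.minimalPeriod (y • ·) q.out
  let k : Q → G := fun q => q.out.out
  have hformula' : (1 : ↥H ⧸ T.subgroupOf H) = ∏ q : Q, ψ ((k q)⁻¹ * y ^ (n q) * k q) := by
    rw [hformula]; apply Finset.prod_congr rfl; intro q _; exact hψ _ _
  have hn : ∀ q, n q = 1 ∨ n q = 2 := by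
    intro q
    have hdvd : n q ∣ 2 := by
      rw [← MulAction.pow_smul_eq_iff_minimalPeriod_dvd, hy2, one_smul]
    exact (Nat.dvd_prime Nat.prime_two).mp hdvd
  have hn1 : ∀ q, n q = 1 ↔ y • q.out = q.out := by
    intro q
    exact Function.minimalPeriod_eq_one_iff_isFixedPt
  have hmem : ∀ q, (k q)⁻¹ * y ^ (n q) * k q ∈ H := fun q =>
    QuotientGroup.out_conj_pow_minimalPeriod_mem H y q.out
  -- facts on ψ
  have hψ1 : ψ 1 = 1 := by rw [← hψ 1 H.one_mem]; exact map_one ϕ
  have hψT : ∀ x ∈ H, (ψ x = 1 ↔ x ∈ T) := by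
    intro x hx
    rw [← hψ x hx]
    show (QuotientGroup.mk (⟨x, hx⟩ : ↥H) : ↥H ⧸ T.subgroupOf H) = 1 ↔ x ∈ T
    rw [QuotientGroup.eq_one_iff, Subgroup.mem_subgroupOf]
  have hψsq : ∀ x ∈ H, ψ x ^ 2 = ψ (x ^ 2) := by
    intro x hx
    rw [← hψ x hx, ← hψ (x ^ 2) (H.pow_mem hx 2), ← map_pow]
    rfl
  set a₀ := ψ y with ha₀
  have ha₀ne : a₀ ≠ 1 := fun h => hyT ((hψT y hyS).mp h)
  have ha₀sq : a₀ ^ 2 = 1 := by rw [ha₀, hψsq y hyS, hy2, hψ1]
  have hΩ : ∀ a : ↥H ⧸ T.subgroupOf H, a ^ 2 = 1 → a = 1 ∨ a = a₀ := by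
    intro a ha
    by_contra hcon
    push Not at hcon
    have : Fintype (↥H ⧸ T.subgroupOf H) := Fintype.ofFinite _
    have hle := IsCyclic.card_pow_eq_one_le (α := ↥H ⧸ T.subgroupOf H) (n := 2) (by norm_num)
    have hsub : ({1, a₀, a} : Finset (↥H ⧸ T.subgroupOf H)) ⊆
        Finset.univ.filter (fun a => a ^ 2 = 1) := by
      intro b hb
      simp only [Finset.mem_insert, Finset.mem_singleton] at hb
      simp only [Finset.mem_filter, Finset.mem_univ, true_and]
      rcases hb with rfl | rfl | rfl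
      · simp
      · exact ha₀sq
      · exact ha
    have hcard : ({1, a₀, a} : Finset (↥H ⧸ T.subgroupOf H)).card = 3 := by
      rw [Finset.card_insert_of_notMem, Finset.card_insert_of_notMem, Finset.card_singleton]
      · simp only [Finset.mem_singleton]; exact fun h => hcon.2 h.symm
      · simp only [Finset.mem_insert, Finset.mem_singleton, not_or]
        exact ⟨fun h => ha₀ne h.symm, fun h => hcon.1 h.symm⟩
    have := Finset.card_le_card hsub
    omega
  -- the terms
  have hterm : ∀ q, ψ ((k q)⁻¹ * y ^ (n q) * k q) =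
      if (n q = 1 ∧ (k q)⁻¹ * y * k q ∉ T) then a₀ else 1 := by
    intro q
    rcases hn q with h1 | h2
    · have hm := hmem q
      rw [h1, pow_one] at hm ⊢
      have hsq : ψ ((k q)⁻¹ * y * k q) ^ 2 = 1 := by
        rw [hψsq _ hm]
        have : ((k q)⁻¹ * y * k q) ^ 2 = 1 := by
          rw [pow_two]
          calc (k q)⁻¹ * y * k q * ((k q)⁻¹ * y * k q) = (k q)⁻¹ * (y * y) * k q := by group
            _ = 1 := by rw [← pow_two, hy2]; group
        rw [this, hψ1]
      by_cases hT : (k q)⁻¹ * y * k q ∈ T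
      · rw [if_neg (by tauto)]
        exact (hψT _ hm).mpr hT
      · rw [if_pos ⟨rfl, hT⟩]
        rcases hΩ _ hsq with h | h
        · exact absurd ((hψT _ hm).mp h) hT
        · exact h
    · rw [if_neg (by omega), h2, hy2]
      have : (k q)⁻¹ * 1 * k q = 1 := by group
      rw [this, hψ1]
  have hprod : (1 : ↥H ⧸ T.subgroupOf H) =
      a₀ ^ (Finset.univ.filter (fun q : Q => n q = 1 ∧ (k q)⁻¹ * y * k q ∉ T)).card := by
    rw [hformula', Finset.prod_congr rfl (fun q _ => hterm q), Finset.prod_ite, Finset.prod_const_one,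
      mul_one, Finset.prod_const]
  have hNout : Even (Finset.univ.filter (fun q : Q => n q = 1 ∧ (k q)⁻¹ * y * k q ∉ T)).card := by
    have ho : orderOf a₀ = 2 := orderOf_eq_prime ha₀sq ha₀ne
    have := orderOf_dvd_iff_pow_eq_one.mpr hprod.symm
    rw [ho] at this
    exact even_iff_two_dvd.mpr this
  -- number of fixed orbits is odd
  have hindex : H.index = ∑ q : Q, n q := Subgroup.index_eq_sum_minimalPeriod H y
  have hoddidx : ¬ 2 ∣ H.index := S.not_dvd_index
  have hsum : ∑ q : Q, n q = (Finset.univ.filter (fun q : Q => n q = 1)).card +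
      2 * (Finset.univ.filter (fun q : Q => ¬ n q = 1)).card := by
    have : ∀ q ∈ (Finset.univ : Finset Q), n q = if n q = 1 then 1 else 2 := by
      intro q _
      rcases hn q with h | h
      · rw [if_pos h, h]
      · rw [if_neg (by omega), h]
    rw [Finset.sum_congr rfl this, Finset.sum_ite, Finset.sum_const, Finset.sum_const]
    simp only [smul_eq_mul, mul_one]
    ring
  have hFin1 : Odd (Finset.univ.filter (fun q : Q => n q = 1)).card := by
    rw [Nat.odd_iff]
    omega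
  have hsplit : (Finset.univ.filter (fun q : Q => n q = 1 ∧ (k q)⁻¹ * y * k q ∈ T)).card +
      (Finset.univ.filter (fun q : Q => n q = 1 ∧ (k q)⁻¹ * y * k q ∉ T)).card =
      (Finset.univ.filter (fun q : Q => n q = 1)).card := by
    rw [← Finset.filter_filter, ← Finset.filter_filter]
    exact Finset.card_filter_add_card_filter_not (fun q : Q => (k q)⁻¹ * y * k q ∈ T)
  have hNin : Odd (Finset.univ.filter (fun q : Q => n q = 1 ∧ (k q)⁻¹ * y * k q ∈ T)).card := by
    rcases hNout with ⟨m, hm⟩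
    rcases hFin1 with ⟨l, hl⟩
    rw [Nat.odd_iff]
    omega
  -- transfer to cosets
  have hout : ∀ c : G ⧸ H, y • c = c → (Quotient.mk'' c : Q).out = c := by
    intro c hc
    have h := Quotient.mk_out (s := orbitRel (zpowers y) (G ⧸ H)) c
    rw [MulAction.orbitRel_apply] at h
    obtain ⟨z, hz⟩ := h
    have hstab : zpowers y ≤ MulAction.stabilizer G c := by
      rw [Subgroup.zpowers_le]
      exact hc
    have hzc : (z : G) • c = c := hstab z.2
    have : z • c = c := hzc
    rw [← hz]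
    exact this
  have hequiv : {q : Q // n q = 1 ∧ (k q)⁻¹ * y * k q ∈ T} ≃
      {c : G ⧸ H // y • c = c ∧ c.out⁻¹ * y * c.out ∈ T} :=
    { toFun := fun q => ⟨q.1.out, (hn1 q.1).mp q.2.1, q.2.2⟩
      invFun := fun c => ⟨Quotient.mk'' c.1, by
        have h := hout c.1 c.2.1
        refine ⟨(hn1 _).mpr (by rw [h]; exact c.2.1), ?_⟩
        show (Quotient.mk'' c.1 : Q).out.out⁻¹ * y * (Quotient.mk'' c.1 : Q).out.out ∈ T
        rw [h]; exact c.2.2⟩
      left_inv := fun q => by
        apply Subtype.ext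
        exact Quotient.out_eq q.1
      right_inv := fun c => by
        apply Subtype.ext
        exact hout c.1 c.2.1 }
  rw [← Nat.card_congr hequiv, Nat.card_eq_fintype_card, Fintype.card_subtype]
  exact hNin


/-- **Thompson transfer lemma.** If `G = O^2(G)`, `S` is a Sylow `2`-subgroup, `T ≤ S` is normal in
`S` with cyclic quotient and `y ∈ S \ T` is an involution, then `y` is `G`-conjugate into `T`. -/
theorem exists_conj_mem_of_pResidual {G : Type*} [Group G] [Finite G] (hO : Cfsg.pResidual 2 G = ⊤)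
    (S : Sylow 2 G) (T : Subgroup G) (hTS : T ≤ S)
    [hTn : (T.subgroupOf (S : Subgroup G)).Normal]
    (hcyc : IsCyclic (↥(S : Subgroup G) ⧸ T.subgroupOf (S : Subgroup G)))
    (y : G) (hy : orderOf y = 2) (hyS : y ∈ S) (hyT : y ∉ T) :
    ∃ g : G, g * y * g⁻¹ ∈ T := by
  have hodd := odd_card_fixed_of_pResidual hO S T hTS hcyc y hy hyS hyT
  have hne : Nonempty {c : G ⧸ (S : Subgroup G) // y • c = c ∧ c.out⁻¹ * y * c.out ∈ T} := by
    by_contra hemp
    rw [not_nonempty_iff] at hemp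
    rw [Nat.card_of_isEmpty] at hodd
    exact (by decide : ¬ Odd 0) hodd
  obtain ⟨⟨c, _, hc⟩⟩ := hne
  exact ⟨c.out⁻¹, by rwa [inv_inv]⟩

/-- **Thompson transfer lemma**, index-two form: if `G = O^2(G)`, `M` is a subgroup of index `2` of
a Sylow `2`-subgroup `S`, then every involution of `S` is `G`-conjugate to an element of `M`. -/
theorem exists_conj_mem_of_index_two {G : Type*} [Group G] [Finite G]
    (hO : Cfsg.pResidual 2 G = ⊤) (S : Sylow 2 G) (M : Subgroup ↥(S : Subgroup G))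
    (hM : M.index = 2) (y : G) (hy : orderOf y = 2) (hyS : y ∈ S) :
    ∃ g : G, ∃ h : g * y * g⁻¹ ∈ (S : Subgroup G), (⟨g * y * g⁻¹, h⟩ : ↥(S : Subgroup G)) ∈ M := by
  by_cases hyM : (⟨y, hyS⟩ : ↥(S : Subgroup G)) ∈ M
  · have e : (1 : G) * y * (1 : G)⁻¹ = y := by group
    refine ⟨1, e.symm ▸ hyS, ?_⟩
    have : (⟨1 * y * 1⁻¹, e.symm ▸ hyS⟩ : ↥(S : Subgroup G)) = ⟨y, hyS⟩ := Subtype.ext e
    rw [this]; exact hyM
  set T : Subgroup G := M.map (S : Subgroup G).subtype with hT
  have hTS : T ≤ S := Subgroup.map_subtype_le _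
  have hTM : T.subgroupOf (S : Subgroup G) = M := by
    ext x
    rw [Subgroup.mem_subgroupOf, hT, Subgroup.mem_map]
    constructor
    · rintro ⟨z, hz, hzx⟩
      have : z = x := Subtype.ext hzx
      rwa [← this]
    · intro hx
      exact ⟨x, hx, rfl⟩
  have hTn : (T.subgroupOf (S : Subgroup G)).Normal := by
    rw [hTM]; exact Subgroup.normal_of_index_eq_two hM
  have hcyc : IsCyclic (↥(S : Subgroup G) ⧸ T.subgroupOf (S : Subgroup G)) := by
    have : Fact (Nat.Prime 2) := ⟨Nat.prime_two⟩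
    apply isCyclic_of_prime_card (p := 2)
    rw [← Subgroup.index_eq_card, hTM, hM]
  have hyT : y ∉ T := by
    intro h
    rw [hT, Subgroup.mem_map] at h
    obtain ⟨z, hz, hzy⟩ := h
    have : z = ⟨y, hyS⟩ := Subtype.ext hzy
    exact hyM (this ▸ hz)
  obtain ⟨g, hg⟩ := exists_conj_mem_of_pResidual hO S T hTS hcyc y hy hyS hyT
  refine ⟨g, hTS hg, ?_⟩
  rw [hT, Subgroup.mem_map] at hg
  obtain ⟨z, hz, hzy⟩ := hg
  have : z = ⟨g * y * g⁻¹, hTS (by rw [hT, Subgroup.mem_map]; exact ⟨z, hz, hzy⟩)⟩ := Subtype.ext hzy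
  exact this ▸ hz

end Cfsg.Agent.Helper31
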