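import Mathlib
import Cfsg.Agent.Lib.Helper7.CWDefs
import Cfsg.Agent.S1587
import Cfsg.Agent.S1588

/-!
# CW (F1): existence of an orthogonal frame of 24 norm-8 vectors, congruent modulo 2
-/

set_option autoImplicit false
open Matrix

namespace Cfsg.Agent.Helper31.CW
open Cfsg Cfsg.Agent.Helper7.CW

theorem frame_exists (B : Matrix (Fin 24) (Fin 24) ℤ) (hsymm : B.IsSymm)
    (hpos : ∀ x : Fin 24 → ℤ, x ≠ 0 → 0 < x ⬝ᵥ (B *ᵥ x))
    (heven : ∀ x : Fin 24 → ℤ, (2 : ℤ) ∣ x ⬝ᵥ (B *ᵥ x))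
    (h2 : ∀ x : Fin 24 → ℤ, x ⬝ᵥ (B *ᵥ x) ≠ 2)
    (h4 : {x : Fin 24 → ℤ | x ⬝ᵥ (B *ᵥ x) = 4}.ncard = 196560)
    (h6 : {x : Fin 24 → ℤ | x ⬝ᵥ (B *ᵥ x) = 6}.ncard = 16773120)
    (h8 : {x : Fin 24 → ℤ | x ⬝ᵥ (B *ᵥ x) = 8}.ncard = 398034000) :
    ∃ v : Fin 24 → V, (∀ i, (v i) ⬝ᵥ (B *ᵥ (v i)) = 8) ∧
      (∀ i j, i ≠ j → (v i) ⬝ᵥ (B *ᵥ (v j)) = 0) ∧
      (∀ i j k, (2 : ℤ) ∣ (v i - v j) k) := by
  classical
  have hne : {x : Fin 24 → ℤ | x ⬝ᵥ (B *ᵥ x) = 8}.Nonempty := by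
    apply Set.nonempty_of_ncard_ne_zero; rw [h8]; norm_num
  obtain ⟨x0, hx0⟩ := hne
  have hx0' : x0 ⬝ᵥ (B *ᵥ x0) = 8 := hx0
  set Fs : Set V := {y : Fin 24 → ℤ | y ⬝ᵥ (B *ᵥ y) = 8 ∧ ∀ i, (2 : ℤ) ∣ (x0 - y) i} with hFs
  have hcard : Fs.ncard = 48 := Cfsg.Agent.S1588.result B hsymm hpos heven h2 h4 h6 h8 x0 hx0'
  have hfin : Fs.Finite := Set.finite_of_ncard_ne_zero (by rw [hcard]; norm_num)
  set F : Finset V := hfin.toFinset with hF
  have hFcard : F.card = 48 := by rw [← hcard, Set.ncard_eq_toFinset_card Fs hfin]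
  have hmemF : ∀ y, y ∈ F ↔ (y ⬝ᵥ (B *ᵥ y) = 8 ∧ ∀ i, (2 : ℤ) ∣ (x0 - y) i) := by
    intro y; rw [hF, Set.Finite.mem_toFinset]; rfl
  have hneg : ∀ y ∈ F, -y ∈ F := by
    intro y hy
    rw [hmemF] at hy ⊢
    refine ⟨?_, fun i => ?_⟩
    · rw [Matrix.mulVec_neg, neg_dotProduct, dotProduct_neg, neg_neg]; exact hy.1
    · obtain ⟨m, hm⟩ := hy.2 i
      refine ⟨m + y i, ?_⟩
      simp only [Pi.sub_apply, Pi.neg_apply] at hm ⊢
      omega
  have hnz : ∀ y ∈ F, y ≠ 0 := by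
    intro y hy h0
    rw [hmemF] at hy
    rw [h0] at hy
    simp at hy
  let pos : V → Prop := fun y => (0 : Lex (Fin 24 → ℤ)) < toLex y
  have hposneg : ∀ y ∈ F, (¬ pos y ↔ pos (-y)) := by
    intro y hy
    have hne0 : toLex y ≠ (0 : Lex (Fin 24 → ℤ)) := by
      intro h0
      apply hnz y hy
      have : toLex y = toLex (0 : Fin 24 → ℤ) := h0
      exact toLex_inj.1 this
    show ¬ ((0 : Lex (Fin 24 → ℤ)) < toLex y) ↔ (0 : Lex (Fin 24 → ℤ)) < toLex (-y)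
    rw [toLex_neg, neg_pos]
    exact ⟨fun hn => lt_of_le_of_ne (not_lt.1 hn) hne0, fun hlt hgt => lt_asymm hlt hgt⟩
  set P := F.filter pos with hP
  have hPcard : P.card = 24 := by
    have h1 : P.card + (F.filter (fun y => ¬ pos y)).card = F.card :=
      Finset.card_filter_add_card_filter_not (s := F) pos
    have h2' : (F.filter (fun y => ¬ pos y)).card = P.card := by
      refine Finset.card_bij' (fun y _ => -y) (fun y _ => -y) ?_ ?_ ?_ ?_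
      · intro y hy
        rw [Finset.mem_filter] at hy
        rw [hP, Finset.mem_filter]
        exact ⟨hneg y hy.1, (hposneg y hy.1).1 hy.2⟩
      · intro y hy
        rw [hP, Finset.mem_filter] at hy
        rw [Finset.mem_filter]
        refine ⟨hneg y hy.1, ?_⟩
        rw [hposneg (-y) (hneg y hy.1), neg_neg]
        exact hy.2
      · intro y _; exact neg_neg y
      · intro y _; exact neg_neg y
    omega
  let e : Fin 24 ≃ {x // x ∈ P} := (P.equivFinOfCardEq hPcard).symm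
  have hvP : ∀ i, (e i : V) ∈ P := fun i => (e i).2
  have hvF : ∀ i, (e i : V) ∈ F := fun i => (Finset.mem_filter.1 (hvP i)).1
  have hvpos : ∀ i, pos (e i : V) := fun i => (Finset.mem_filter.1 (hvP i)).2
  have hcong : ∀ i j k, (2 : ℤ) ∣ ((e i : V) - (e j : V)) k := by
    intro i j k
    obtain ⟨m, hm⟩ := ((hmemF _).1 (hvF i)).2 k
    obtain ⟨n, hn⟩ := ((hmemF _).1 (hvF j)).2 k
    refine ⟨n - m, ?_⟩
    simp only [Pi.sub_apply] at hm hn ⊢
    omega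
  refine ⟨fun i => (e i : V), fun i => ((hmemF _).1 (hvF i)).1, ?_, hcong⟩
  intro i j hij
  have hne : (e j : V) ≠ (e i : V) := by
    intro h
    apply hij
    exact (e.injective (Subtype.ext h)).symm
  rcases Cfsg.Agent.S1587.result B hsymm hpos heven h2 (e i : V) (e j : V)
      ((hmemF _).1 (hvF i)).1 ((hmemF _).1 (hvF j)).1 (hcong i j) with h | h | h
  · exact absurd h hne
  · exfalso
    have h1 : pos (-(e i : V)) := by rw [← h]; exact hvpos j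
    exact ((hposneg _ (hvF i)).2 h1) (hvpos i)
  · exact h

end Cfsg.Agent.Helper31.CW
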