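import Mathlib
import Cfsg.Agent.Lib.Helper7.CWDefs

/-!
# CW (N4b): at most `2^7` minimal vectors over a given octad
-/

set_option autoImplicit false
open Matrix

namespace Cfsg.Agent.Helper31.CW
open Cfsg Cfsg.Agent.Helper7.CW

variable {Λ : AddSubgroup V}

theorem count_oct (h : CL Λ)
    (hK : ∀ a : V, dbl a ∈ Λ → (∀ i, (2 : ℤ) ∣ a i) → (4 : ℤ) ∣ ∑ i, a i)
    (w : Fin 24 → ZMod 2) (hw : hammingNorm w = 8) :
    {a : V | dbl a ∈ Λ ∧ redV a = w ∧ ∑ i, a i ^ 2 = 8}.ncard ≤ 128 := by
  classical
  set T := {a : V | dbl a ∈ Λ ∧ redV a = w ∧ ∑ i, a i ^ 2 = 8} with hT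
  set S : Finset (Fin 24) := Finset.univ.filter (fun i => w i ≠ 0) with hSdef
  have hScard : S.card = 8 := by
    rw [← hw]; rfl
  -- shape of the members
  have hshape : ∀ a ∈ T, (∀ i ∈ S, a i = 1 ∨ a i = -1) ∧ (∀ i, i ∉ S → a i = 0) := by
    rintro a ⟨_, hred, h8⟩
    have hne : ∀ i ∈ S, a i ≠ 0 := by
      intro i hi h0
      have : w i = 0 := by rw [← hred]; simp [redV, h0]
      exact (Finset.mem_filter.1 hi).2 this
    have hterm : ∀ i, 0 ≤ a i ^ 2 - (if i ∈ S then (1 : ℤ) else 0) := by
      intro i
      by_cases hi : i ∈ S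
      · rw [if_pos hi]
        have := hne i hi
        rcases lt_or_gt_of_ne this with hlt | hgt <;> nlinarith
      · rw [if_neg hi]; nlinarith [sq_nonneg (a i)]
    have hsum : ∑ i, (a i ^ 2 - (if i ∈ S then (1 : ℤ) else 0)) = 0 := by
      rw [Finset.sum_sub_distrib, h8, Finset.sum_boole]
      simp [hScard]
    have hzero := (Finset.sum_eq_zero_iff_of_nonneg (fun i _ => hterm i)).1 hsum
    constructor
    · intro i hi
      have := hzero i (Finset.mem_univ i)
      rw [if_pos hi] at this
      have h2 : (a i - 1) * (a i + 1) = 0 := by nlinarith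
      rcases mul_eq_zero.1 h2 with h3 | h3
      · left; omega
      · right; omega
    · intro i hi
      have := hzero i (Finset.mem_univ i)
      rw [if_neg hi] at this
      have h2 : a i ^ 2 = 0 := by linarith
      exact pow_eq_zero_iff (two_ne_zero) |>.1 h2
  obtain ⟨i0, hi0⟩ : S.Nonempty := Finset.card_pos.1 (by omega)
  let g : V → Finset (Fin 24) := fun a => (S.erase i0).filter (fun i => a i = 1)
  have hmaps : Set.MapsTo g T (↑((S.erase i0).powerset) : Set (Finset (Fin 24))) := by
    intro a _
    exact Finset.mem_coe.2 (Finset.mem_powerset.2 (Finset.filter_subset _ _))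
  have hinj : Set.InjOn g T := by
    intro a ha a' ha' hgg
    obtain ⟨hS1, hS0⟩ := hshape a ha
    obtain ⟨hS1', hS0'⟩ := hshape a' ha'
    have hoff : ∀ i, i ≠ i0 → a i = a' i := by
      intro i hii
      by_cases hi : i ∈ S
      · have hmem : i ∈ S.erase i0 := Finset.mem_erase.2 ⟨hii, hi⟩
        have hiff : a i = 1 ↔ a' i = 1 := by
          have h1 : i ∈ g a ↔ a i = 1 := by
            simp only [g, Finset.mem_filter, hmem, true_and]
          have h2 : i ∈ g a' ↔ a' i = 1 := by
            simp only [g, Finset.mem_filter, hmem, true_and]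
          rw [← h1, ← h2, hgg]
        rcases hS1 i hi with h1 | h1 <;> rcases hS1' i hi with h1' | h1'
        · rw [h1, h1']
        · have := hiff.1 h1; omega
        · have := hiff.2 h1'; omega
        · rw [h1, h1']
      · rw [hS0 i hi, hS0' i hi]
    have hdbl : dbl (a - a') ∈ Λ := by
      have : dbl (a - a') = dbl a - dbl a' := by
        funext i; simp only [dbl, Pi.sub_apply]; ring
      rw [this]; exact Λ.sub_mem ha.1 ha'.1
    have hev : ∀ i, (2 : ℤ) ∣ (a - a') i := by
      intro i
      by_cases hii : i = i0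
      · subst hii
        simp only [Pi.sub_apply]
        rcases hS1 i hi0 with h1 | h1 <;> rcases hS1' i hi0 with h1' | h1' <;> rw [h1, h1'] <;>
          norm_num
      · simp only [Pi.sub_apply, hoff i hii, sub_self, dvd_zero]
    have h4 := hK (a - a') hdbl hev
    have hsum : ∑ i, (a - a') i = a i0 - a' i0 := by
      rw [Finset.sum_eq_single i0]
      · rfl
      · intro i _ hii
        simp only [Pi.sub_apply, hoff i hii, sub_self]
      · intro hh; exact absurd (Finset.mem_univ i0) hh
    rw [hsum] at h4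
    funext i
    by_cases hii : i = i0
    · subst hii
      obtain ⟨d, hd⟩ := h4
      rcases hS1 i hi0 with h1 | h1 <;> rcases hS1' i hi0 with h1' | h1' <;> omega
    · exact hoff i hii
  calc T.ncard ≤ (↑((S.erase i0).powerset) : Set (Finset (Fin 24))).ncard :=
        Set.ncard_le_ncard_of_injOn g hmaps hinj (Set.toFinite _)
    _ = 128 := by
        rw [Set.ncard_coe_finset, Finset.card_powerset, Finset.card_erase_of_mem hi0, hScard]
        norm_num

end Cfsg.Agent.Helper31.CW
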