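import Mathlib
import Cfsg.Agent.Lib.Helper7.CWDefs

/-!
# CW (N4d): odd minimal vectors of a Conway lattice: at most `24 * |code|`
-/

set_option autoImplicit false
open Matrix

namespace Cfsg.Agent.Helper31.CW
open Cfsg Cfsg.Agent.Helper7.CW

variable {Λ : AddSubgroup V}

/-- Shape of a vector with all coordinates odd and sum of squares `32`: one `±3`, the others `±1`. -/
theorem odd_shape (y : V) (hodd : ∀ i, Odd (y i)) (h32 : ∑ i, y i ^ 2 = 32) :
    ∃ k, (y k = 3 ∨ y k = -3) ∧ ∀ i, i ≠ k → (y i = 1 ∨ y i = -1) := by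
  classical
  have h1 : ∀ i, 0 ≤ y i ^ 2 - 1 := by
    intro i
    obtain ⟨m, hm⟩ := hodd i
    have hne : y i ≠ 0 := by omega
    rcases lt_or_gt_of_ne hne with hlt | hgt <;> nlinarith
  have hsum : ∑ i, (y i ^ 2 - 1) = 8 := by
    rw [Finset.sum_sub_distrib, h32]; simp
  have h2 : ∀ i, y i ^ 2 - 1 ≤ 8 := by
    intro i
    have := Finset.single_le_sum (f := fun j => y j ^ 2 - 1) (fun j _ => h1 j) (Finset.mem_univ i)
    rw [hsum] at this; exact this
  have hval : ∀ i, y i = 1 ∨ y i = -1 ∨ y i = 3 ∨ y i = -3 := by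
    intro i
    have hb : -3 ≤ y i ∧ y i ≤ 3 := by
      constructor <;> nlinarith [h2 i]
    obtain ⟨m, hm⟩ := hodd i
    omega
  by_cases hex : ∃ k, y k = 3 ∨ y k = -3
  · obtain ⟨k, hk⟩ := hex
    refine ⟨k, hk, fun i hik => ?_⟩
    rcases hval i with h | h | h | h
    · exact Or.inl h
    · exact Or.inr h
    all_goals
      exfalso
      have hsub : ∑ j ∈ ({i, k} : Finset (Fin 24)), (y j ^ 2 - 1) ≤ ∑ j, (y j ^ 2 - 1) :=
        Finset.sum_le_sum_of_subset_of_nonneg (Finset.subset_univ _) (fun j _ _ => h1 j)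
      rw [Finset.sum_pair hik, hsum, h] at hsub
      rcases hk with hk | hk <;> rw [hk] at hsub <;> norm_num at hsub
  · exfalso
    push Not at hex
    have hone : ∀ i, y i ^ 2 = 1 := by
      intro i
      rcases hval i with h | h | h | h
      · rw [h]; norm_num
      · rw [h]; norm_num
      · exact absurd h (hex i).1
      · exact absurd h (hex i).2
    have : ∑ i, y i ^ 2 = 24 := by
      rw [Finset.sum_congr rfl (fun i _ => hone i)]; simp
    omega

theorem count_odd (h : CL Λ) :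
    {y : V | y ∈ Λ ∧ (∃ i, Odd (y i)) ∧ ∑ i, y i ^ 2 = 32}.ncard ≤ 24 * Nat.card (code Λ) := by
  classical
  set S := {y : V | y ∈ Λ ∧ (∃ i, Odd (y i)) ∧ ∑ i, y i ^ 2 = 32} with hS
  rcases S.eq_empty_or_nonempty with hem | ⟨y0, hy0⟩
  · rw [hem]; simp
  have hallodd : ∀ y ∈ S, ∀ i, Odd (y i) := by
    rintro y ⟨hyΛ, ⟨i0, hi0⟩, _⟩ i
    obtain ⟨m, hm⟩ := h.par y hyΛ i i0
    obtain ⟨n, hn⟩ := hi0
    exact ⟨m + n, by omega⟩
  let kk : V → Fin 24 := fun y => if hk : ∃ k, y k = 3 ∨ y k = -3 then hk.choose else 0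
  have hkk : ∀ y ∈ S, (y (kk y) = 3 ∨ y (kk y) = -3) ∧ ∀ i, i ≠ kk y → (y i = 1 ∨ y i = -1) := by
    intro y hy
    obtain ⟨k, hk, hrest⟩ := odd_shape y (hallodd y hy) hy.2.2
    have hex : ∃ k, y k = 3 ∨ y k = -3 := ⟨k, hk⟩
    have hsp : y (kk y) = 3 ∨ y (kk y) = -3 := by
      simp only [kk, dif_pos hex]; exact hex.choose_spec
    have hkeq : kk y = k := by
      by_contra hne
      rcases hrest (kk y) hne with h1 | h1 <;> rcases hsp with h2 | h2 <;> omega
    rw [hkeq]; exact ⟨hk, hrest⟩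
  let cc : V → V := fun y i => (y i - y0 i) / 2
  have hcc : ∀ y ∈ S, ∀ i, y i - y0 i = 2 * cc y i := by
    intro y hy i
    obtain ⟨m, hm⟩ := hallodd y hy i
    obtain ⟨n, hn⟩ := hallodd y0 hy0 i
    simp only [cc]; omega
  let f : V → Fin 24 × (Fin 24 → ZMod 2) := fun y => (kk y, redV (cc y))
  have hmaps : Set.MapsTo f S
      ((Set.univ : Set (Fin 24)) ×ˢ ((code Λ : Submodule (ZMod 2) (Fin 24 → ZMod 2)) :
        Set (Fin 24 → ZMod 2))) := by
    intro y hy
    refine ⟨Set.mem_univ _, ?_⟩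
    show redV (cc y) ∈ code Λ
    refine ⟨cc y, ?_, rfl⟩
    have : dbl (cc y) = y - y0 := by
      funext i
      simp only [dbl, Pi.sub_apply]
      rw [hcc y hy i]
    rw [this]; exact Λ.sub_mem hy.1 hy0.1
  have hinj : Set.InjOn f S := by
    intro y hy y' hy' hff
    simp only [f, Prod.mk.injEq] at hff
    obtain ⟨hk, hr⟩ := hff
    funext i
    have hri : ((cc y i : ℤ) : ZMod 2) = ((cc y' i : ℤ) : ZMod 2) := congrFun hr i
    obtain ⟨d, hd⟩ := (ZMod.intCast_eq_intCast_iff_dvd_sub _ _ 2).1 hri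
    have e1 := hcc y hy i
    have e2 := hcc y' hy' i
    obtain ⟨hy3, hy1⟩ := hkk y hy
    obtain ⟨hy3', hy1'⟩ := hkk y' hy'
    push_cast at hd
    by_cases hik : i = kk y
    · subst hik
      rw [← hk] at hy3'
      rcases hy3 with h3 | h3 <;> rcases hy3' with h3' | h3' <;> omega
    · have hik' : i ≠ kk y' := by rw [← hk]; exact hik
      rcases hy1 i hik with h3 | h3 <;> rcases hy1' i hik' with h3' | h3' <;> omega
  calc S.ncard ≤ ((Set.univ : Set (Fin 24)) ×ˢ ((code Λ : Submodule (ZMod 2) (Fin 24 → ZMod 2)) :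
        Set (Fin 24 → ZMod 2))).ncard :=
        Set.ncard_le_ncard_of_injOn f hmaps hinj (Set.toFinite _)
    _ = 24 * Nat.card (code Λ) := by
        rw [Set.ncard_prod, Set.ncard_univ, Nat.card_eq_fintype_card, Fintype.card_fin]
        congr 1

end Cfsg.Agent.Helper31.CW
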