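import Mathlib
import Cfsg.Agent.Lib.Helper31.HHCliff
import Cfsg.Agent.Lib.Helper7.SGNT
import Cfsg.Agent.Lib.Helper7.SGCOP
import Cfsg.Agent.Lib.Helper80.SGORB
import Cfsg.Agent.Lib.Helper12.SGCLT
import Cfsg.Agent.Lib.Helper57.SGCRIT

set_option autoImplicit false

/-!
# S3793 (Shult–Gross) : the pieces contributed by helper7, helper80, helper12, helper57
-/

namespace Cfsg.Agent.Helper31.SGP

open Module

universe u v w

/-- (NT) number theory: `p` odd, `p ^ n' = 2 ^ b + 1` (so the order of `2` mod `p ^ n'` is `2 b`),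
`p ^ N ∣ 2 ^ D - 1` with `N ≥ n'`, `D ≥ 1`; then `2 b p ^ (N - n') ∣ D`.
Proof: order of 2 mod p^n' is exactly 2b (it divides 2b, and 2^e ≡ 1 mod 2^b+1 forces e > b); so
D = 2 b m; LTE (`padicValNat.pow_sub_pow`, x = 2^(2b), y = 1): v_p(2^D - 1) = v_p(2^(2b) - 1) + v_p(m)
and v_p(2^(2b)-1) = v_p(2^b-1) + n' = n' since 2^b - 1 = p^n' - 2 is prime to p. -/
theorem sg_nt {p : ℕ} (hp : p.Prime) (hp2 : p ≠ 2) {n' b N D : ℕ}
    (hpb : p ^ n' = 2 ^ b + 1) (hN : n' ≤ N) (hD : 1 ≤ D) (hdvd : p ^ N ∣ 2 ^ D - 1) :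
    2 * b * p ^ (N - n') ∣ D := Cfsg.Agent.Helper7.SG.sg_nt hp hp2 hpb hN hD hdvd

/-- (ORB) a permutation `σ` with `σ ^ P = 1`, fixing `a₀`, all of whose powers `σ ^ k`, `0 < k < P`,
fix no other point: `P ∣ |α| - 1`.  (Burnside count as in `Helper48.SympRep.card_orbits`, or orbit
sizes.) -/
theorem sg_semiregular_dvd {α : Type*} [Finite α] (σ : Equiv.Perm α) (P : ℕ) (hP : 0 < P)
    (hσP : σ ^ P = 1) (a₀ : α) (h₀ : σ a₀ = a₀)
    (hfix : ∀ k, 0 < k → k < P → ∀ a, (σ ^ k) a = a → a = a₀) : P ∣ Nat.card α - 1 :=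
  Cfsg.Agent.Helper80.SG.sg_semiregular_dvd σ P hP hσP a₀ h₀ hfix

/-- (COP) coprime action, fixed point in an invariant coset: `y` a `p`-element normalising the finite
`p'`-subgroup `R`, the coset `u R` is `y`-invariant; then some `u r` is centralised by `y`.
Proof: `r ↦ u⁻¹ (y (u r) y⁻¹)` is a self-map `s` of `R` with `s^[p^k] = id`; apply
`Equiv.Perm.card_fixedPoints_modEq` / `IsPGroup.card_modEq_card_fixedPoints`. -/
theorem sg_coset_fixed {G : Type*} [Group G] {p k : ℕ} (hp : p.Prime) (R : Subgroup G) [Finite R]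
    (hpR : ¬ p ∣ Nat.card R) (y u : G) (hy : y ^ p ^ k = 1) (hyR : ∀ r ∈ R, y * r * y⁻¹ ∈ R)
    (hu : u⁻¹ * (y * u * y⁻¹) ∈ R) : ∃ r ∈ R, y * (u * r) * y⁻¹ = u * r :=
  Cfsg.Agent.Helper7.SG.sg_coset_fixed hp R hpR y u hy hyR hu

/-- (CLT) iterated Clifford for a cyclic `p`-power extension: iterate
`Cfsg.Agent.Helper31.HH.clifford_dichotomy` (Lib/Helper31/HHCliff.lean).  Induction on `n`,
generalising over the space: in the induced case pass to the subtype `↥V'` with `subRep τ V'`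
(Lib/Helper31/HHSubQuot.lean), `A ^ p` restricted, `α ^ p`; `V'` is `(τ, A^p)`-irreducible by a
dimension count (`⨆_{i<p} A^i U'' = ⊤` for `0 ≠ U'' ≤ V'` invariant, and `finrank V = p * finrank V'`
by independence); map the answer back with `Submodule.map V'.subtype`. -/
theorem sg_clifford_tower {K : Type w} [Field K] [IsAlgClosed K] (p : ℕ) (hp : p.Prime) :
    ∀ (n : ℕ) (V : Type u) [AddCommGroup V] [Module K V] [FiniteDimensional K V] [Nontrivial V]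
      (M : Type v) [Monoid M] (τ : Representation K M V) (A Ai : Module.End K V)
      (α : Equiv.Perm M),
      HH.Twist τ A Ai α → A ^ (p ^ n) = 1 →
      (∀ U : Submodule K V, HH.Inv τ U → (∀ u ∈ U, A u ∈ U) → U = ⊥ ∨ U = ⊤) →
      ∃ j ≤ n, ∃ V₀ : Submodule K V, HH.Simple τ V₀ ∧ (∀ v ∈ V₀, (A ^ p ^ j) v ∈ V₀) ∧
        (⨆ i ∈ Finset.range (p ^ j), V₀.map (A ^ i)) = ⊤ ∧
        p ^ j * finrank K V₀ = finrank K V := Cfsg.Agent.Helper12.SG.sg_clifford_tower p hp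

/-- (CRIT) the critical case for an element of prime-power order: generalise
`Helper48.SympRep.card_quot_le` / `core2_K` from prime `r` to `P = p ^ n'` (semiregular action of
`⟨y⟩` on `Qs / S`, so `#orbits * P = |Qs/S| + (P - 1)`), and add the LOWER bound:
`d ≤ dim centr (ψ y) ≤ #orbits * 1` (eigenbasis, `unitEnd b i i`; commutant = scalars by Schur) gives
`d P ≤ d² + P - 1`, i.e. `P ≤ d + 1`; the upper bound `|Qs/S| ≤ (P-1)²` and `|Qs/S| = d²`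
(`card_eq_card_mul_sq` pattern) give `d ≤ P - 1`. Eigenvalue `1` does not occur by `hfix`, so the
eigenvalues lie in `(nthRootsFinset P 1).erase 1`. -/
theorem sg_crit {K : Type*} [Field K] [IsAlgClosed K] {M : Type*} [AddCommGroup M] [Module K M]
    [FiniteDimensional K M] {Γ : Type*} [Group Γ] (ψ : Γ →* Module.End K M) (Qs : Subgroup Γ)
    [Finite Qs] (y : Γ) {p n' : ℕ} (hp : p.Prime) (hQK : (Nat.card Qs : K) ≠ 0)
    (hpK : (p : K) ≠ 0) (hy : y ^ p ^ n' = 1) (hyQ : ∀ u ∈ Qs, y * u * y⁻¹ ∈ Qs)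
    (hirr : ∀ N : Submodule K M, (∀ u ∈ Qs, ∀ v ∈ N, ψ u v ∈ N) → N = ⊥ ∨ N = ⊤)
    (hcs : ∀ u ∈ Qs, ∀ w ∈ Qs, ∃ l : K, ψ (u * w * u⁻¹ * w⁻¹) = l • 1)
    (hsemi : ∀ k, 0 < k → k < p ^ n' → ∀ u ∈ Qs,
      (∃ l : K, ψ (y ^ k * u * (y ^ k)⁻¹ * u⁻¹) = l • 1) → ∃ l : K, ψ u = l • 1)
    (hfix : ∀ m : M, ψ y m = m → m = 0) (hd : 1 < finrank K M)
    (S : Subgroup Γ) (hSQ : S ≤ Qs) (hS : ∀ u ∈ Qs, u ∈ S ↔ ∃ l : K, ψ u = l • 1) :
    finrank K M + 1 = p ^ n' ∧ Nat.card Qs = Nat.card S * (finrank K M) ^ 2 :=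
  Cfsg.Agent.Helper57.SG.sg_crit ψ Qs y hp hQK hpK hy hyQ hirr hcs hsemi hfix hd S hSQ hS

end Cfsg.Agent.Helper31.SGP
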