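import Mathlib
import Cfsg.Agent.Lib.Helper31.HHQPow
import Cfsg.Agent.Lib.Helper31.HHGrp
import Cfsg.Agent.Lib.Helper31.HHCore1
import Cfsg.Agent.Lib.Helper31.SGPieces

set_option autoImplicit false

/-!
# Shult–Gross: the block lemma (critical case inside one Clifford block)
-/

namespace Cfsg.Agent.Helper31.SG

open Module Subgroup
open Cfsg.Agent.Helper31.HH

variable {K : Type*} [Field K]

/-- Iterating the invariance of a coset. -/
theorem iter_coset {G : Type*} [Group G] (Z : Subgroup G) (t g : G)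
    (hZt : ∀ z ∈ Z, t * z * t⁻¹ ∈ Z) (h : g⁻¹ * (t * g * t⁻¹) ∈ Z) (m : ℕ) :
    g⁻¹ * (t ^ m * g * (t ^ m)⁻¹) ∈ Z := by
  induction m with
  | zero => simp
  | succ m ih =>
    have h1 := hZt _ ih
    have h2 := Z.mul_mem h h1
    convert h2 using 1
    rw [pow_succ']
    group

/-- The block lemma: inside an irreducible block for `Qs`, normalised by `y` of order `p ^ (n'+1)`
acting without fixed vectors, in the minimal situation, the degree is `p ^ (n'+1) - 1` and the index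
of the scalar subgroup is the square of the degree. -/
theorem blk_abs [IsAlgClosed K] {M : Type*} [AddCommGroup M] [Module K M] [FiniteDimensional K M]
    {Γ : Type*} [Group Γ] (ψ : Representation K Γ M) (Qs : Subgroup Γ) [Finite Qs] (y : Γ)
    {p q n' : ℕ} [hp : Fact p.Prime] [hq : Fact q.Prime] (hpq : p ≠ q)
    (hQ : IsPGroup q Qs) (hqK : (q : K) ≠ 0) (hpK : (p : K) ≠ 0)
    (hy : orderOf y = p ^ (n' + 1)) (hyQ : ∀ u ∈ Qs, y * u * y⁻¹ ∈ Qs)
    (hirr : ∀ N : Submodule K M, (∀ u ∈ Qs, ∀ v ∈ N, ψ u v ∈ N) → N = ⊥ ∨ N = ⊤)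
    (hcen : ∀ g ∈ Qs, g * y ^ p ^ n' = y ^ p ^ n' * g → ∀ h ∈ Qs, g * h = h * g)
    (hcomm : ∀ a ∈ Qs, ∀ b ∈ Qs,
      (a * b * a⁻¹ * b⁻¹) * y ^ p ^ n' = y ^ p ^ n' * (a * b * a⁻¹ * b⁻¹))
    (hfix : ∀ m : M, ψ y m = m → m = 0) (hd : 1 < finrank K M) :
    haveI : Nontrivial M := Module.nontrivial_of_finrank_pos (R := K) (by omega)
    finrank K M + 1 = p ^ (n' + 1) ∧
      Nat.card Qs = Nat.card ↥(Qs ⊓ scalarSubgroup ψ) * (finrank K M) ^ 2 ∧
      (∀ g ∈ Qs, (∀ h ∈ Qs, g * h = h * g) → g ∈ scalarSubgroup ψ) ∧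
      (∃ a ∈ Qs, ∃ b ∈ Qs, ∃ c : K, c ≠ 1 ∧ ψ (a * b * a⁻¹ * b⁻¹) = c • 1) ∧
      ∃ b : ℕ, finrank K M = q ^ b := by
  haveI : Nontrivial M := Module.nontrivial_of_finrank_pos (R := K) (by omega)
  set y₀ := y ^ p ^ n' with hy₀
  -- Schur
  have hschur : ∀ g ∈ Qs, (∀ h ∈ Qs, g * h = h * g) → ∃ l : K, ψ g = l • 1 := by
    intro g hg hgc
    set σ : Representation K Qs M := ψ.comp Qs.subtype with hσ
    have hirrσ : Irr σ := by
      intro W hW
      apply hirr W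
      intro u hu v hv
      exact hW ⟨u, hu⟩ ⟨v, hv, rfl⟩
    apply hirrσ.schur (ψ g)
    intro h
    show ψ g * ψ (h : Γ) = ψ (h : Γ) * ψ g
    rw [← map_mul, ← map_mul, hgc h h.2]
  have hcardK : (Nat.card Qs : K) ≠ 0 := by
    obtain ⟨k, hk⟩ := IsPGroup.iff_card.mp hQ
    rw [hk, Nat.cast_pow]
    exact pow_ne_zero _ hqK
  have hyP : y ^ p ^ (n' + 1) = 1 := by rw [← hy, pow_orderOf_eq_one]
  have hy₀p : y₀ ^ p ^ 1 = 1 := by rw [hy₀, pow_one, ← pow_mul, ← pow_succ, hyP]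
  set R : Subgroup Γ := Qs ⊓ scalarSubgroup ψ with hR
  haveI : Finite ↥R :=
    Finite.of_injective (Subgroup.inclusion (inf_le_left : R ≤ Qs)) (Subgroup.inclusion_injective _)
  have hpR : ¬ p ∣ Nat.card ↥R := by
    have hRq : IsPGroup q R := hQ.to_le inf_le_left
    obtain ⟨k, hk⟩ := IsPGroup.iff_card.mp hRq
    rw [hk]
    intro hdvd
    have := (Nat.prime_dvd_prime_iff_eq hp.out hq.out).mp (hp.out.dvd_of_dvd_pow hdvd)
    exact hpq this
  have hRpow : ∀ k : ℕ, ∀ z ∈ R, y ^ k * z * (y ^ k)⁻¹ ∈ R := by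
    intro k z hz
    exact ⟨pow_conj_mem Qs y hyQ k z hz.1, (scalarSubgroup_normal ψ).conj_mem z hz.2 _⟩
  have hcs : ∀ u ∈ Qs, ∀ w ∈ Qs, ∃ l : K, ψ (u * w * u⁻¹ * w⁻¹) = l • 1 := by
    intro u hu w hw
    have hc : u * w * u⁻¹ * w⁻¹ ∈ Qs :=
      Qs.mul_mem (Qs.mul_mem (Qs.mul_mem hu hw) (Qs.inv_mem hu)) (Qs.inv_mem hw)
    exact hschur _ hc (hcen _ hc (hcomm u hu w hw))
  set σ' : Representation K Qs M := ψ.comp Qs.subtype with hσ'
  have hirrσ' : Irr σ' := by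
    intro W hW
    apply hirr W
    intro u hu v hv
    exact hW ⟨u, hu⟩ ⟨v, hv, rfl⟩
  have hnonab : ∃ a ∈ Qs, ∃ b ∈ Qs, ∃ c : K, c ≠ 1 ∧ ψ (a * b * a⁻¹ * b⁻¹) = c • 1 := by
    by_contra hcon
    push Not at hcon
    have hall : ∀ a ∈ Qs, ∀ b ∈ Qs, ψ a * ψ b = ψ b * ψ a := by
      intro a ha b hb
      obtain ⟨l, hl⟩ := hcs a ha b hb
      have hl1 : l = 1 := by
        by_contra hne
        exact hcon a ha b hb l hne hl
      rw [hl1, one_smul] at hl
      have h1 : a * b = (a * b * a⁻¹ * b⁻¹) * (b * a) := by group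
      rw [← map_mul, h1, map_mul, hl, one_mul, map_mul]
    have hsc : ∀ g : Qs, ∃ μ : K, σ' g = μ • 1 := by
      intro g
      apply hirrσ'.schur (σ' g)
      intro h
      exact hall g g.2 h h.2
    have := finrank_eq_one_of_scalar hirrσ' hsc
    omega
  have key : finrank K M + 1 = p ^ (n' + 1) ∧
      Nat.card Qs = Nat.card ↥R * (finrank K M) ^ 2 := by
    refine SGP.sg_crit ψ Qs y hp.out hcardK hpK hyP hyQ hirr hcs ?_ hfix hd R inf_le_left ?_
    · -- semiregularity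
      intro k hk0 hkP u hu hsc
      set t := y ^ k with ht
      have ht1 : t ≠ 1 := by
        intro h1
        have h2 := orderOf_dvd_of_pow_eq_one h1
        rw [hy] at h2
        have := Nat.le_of_dvd hk0 h2
        omega
      have htz : t ∈ zpowers y := Subgroup.pow_mem _ (mem_zpowers y) k
      have hy₀t : y₀ ∈ zpowers t := pow_mem_zpowers_of_ne_one hy htz ht1
      have hfin : IsOfFinOrder t := by
        apply IsOfFinOrder.pow
        rw [← orderOf_pos_iff, hy]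
        exact pow_pos hp.out.pos _
      rw [← hfin.mem_powers_iff_mem_zpowers, Submonoid.mem_powers_iff] at hy₀t
      obtain ⟨m, hm⟩ := hy₀t
      have hcR : t * u * t⁻¹ * u⁻¹ ∈ R := by
        refine ⟨?_, hsc⟩
        exact Qs.mul_mem (pow_conj_mem Qs y hyQ k u hu) (Qs.inv_mem hu)
      have h1 : u⁻¹ * (t * u * t⁻¹) ∈ R := by
        have h2 : u⁻¹ * (t * u * t⁻¹ * u⁻¹) * u⁻¹⁻¹ ∈ R :=
          ⟨Qs.mul_mem (Qs.mul_mem (Qs.inv_mem hu) hcR.1) (Qs.inv_mem (Qs.inv_mem hu)),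
            (scalarSubgroup_normal ψ).conj_mem _ hcR.2 _⟩
        convert h2 using 1
        group
      have h3 := iter_coset R t u (hRpow k) h1 m
      rw [hm] at h3
      obtain ⟨r, hr, hfixed⟩ := SGP.sg_coset_fixed hp.out R hpR y₀ u hy₀p (hRpow _) h3
      have hurQ : u * r ∈ Qs := Qs.mul_mem hu hr.1
      have hcomm' : u * r * y₀ = y₀ * (u * r) := by
        have := congrArg (fun z => z * y₀) hfixed
        simp only [inv_mul_cancel_right] at this
        exact this.symm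
      obtain ⟨l, hl⟩ := hschur _ hurQ (hcen _ hurQ hcomm')
      have hurS : u * r ∈ scalarSubgroup ψ := ⟨l, hl⟩
      have huS : u ∈ scalarSubgroup ψ := by
        have := (scalarSubgroup ψ).mul_mem hurS ((scalarSubgroup ψ).inv_mem hr.2)
        simpa using this
      exact huS
    · intro u hu
      constructor
      · intro h
        exact h.2
      · intro h
        exact ⟨hu, h⟩
  exact ⟨key.1, key.2, fun g hg hgc => hschur g hg hgc, hnonab,
    finrank_eq_prime_pow q (finrank K M) M Qs hQ σ' hirrσ' rfl⟩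

end Cfsg.Agent.Helper31.SG
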