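import Mathlib
import Cfsg.Agent.Lib.Helper31.SGFin1
import Cfsg.Agent.Lib.Helper31.HHCore3

set_option autoImplicit false

/-!
# Shult–Gross: the block lemma at the level of the group, and two facts on block decompositions
-/

namespace Cfsg.Agent.Helper31.SG

open Module Subgroup Finset
open Cfsg.Agent.Helper31.HH

variable {K : Type*} [Field K]

theorem sum_pow_fixed {V : Type*} [AddCommGroup V] [Module K V] (A : End K V) (J : ℕ) (v : V)
    (hv : (A ^ J) v = v) : A (∑ i ∈ range J, (A ^ i) v) = ∑ i ∈ range J, (A ^ i) v := by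
  have h1 : A (∑ i ∈ range J, (A ^ i) v) = ∑ i ∈ range J, (A ^ (i + 1)) v := by
    rw [map_sum]
    apply Finset.sum_congr rfl
    intro i _
    rw [pow_succ', Module.End.mul_apply]
  have h2 := Finset.sum_range_succ' (fun i => (A ^ i) v) J
  have h3 := Finset.sum_range_succ (fun i => (A ^ i) v) J
  simp only [pow_zero, Module.End.one_apply] at h2
  rw [h1]
  have h4 : ∑ i ∈ range J, (A ^ (i + 1)) v + v = ∑ i ∈ range J, (A ^ i) v + v := by
    rw [← h2, h3, hv]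
  exact add_right_cancel h4

/-- In a block decomposition with the right dimension, the blocks are independent. -/
theorem block_inj {V : Type*} [AddCommGroup V] [Module K V] [FiniteDimensional K V]
    (A : End K V) (V₀ : Submodule K V) (J : ℕ) (hJ : 0 < J)
    (hsup : (⨆ i ∈ range J, V₀.map (A ^ i)) = ⊤) (hdim : J * finrank K V₀ = finrank K V) :
    ∀ v ∈ V₀, ∑ i ∈ range J, (A ^ i) v = 0 → v = 0 := by
  classical
  set L : (Fin J → V₀) →ₗ[K] V :=
    ∑ i : Fin J, ((A ^ (i : ℕ)) ∘ₗ V₀.subtype) ∘ₗ (LinearMap.proj i : (Fin J → V₀) →ₗ[K] V₀)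
    with hL
  have hLapp : ∀ f : Fin J → V₀, L f = ∑ i : Fin J, (A ^ (i : ℕ)) (f i : V) := by
    intro f
    simp [hL, LinearMap.sum_apply]
  have hsurj : Function.Surjective L := by
    rw [← LinearMap.range_eq_top, eq_top_iff, ← hsup]
    apply iSup₂_le
    intro i hi
    rw [Finset.mem_range] at hi
    rintro _ ⟨v, hv, rfl⟩
    refine ⟨Pi.single (⟨i, hi⟩ : Fin J) ⟨v, hv⟩, ?_⟩
    rw [hLapp, Finset.sum_eq_single (⟨i, hi⟩ : Fin J)]
    · simp
    · intro b _ hb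
      simp [Pi.single_eq_of_ne hb]
    · intro h
      exact absurd (Finset.mem_univ _) h
  have hfr : finrank K (Fin J → V₀) = finrank K V := by
    rw [Module.finrank_pi_fintype, Finset.sum_const, Finset.card_univ, Fintype.card_fin,
      smul_eq_mul, hdim]
  have hinj : Function.Injective L :=
    (LinearMap.injective_iff_surjective_of_finrank_eq_finrank hfr).mpr hsurj
  intro v hv hsum
  have h1 : L (fun _ => ⟨v, hv⟩) = 0 := by
    rw [hLapp]
    rw [← hsum, Finset.sum_range]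
  have h2 : (fun _ : Fin J => (⟨v, hv⟩ : V₀)) = 0 := by
    apply hinj
    rw [h1, map_zero]
  have h3 := congrFun h2 ⟨0, hJ⟩
  exact congrArg Subtype.val h3

/-- The block lemma, at the level of the ambient group. -/
theorem blk_G [IsAlgClosed K] {V : Type*} [AddCommGroup V] [Module K V] [FiniteDimensional K V]
    {G : Type*} [Group G] [Finite G] (ρ : Representation K G V) (Q : Subgroup G) [hQn : Q.Normal]
    {p q : ℕ} [hp : Fact p.Prime] [hq : Fact q.Prime] (hpq : p ≠ q) (hQ : IsPGroup q Q)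
    (hqK : (q : K) ≠ 0) (hpK : (p : K) ≠ 0) (y : G) (m : ℕ) (hy : orderOf y = p ^ (m + 1))
    (U : Submodule K V) (hUQ : ∀ g ∈ Q, ∀ u ∈ U, ρ g u ∈ U) (hUy : ∀ u ∈ U, ρ y u ∈ U)
    (hUirr : ∀ U' : Submodule K V, U' ≤ U → (∀ g ∈ Q, ∀ u ∈ U', ρ g u ∈ U') → U' = ⊥ ∨ U' = U)
    (hcen : ∀ g ∈ Q, g * y ^ p ^ m = y ^ p ^ m * g → ∀ h ∈ Q, g * h = h * g)
    (hcomm : ∀ a ∈ Q, ∀ b ∈ Q,
      (a * b * a⁻¹ * b⁻¹) * y ^ p ^ m = y ^ p ^ m * (a * b * a⁻¹ * b⁻¹))
    (hfix : ∀ u ∈ U, ρ y u = u → u = 0) (hd : 1 < finrank K U) :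
    finrank K U + 1 = p ^ (m + 1) ∧ (∃ b : ℕ, finrank K U = q ^ b) ∧
    (∃ a ∈ Q, ∃ b ∈ Q, ∃ c : K, c ≠ 1 ∧ ∀ u ∈ U, ρ (a * b * a⁻¹ * b⁻¹) u = c • u) ∧
    ∃ R : Subgroup G, R ≤ Q ∧ (∀ g ∈ Q, g ∈ R ↔ ∃ l : K, ∀ u ∈ U, ρ g u = l • u) ∧
      (∀ g ∈ Q, (∀ h ∈ Q, g * h = h * g) → g ∈ R) ∧
      Nat.card Q = Nat.card R * (finrank K U) ^ 2 := by
  haveI : Nontrivial U := Module.nontrivial_of_finrank_pos (R := K) (by omega)
  set Γ : Subgroup G := stab ρ U with hΓ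
  have hQΓ : Q ≤ Γ := fun g hg => (mem_stab ρ U).mpr (hUQ g hg)
  have hyΓ : y ∈ Γ := (mem_stab ρ U).mpr hUy
  set φ : Representation K Γ V := ρ.comp Γ.subtype with hφ
  have hInv : Inv φ U := inv_comp_stab ρ U
  set ψ : Representation K Γ U := subRep φ U hInv with hψ
  set Qs : Subgroup Γ := Q.subgroupOf Γ with hQs
  set y' : Γ := ⟨y, hyΓ⟩ with hy'
  have hψapp : ∀ (a : Γ) (u : U), ((ψ a u : U) : V) = ρ (a : G) (u : V) := fun a u => rfl
  have hQsp : IsPGroup q Qs := hQ.comap_subtype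
  have hy'ord : orderOf y' = p ^ (m + 1) := by
    rw [← hy]
    exact (Subgroup.orderOf_coe y').symm
  have hy'Q : ∀ u ∈ Qs, y' * u * y'⁻¹ ∈ Qs := by
    intro u hu
    rw [hQs, mem_subgroupOf] at hu ⊢
    have := hQn.conj_mem _ hu y
    simpa [hy'] using this
  have hirr' : ∀ N : Submodule K U, (∀ u ∈ Qs, ∀ v ∈ N, ψ u v ∈ N) → N = ⊥ ∨ N = ⊤ := by
    intro N hN
    have h1 : N.map U.subtype ≤ U := by
      rintro _ ⟨v, _, rfl⟩
      exact v.2
    have h2 : ∀ g ∈ Q, ∀ u ∈ N.map U.subtype, ρ g u ∈ N.map U.subtype := by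
      rintro g hg _ ⟨v, hv, rfl⟩
      exact ⟨ψ ⟨g, hQΓ hg⟩ v, hN ⟨g, hQΓ hg⟩ (mem_subgroupOf.mpr hg) v hv, rfl⟩
    rcases hUirr _ h1 h2 with h | h
    · left
      apply Submodule.map_injective_of_injective U.injective_subtype
      rw [h, Submodule.map_bot]
    · right
      apply Submodule.map_injective_of_injective U.injective_subtype
      rw [h, Submodule.map_subtype_top]
  have hpowcoe : ((y' ^ p ^ m : Γ) : G) = y ^ p ^ m := by
    rw [Subgroup.coe_pow]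
  have hcen' : ∀ g ∈ Qs, g * y' ^ p ^ m = y' ^ p ^ m * g → ∀ h ∈ Qs, g * h = h * g := by
    intro g hg hgy h hh
    apply Subtype.ext
    rw [Subgroup.coe_mul, Subgroup.coe_mul]
    apply hcen g (mem_subgroupOf.mp hg) _ h (mem_subgroupOf.mp hh)
    have := congrArg (fun z : Γ => (z : G)) hgy
    simpa only [Subgroup.coe_mul, hpowcoe] using this
  have hcomm' : ∀ a ∈ Qs, ∀ b ∈ Qs,
      (a * b * a⁻¹ * b⁻¹) * y' ^ p ^ m = y' ^ p ^ m * (a * b * a⁻¹ * b⁻¹) := by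
    intro a ha b hb
    apply Subtype.ext
    have := hcomm a (mem_subgroupOf.mp ha) b (mem_subgroupOf.mp hb)
    simpa only [Subgroup.coe_mul, Subgroup.coe_inv, hpowcoe] using this
  have hfix' : ∀ u : U, ψ y' u = u → u = 0 := by
    intro u hu
    apply Subtype.ext
    apply hfix u u.2
    have := congrArg (fun z : U => (z : V)) hu
    simpa [hψapp] using this
  obtain ⟨h1, h2, h3, ⟨a, ha, b, hb, c, hc1, hc⟩, h5⟩ :=
    blk_abs ψ Qs y' hpq hQsp hqK hpK hy'ord hy'Q hirr' hcen' hcomm' hfix' hd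
  refine ⟨h1, h5, ?_, ?_⟩
  · refine ⟨a, mem_subgroupOf.mp ha, b, mem_subgroupOf.mp hb, c, hc1, ?_⟩
    intro u hu
    have := congrArg (fun f : End K U => ((f ⟨u, hu⟩ : U) : V)) hc
    simpa [hψapp] using this
  · set S : Subgroup Γ := Qs ⊓ scalarSubgroup ψ with hS
    refine ⟨S.map Γ.subtype, ?_, ?_, ?_, ?_⟩
    · rintro _ ⟨s, hs, rfl⟩
      exact mem_subgroupOf.mp hs.1
    · intro g hg
      constructor
      · rintro ⟨s, ⟨_, ⟨l, hl⟩⟩, rfl⟩
        refine ⟨l, ?_⟩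
        intro u hu
        have := congrArg (fun f : End K U => ((f ⟨u, hu⟩ : U) : V)) hl
        simpa [hψapp] using this
      · rintro ⟨l, hl⟩
        refine ⟨⟨g, hQΓ hg⟩, ⟨mem_subgroupOf.mpr hg, ⟨l, ?_⟩⟩, rfl⟩
        apply LinearMap.ext
        intro u
        apply Subtype.ext
        rw [hψapp]
        simpa using hl u u.2
    · intro g hg hgc
      refine ⟨⟨g, hQΓ hg⟩, ⟨mem_subgroupOf.mpr hg, ?_⟩, rfl⟩
      apply h3 ⟨g, hQΓ hg⟩ (mem_subgroupOf.mpr hg)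
      intro h hh
      apply Subtype.ext
      rw [Subgroup.coe_mul, Subgroup.coe_mul]
      exact hgc h (mem_subgroupOf.mp hh)
    · have e1 : Nat.card Qs = Nat.card Q := Nat.card_congr (subgroupOfEquivOfLe hQΓ).toEquiv
      have e2 : Nat.card S = Nat.card (S.map Γ.subtype) :=
        Nat.card_congr (Subgroup.equivMapOfInjective _ Γ.subtype Γ.subtype_injective).toEquiv
      rw [← e1, ← e2]
      exact h2

end Cfsg.Agent.Helper31.SG
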