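import Mathlib
import Cfsg.Agent.Lib.Helper31.SGFin2
import Cfsg.Agent.Lib.Helper31.SGDefs
import Cfsg.Agent.Lib.Helper31.HHCore4

set_option autoImplicit false
set_option maxHeartbeats 1600000

/-!
# Shult–Gross: the minimal faithful irreducible configuration is impossible
-/

namespace Cfsg.Agent.Helper31.SG

open Module Subgroup Finset
open Cfsg.Agent.Helper31.HH

universe uG uK uV

variable {K : Type*} [Field K]

theorem ext_of_blocks {V : Type*} [AddCommGroup V] [Module K V] (A : End K V)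
    (V₀ : Submodule K V) (J : ℕ) (hsup : (⨆ i ∈ range J, V₀.map (A ^ i)) = ⊤) (f g : End K V)
    (h : ∀ i < J, ∀ v ∈ V₀.map (A ^ i), f v = g v) : f = g := by
  have hle : (⊤ : Submodule K V) ≤ LinearMap.eqLocus f g := by
    rw [← hsup]
    apply iSup₂_le
    intro i hi
    intro v hv
    exact h i (Finset.mem_range.mp hi) v hv
  apply LinearMap.ext
  intro v
  exact LinearMap.mem_eqLocus.mp (hle (Submodule.mem_top (x := v)))

theorem commute_of_finrank_one {V : Type*} [AddCommGroup V] [Module K V] (U : Submodule K V)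
    (hU : finrank K U = 1) (f g : End K V) (hf : ∀ u ∈ U, f u ∈ U) (hg : ∀ u ∈ U, g u ∈ U) :
    ∀ u ∈ U, f (g u) = g (f u) := by
  obtain ⟨v₀, hv₀, hspan⟩ := finrank_eq_one_iff'.mp hU
  obtain ⟨a, ha⟩ := hspan ⟨f v₀, hf v₀ v₀.2⟩
  obtain ⟨b, hb⟩ := hspan ⟨g v₀, hg v₀ v₀.2⟩
  have ha' : f (v₀ : V) = a • (v₀ : V) := (congrArg Subtype.val ha).symm
  have hb' : g (v₀ : V) = b • (v₀ : V) := (congrArg Subtype.val hb).symm
  intro u hu
  obtain ⟨c, hc⟩ := hspan ⟨u, hu⟩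
  have hc' : u = c • (v₀ : V) := (congrArg Subtype.val hc).symm
  simp only [hc', map_smul, ha', hb', smul_smul]
  congr 1
  ring

/-- The minimal faithful irreducible configuration is impossible. -/
theorem sg_final {K : Type uK} [Field K] [IsAlgClosed K] (p q r : ℕ) [hp : Fact p.Prime]
    [hq : Fact q.Prime] [hr : Fact r.Prime] (hp2 : p ≠ 2) (hpq : p ≠ q) (hqr : q ≠ r)
    (hpr : p ≠ r) [CharP K r] : FinalStmt.{uG, uK, uV} K p q := by
  intro V _ _ _ _ G _ _ ρ hfaith Q hQn hQ x n hgen hx hNC hminQ hirrG hfixV hfixQ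
  classical
  have hxP : x ^ p ^ (n + 1) = 1 := by rw [← hx, pow_orderOf_eq_one]
  set y := x ^ p ^ n with hy
  have hxy : x * y = y * x := by rw [hy, ← pow_succ', ← pow_succ]
  have hyp : y ^ p = 1 := by rw [hy, ← pow_mul, ← pow_succ, hxP]
  have hC := centralizer_le_center_of_minimal hpq Q hQ x y hxy hyp hNC hminQ
  have hqK : (q : K) ≠ 0 := by
    intro h0
    have h1 := (CharP.cast_eq_zero_iff K r q).mp h0
    exact hqr ((Nat.prime_dvd_prime_iff_eq hr.out hq.out).mp h1).symm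
  have hpK : (p : K) ≠ 0 := by
    intro h0
    have h1 := (CharP.cast_eq_zero_iff K r p).mp h0
    exact hpr ((Nat.prime_dvd_prime_iff_eq hr.out hp.out).mp h1).symm
  have hQx : ∀ g ∈ Q, x * g * x⁻¹ ∈ Q := fun g hg => hQn.conj_mem g hg x
  -- commutators are centralised by `y`
  have hcommY : ∀ a ∈ Q, ∀ b ∈ Q, (a * b * a⁻¹ * b⁻¹) * y = y * (a * b * a⁻¹ * b⁻¹) := by
    have hQne : Q ≠ ⊥ := by
      obtain ⟨g, hg, hgne⟩ := hNC
      intro h
      rw [h, mem_bot] at hg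
      apply hgne
      rw [hg, one_mul, mul_one]
    haveI : Nontrivial Q := (Subgroup.nontrivial_iff_ne_bot Q).mpr hQne
    haveI : Group.IsNilpotent Q := hQ.isNilpotent
    have hlt : commutator Q < ⊤ := IsSolvable.commutator_lt_top_of_nontrivial Q
    have hD : ⁅Q, Q⁆ ≠ Q := by
      intro h
      have h1 := Subgroup.map_subtype_commutator Q
      rw [h] at h1
      have : commutator Q = ⊤ := by
        apply Subgroup.map_injective Q.subtype_injective
        rw [h1, ← MonoidHom.range_eq_map, Subgroup.range_subtype]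
      exact hlt.ne this
    have hDle : ⁅Q, Q⁆ ≤ Q := Subgroup.commutator_le_self Q
    have hDx : ∀ g ∈ ⁅Q, Q⁆, x * g * x⁻¹ ∈ ⁅Q, Q⁆ :=
      fun g hg => (Subgroup.commutator_normal Q Q).conj_mem g hg x
    intro a ha b hb
    have hmem : a * b * a⁻¹ * b⁻¹ ∈ ⁅Q, Q⁆ := Subgroup.commutator_mem_commutator ha hb
    exact hminQ _ hDle hD hDx _ hmem
  -- the Clifford tower
  set τ : Representation K Q V := ρ.comp Q.subtype with hτ
  set A : End K V := ρ x with hA
  set Ai : End K V := ρ x⁻¹ with hAi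
  set α : Equiv.Perm Q := (MulAut.conjNormal x : MulAut Q).toEquiv with hα
  have hTw : Twist τ A Ai α := by
    refine ⟨?_, ?_, ?_⟩
    · rw [hA, hAi, ← map_mul, mul_inv_cancel, map_one]
    · rw [hA, hAi, ← map_mul, inv_mul_cancel, map_one]
    · intro g
      show ρ x * ρ (g : G) = ρ ((α g : Q) : G) * ρ x
      rw [← map_mul, ← map_mul]
      congr 1
      have : ((α g : Q) : G) = x * g * x⁻¹ := MulAut.conjNormal_apply x g
      rw [this]
      group
  have hAP : A ^ (p ^ (n + 1)) = 1 := by rw [hA, ← map_pow, hxP, map_one]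
  have hirr' : ∀ U : Submodule K V, Inv τ U → (∀ u ∈ U, A u ∈ U) → U = ⊥ ∨ U = ⊤ := by
    intro U hU hAU
    apply hirrG
    exact inv_of_gen ρ Q x hgen U (fun g hg u hu => hU ⟨g, hg⟩ u hu) hAU
  obtain ⟨j, hj, V₀, hV₀, hV₀A, hsup, hdim⟩ :=
    SGP.sg_clifford_tower p hp.out (n + 1) V Q τ A Ai α hTw hAP hirr'
  set J := p ^ j with hJ
  have hJpos : 0 < J := pow_pos hp.out.pos j
  have hinj := block_inj A V₀ J hJpos hsup hdim
  have hfixV₀ : ∀ v ∈ V₀, (A ^ J) v = v → v = 0 := by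
    intro v hv hfix
    apply hinj v hv
    apply hfixV
    exact sum_pow_fixed A J v hfix
  have hjn : j ≤ n := by
    by_contra hcon
    have hj' : j = n + 1 := by omega
    obtain ⟨v, hv, hvne⟩ := (Submodule.ne_bot_iff V₀).mp hV₀.2.1
    apply hvne
    apply hfixV₀ v hv
    rw [hJ, hj', hAP]
    rfl
  obtain ⟨m, hm⟩ : ∃ m, n = j + m := ⟨n - j, by omega⟩
  set y' := x ^ J with hy'
  have hy'ord : orderOf y' = p ^ (m + 1) := by
    rw [hy', orderOf_pow_of_dvd hJpos.ne' (by rw [hx, hJ]; exact pow_dvd_pow p (by omega)), hx, hJ,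
      Nat.pow_div (by omega) hp.out.pos]
    congr 1
    omega
  have hy'y : y' ^ p ^ m = y := by
    rw [hy', hy, ← pow_mul, hJ, ← pow_add, hm]
  have hρy' : ρ y' = A ^ J := by rw [hy', map_pow]
  -- the blocks
  have hApowinj : ∀ i : ℕ, ∀ v : V, (A ^ i) v = 0 → v = 0 := by
    intro i v hv
    have := (hTw.pow i).inv_apply v
    rw [hv, map_zero] at this
    exact this.symm
  have hAiJ : ∀ i : ℕ, ∀ v : V, (A ^ J) ((A ^ i) v) = (A ^ i) ((A ^ J) v) := by
    intro i v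
    rw [← Module.End.mul_apply, ← Module.End.mul_apply, ← pow_add, ← pow_add, add_comm]
  have hBQ : ∀ i : ℕ, ∀ g ∈ Q, ∀ u ∈ V₀.map (A ^ i), ρ g u ∈ V₀.map (A ^ i) :=
    fun i g hg u hu => ((hTw.pow i).inv_map hV₀.1) ⟨g, hg⟩ u hu
  have hBy : ∀ i : ℕ, ∀ u ∈ V₀.map (A ^ i), ρ y' u ∈ V₀.map (A ^ i) := by
    rintro i _ ⟨v, hv, rfl⟩
    rw [hρy', hAiJ]
    exact ⟨_, hV₀A v hv, rfl⟩
  have hBirr : ∀ i : ℕ, ∀ U' : Submodule K V, U' ≤ V₀.map (A ^ i) →
      (∀ g ∈ Q, ∀ u ∈ U', ρ g u ∈ U') → U' = ⊥ ∨ U' = V₀.map (A ^ i) := by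
    intro i U' hle hinv
    exact ((hTw.pow i).simple_map hV₀).2.2 U' (fun g s hs => hinv g.1 g.2 s hs) hle
  have hBfix : ∀ i : ℕ, ∀ u ∈ V₀.map (A ^ i), ρ y' u = u → u = 0 := by
    rintro i _ ⟨v, hv, rfl⟩ hfix
    rw [hρy', hAiJ] at hfix
    have h1 : (A ^ i) ((A ^ J) v - v) = 0 := by rw [map_sub, hfix, sub_self]
    have h2 := hApowinj i _ h1
    have h3 := hfixV₀ v hv (sub_eq_zero.mp h2)
    rw [h3, map_zero]
  have hBdim : ∀ i : ℕ, finrank K (V₀.map (A ^ i)) = finrank K V₀ := by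
    intro i
    have hinj' : Function.Injective (A ^ i) := by
      intro v w hvw
      have := hApowinj i (v - w) (by rw [map_sub, hvw, sub_self])
      exact sub_eq_zero.mp this
    exact (Submodule.equivMapOfInjective (A ^ i) hinj' V₀).finrank_eq.symm
  have hV₀y' : ∀ v ∈ V₀, ρ y' v ∈ V₀ := by
    intro v hv
    rw [hρy']
    exact hV₀A v hv
  have hV₀y : ∀ v ∈ V₀, ρ y v ∈ V₀ := by
    intro v hv
    rw [← hy'y, map_pow]
    have : ∀ k : ℕ, ∀ v ∈ V₀, ((ρ y') ^ k) v ∈ V₀ := by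
      intro k
      induction k with
      | zero => intro v hv; simpa using hv
      | succ k ih =>
        intro v hv
        rw [pow_succ', Module.End.mul_apply]
        exact hV₀y' _ (ih v hv)
    exact this _ v hv
  have hQxi : ∀ i : ℕ, ∀ g ∈ Q, (x ^ i)⁻¹ * g * x ^ i ∈ Q := by
    intro i g hg
    have := hQn.conj_mem g hg (x ^ i)⁻¹
    simpa using this
  have hF3 : ∃ g ∈ Q, ∃ v ∈ V₀, ρ g (ρ y v) ≠ ρ y (ρ g v) := by
    by_contra hcon
    push Not at hcon
    obtain ⟨g, hg, hgne⟩ := hNC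
    apply hgne
    apply hfaith
    rw [map_mul, map_mul]
    exact commute_of_commute_on_induced ρ Q x y J hxy hQxi V₀ hsup hcon g hg
  have hd : 1 < finrank K V₀ := by
    by_contra hcon
    have hpos : 0 < finrank K V₀ := by
      rw [Module.finrank_pos_iff]
      exact (Submodule.nontrivial_iff_ne_bot).mpr hV₀.2.1
    have h1 : finrank K V₀ = 1 := by omega
    obtain ⟨g, hg, v, hv, hne⟩ := hF3
    exact hne (commute_of_finrank_one V₀ h1 (ρ g) (ρ y) (fun u hu => hV₀.1 ⟨g, hg⟩ u hu)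
      hV₀y v hv)
  have hcen' : ∀ g ∈ Q, g * y' ^ p ^ m = y' ^ p ^ m * g → ∀ h ∈ Q, g * h = h * g := by
    rw [hy'y]
    exact hC
  have hcomm' : ∀ a ∈ Q, ∀ b ∈ Q,
      (a * b * a⁻¹ * b⁻¹) * y' ^ p ^ m = y' ^ p ^ m * (a * b * a⁻¹ * b⁻¹) := by
    rw [hy'y]
    exact hcommY
  have hblk := fun i : ℕ => blk_G ρ Q hpq hQ hqK hpK y' m hy'ord (V₀.map (A ^ i)) (hBQ i) (hBy i)
    (hBirr i) hcen' hcomm' (hBfix i) (by rw [hBdim i]; exact hd)
  set d := finrank K V₀ with hd_def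
  have hd1 : d + 1 = p ^ (m + 1) := by
    have := (hblk 0).1
    rwa [hBdim 0] at this
  obtain ⟨bb, hdb⟩ : ∃ b, d = q ^ b := by
    have := (hblk 0).2.1
    rwa [hBdim 0] at this
  obtain ⟨a, ha, b, hb, c, hc1, hc0⟩ := (hblk 0).2.2.1
  have hV₀0 : V₀.map (A ^ 0) = V₀ := by
    rw [pow_zero]
    exact Submodule.map_id V₀
  have hc : ∀ u ∈ V₀, ρ (a * b * a⁻¹ * b⁻¹) u = c • u :=
    fun u hu => hc0 u (by rw [hV₀0]; exact hu)
  choose R hRQ hRiff hRcen hRcard using fun i : ℕ => (hblk i).2.2.2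
  have hRcard' : ∀ i, Nat.card Q = Nat.card (R i) * d ^ 2 := by
    intro i
    have := hRcard i
    rwa [hBdim i] at this
  -- the centre of `Q` as the intersection of the scalar subgroups
  set ZG : Subgroup G := ⨅ i : Fin J, R i with hZGdef
  have hZGQ : ZG ≤ Q := (iInf_le (fun i : Fin J => R i) ⟨0, hJpos⟩).trans (hRQ 0)
  have hZGiff : ∀ z ∈ Q, (z ∈ ZG ↔ ∀ h ∈ Q, z * h = h * z) := by
    intro z hz
    constructor
    · intro hzZ h hh
      apply hfaith
      rw [map_mul, map_mul]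
      apply ext_of_blocks A V₀ J hsup
      intro i hi v hv
      have hzi : z ∈ R i := (Subgroup.mem_iInf.mp hzZ) ⟨i, hi⟩
      obtain ⟨l, hl⟩ := (hRiff i z hz).mp hzi
      rw [Module.End.mul_apply, Module.End.mul_apply, hl _ (hBQ i h hh v hv), hl v hv, map_smul]
    · intro hzc
      rw [hZGdef, Subgroup.mem_iInf]
      intro i
      exact hRcen i z hz hzc
  have hcentral_conj : ∀ t : G, ∀ z ∈ Q, (∀ h ∈ Q, z * h = h * z) →
      ∀ h ∈ Q, (t * z * t⁻¹) * h = h * (t * z * t⁻¹) := by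
    intro t z _ hzc h hh
    have h1 : t⁻¹ * h * t ∈ Q := by
      have := hQn.conj_mem h hh t⁻¹
      simpa using this
    have h2 := hzc _ h1
    calc t * z * t⁻¹ * h = t * (z * (t⁻¹ * h * t)) * t⁻¹ := by group
      _ = t * ((t⁻¹ * h * t) * z) * t⁻¹ := by rw [h2]
      _ = h * (t * z * t⁻¹) := by group
  have hZGconj : ∀ t : G, ∀ z ∈ ZG, t * z * t⁻¹ ∈ ZG := by
    intro t z hz
    have hzQ := hZGQ hz
    have htQ : t * z * t⁻¹ ∈ Q := hQn.conj_mem z hzQ t
    rw [hZGiff _ htQ]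
    exact hcentral_conj t z hzQ ((hZGiff z hzQ).mp hz)
  set Zs : Subgroup Q := ZG.subgroupOf Q with hZs
  set φ : MulAut Q := MulAut.conjNormal x with hφ
  have hφpow : ∀ k : ℕ, φ ^ k = MulAut.conjNormal (x ^ k) :=
    fun k => (map_pow (MulAut.conjNormal (H := Q)) x k).symm
  have hφZ : ∀ z : Q, z ∈ Zs ↔ φ z ∈ Zs := by
    intro z
    rw [hZs, mem_subgroupOf, mem_subgroupOf]
    have e : ((φ z : Q) : G) = x * z * x⁻¹ := MulAut.conjNormal_apply x z
    rw [e]
    constructor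
    · intro h
      exact hZGconj x _ h
    · intro h
      have := hZGconj x⁻¹ _ h
      have e2 : x⁻¹ * (x * (z : G) * x⁻¹) * x⁻¹⁻¹ = z := by group
      rwa [e2] at this
  have hrel : ∀ a₁ a₂ : Q, (QuotientGroup.leftRel Zs) a₁ a₂ ↔
      (QuotientGroup.leftRel Zs) (φ.toEquiv a₁) (φ.toEquiv a₂) := by
    intro a₁ a₂
    rw [QuotientGroup.leftRel_apply, QuotientGroup.leftRel_apply]
    have e : (φ.toEquiv a₁)⁻¹ * φ.toEquiv a₂ = φ (a₁⁻¹ * a₂) := by
      rw [map_mul, map_inv]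
      rfl
    rw [e]
    exact hφZ _
  set σ : Equiv.Perm (Q ⧸ Zs) := Quotient.congr φ.toEquiv hrel with hσ
  have hσmk : ∀ z : Q, σ (QuotientGroup.mk z) = QuotientGroup.mk (φ z) := fun z => rfl
  have hσpow : ∀ (k : ℕ) (z : Q),
      (σ ^ k) (QuotientGroup.mk z) = QuotientGroup.mk ((φ ^ k) z) := by
    intro k
    induction k with
    | zero => intro z; rfl
    | succ k ih =>
      intro z
      rw [pow_succ', Equiv.Perm.mul_apply, ih, hσmk, pow_succ', MulAut.mul_apply]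
  have hσP : σ ^ (p ^ (n + 1)) = 1 := by
    ext z'
    obtain ⟨z, rfl⟩ := QuotientGroup.mk_surjective z'
    rw [hσpow, hφpow, hxP, map_one]
    rfl
  have hpZ : ¬ p ∣ Nat.card ZG := by
    have hZq : IsPGroup q ZG := hQ.to_le hZGQ
    obtain ⟨k, hk⟩ := IsPGroup.iff_card.mp hZq
    rw [hk]
    intro hdvd
    exact hpq ((Nat.prime_dvd_prime_iff_eq hp.out hq.out).mp (hp.out.dvd_of_dvd_pow hdvd))
  have hsemi : ∀ k, 0 < k → k < p ^ (n + 1) → ∀ a' : Q ⧸ Zs, (σ ^ k) a' = a' →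
      a' = QuotientGroup.mk 1 := by
    intro k hk0 hkP a' ha'
    obtain ⟨z, rfl⟩ := QuotientGroup.mk_surjective a'
    rw [hσpow, hφpow] at ha'
    have h1 : ((MulAut.conjNormal (x ^ k) : MulAut Q) z)⁻¹ * z ∈ Zs := QuotientGroup.eq.mp ha'
    have h2 : (z : G)⁻¹ * (x ^ k * z * (x ^ k)⁻¹) ∈ ZG := by
      have h3 := Zs.inv_mem h1
      rw [hZs, mem_subgroupOf] at h3
      have e : ((((MulAut.conjNormal (x ^ k) : MulAut Q) z)⁻¹ * z)⁻¹ : Q) =
          z⁻¹ * (MulAut.conjNormal (x ^ k) : MulAut Q) z := by group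
      rw [e, Subgroup.coe_mul, Subgroup.coe_inv, MulAut.conjNormal_apply] at h3
      exact h3
    set t := x ^ k with ht
    have ht1 : t ≠ 1 := by
      intro h1
      have h2 := orderOf_dvd_of_pow_eq_one h1
      rw [hx] at h2
      have := Nat.le_of_dvd hk0 h2
      omega
    have htz : t ∈ zpowers x := Subgroup.pow_mem _ (mem_zpowers x) k
    have hyt : y ∈ zpowers t := pow_mem_zpowers_of_ne_one hx htz ht1
    have hfin : IsOfFinOrder t := by
      apply IsOfFinOrder.pow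
      rw [← orderOf_pos_iff, hx]
      exact pow_pos hp.out.pos _
    rw [← hfin.mem_powers_iff_mem_zpowers, Submonoid.mem_powers_iff] at hyt
    obtain ⟨m', hm'⟩ := hyt
    have h3 := iter_coset ZG t z (hZGconj t) h2 m'
    rw [hm'] at h3
    obtain ⟨r', hr', hfixed⟩ := SGP.sg_coset_fixed hp.out ZG hpZ y z
      (by rw [pow_one]; exact hyp) (hZGconj y) h3
    have hzrQ : (z : G) * r' ∈ Q := Q.mul_mem z.2 (hZGQ hr')
    have hcomm'' : (z : G) * r' * y = y * ((z : G) * r') := by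
      have := congrArg (fun w => w * y) hfixed
      simp only [inv_mul_cancel_right] at this
      exact this.symm
    have hzrZ : (z : G) * r' ∈ ZG := (hZGiff _ hzrQ).mpr (hC _ hzrQ hcomm'')
    have hzZ : (z : G) ∈ ZG := by
      have := ZG.mul_mem hzrZ (ZG.inv_mem hr')
      simpa using this
    apply QuotientGroup.eq.mpr
    rw [hZs, mem_subgroupOf]
    have := ZG.inv_mem hzZ
    simpa using this
  have h₀ : σ (QuotientGroup.mk 1) = QuotientGroup.mk 1 := by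
    rw [hσmk, map_one]
  have hdvd := SGP.sg_semiregular_dvd σ (p ^ (n + 1)) (pow_pos hp.out.pos _) hσP
    (QuotientGroup.mk 1) h₀ hsemi
  -- cardinalities
  obtain ⟨D, hD⟩ := hQ.index Zs
  have hcardZ : Nat.card (Q ⧸ Zs) = q ^ D := by rw [← Subgroup.index_eq_card, hD]
  have hcardR : ∀ i : Fin J, Nat.card (Q ⧸ (R i).subgroupOf Q) = d ^ 2 := by
    intro i
    rw [← Subgroup.index_eq_card]
    have h1 := Subgroup.index_mul_card ((R i).subgroupOf Q)
    have h2 : Nat.card ((R i).subgroupOf Q) = Nat.card (R i) :=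
      Nat.card_congr (subgroupOfEquivOfLe (hRQ i)).toEquiv
    have h3 := hRcard' i
    rw [h2, h3] at h1
    have hpos : 0 < Nat.card (R i) := Nat.card_pos
    have h4 : ((R i).subgroupOf Q).index * Nat.card (R i) = d ^ 2 * Nat.card (R i) := by
      rw [h1, mul_comm]
    exact Nat.eq_of_mul_eq_mul_right hpos h4
  set e := Subgroup.quotientiInfSubgroupOfEmbedding (fun i : Fin J => R i) Q with he
  have hcardPi : Nat.card (∀ i : Fin J, Q ⧸ (R i).subgroupOf Q) = (d ^ 2) ^ J := by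
    rw [Nat.card_pi]
    simp only [hcardR, Finset.prod_const, Finset.card_univ, Fintype.card_fin]
  -- arithmetic
  have hq2 : q = 2 := by
    have hodd : Odd (p ^ (m + 1)) := (hp.out.odd_of_ne_two hp2).pow
    have heven : Even d := by
      rcases Nat.even_or_odd d with h | h
      · exact h
      · exfalso
        have h1 : Even (d + 1) := h.add_one
        rw [hd1] at h1
        exact (Nat.not_even_iff_odd.mpr hodd) h1
    rw [hdb] at heven
    have h2 : 2 ∣ q ^ bb := even_iff_two_dvd.mp heven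
    have h3 : 2 ∣ q := Nat.prime_two.dvd_of_dvd_pow h2
    exact ((Nat.prime_dvd_prime_iff_eq Nat.prime_two hq.out).mp h3).symm
  have hdb2 : d = 2 ^ bb := by rw [hdb, hq2]
  have hpb : p ^ (m + 1) = 2 ^ bb + 1 := by rw [← hd1, hdb2]
  have hD1 : 1 ≤ D := by
    by_contra hcon
    have hD0 : D = 0 := by omega
    rw [hD0, pow_zero] at hcardZ
    haveI : Subsingleton (Q ⧸ Zs) := (Nat.card_eq_one_iff_unique.mp hcardZ).1
    have h1 : (QuotientGroup.mk (⟨a, ha⟩ : Q) : Q ⧸ Zs) = QuotientGroup.mk 1 :=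
      Subsingleton.elim _ _
    have h2 := QuotientGroup.eq.mp h1
    have h3 : a ∈ ZG := by
      have h4 := Zs.inv_mem h2
      rw [hZs, mem_subgroupOf] at h4
      simpa using h4
    have h5 := (hZGiff a ha).mp h3 b hb
    have h6 : a * b * a⁻¹ * b⁻¹ = 1 := by
      rw [h5]
      group
    obtain ⟨v, hv, hvne⟩ := (Submodule.ne_bot_iff V₀).mp hV₀.2.1
    have h7 := hc v hv
    rw [h6, map_one, Module.End.one_apply] at h7
    apply hc1
    have h8 : (1 - c) • v = 0 := by rw [sub_smul, one_smul, ← h7, sub_self]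
    rcases smul_eq_zero.mp h8 with h9 | h9
    · exact (sub_eq_zero.mp h9).symm
    · exact absurd h9 hvne
  have hdvd2 : p ^ (n + 1) ∣ 2 ^ D - 1 := by
    rw [← hq2, ← hcardZ]
    exact hdvd
  have hnt := SGP.sg_nt hp.out hp2 hpb (by omega : m + 1 ≤ n + 1) hD1 hdvd2
  have hexp : n + 1 - (m + 1) = j := by omega
  rw [hexp] at hnt
  have hDge : 2 * bb * J ≤ D := Nat.le_of_dvd (by omega) hnt
  have hge : (d ^ 2) ^ J ≤ Nat.card (Q ⧸ Zs) := by
    rw [hcardZ, hq2, hdb2, ← pow_mul, ← pow_mul]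
    apply Nat.pow_le_pow_right (by norm_num)
    calc bb * (2 * J) = 2 * bb * J := by ring
      _ ≤ D := hDge
  have hbij : Function.Bijective e := by
    apply Function.Injective.bijective_of_nat_card_le e.injective
    rw [hcardPi]
    exact hge
  -- simultaneous lifts
  have hlift : ∀ g ∈ Q, ∃ g₁ ∈ Q, ∀ i : Fin J,
      g₁⁻¹ * (x ^ (i : ℕ) * g * (x ^ (i : ℕ))⁻¹) ∈ R i := by
    intro g hg
    obtain ⟨g', hg'⟩ := hbij.2 (fun i : Fin J => QuotientGroup.mk
      (⟨x ^ (i : ℕ) * g * (x ^ (i : ℕ))⁻¹, hQn.conj_mem g hg _⟩ : Q))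
    obtain ⟨g₁, rfl⟩ := QuotientGroup.mk_surjective g'
    refine ⟨g₁, g₁.2, ?_⟩
    intro i
    have h1 := congrFun hg' i
    rw [he, Subgroup.quotientiInfSubgroupOfEmbedding_apply_mk] at h1
    have h2 := QuotientGroup.eq.mp h1
    rw [mem_subgroupOf] at h2
    simpa using h2
  obtain ⟨a₁, ha₁, ha₁R⟩ := hlift a ha
  obtain ⟨b₁, hb₁, hb₁R⟩ := hlift b hb
  have hApow : ∀ i : ℕ, A ^ i = ρ (x ^ i) := fun i => by rw [hA, map_pow]
  have hkey : ∀ i < J, ∀ v ∈ V₀.map (A ^ i), ρ a₁ (ρ b₁ v) = c • ρ b₁ (ρ a₁ v) := by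
    intro i hi v hv
    have ha₁Ri := ha₁R ⟨i, hi⟩
    have hb₁Ri := hb₁R ⟨i, hi⟩
    simp only [] at ha₁Ri hb₁Ri
    obtain ⟨ai, hai⟩ : ∃ ai, ai = x ^ i * a * (x ^ i)⁻¹ := ⟨_, rfl⟩
    obtain ⟨bi, hbi⟩ : ∃ bi, bi = x ^ i * b * (x ^ i)⁻¹ := ⟨_, rfl⟩
    rw [← hai] at ha₁Ri
    rw [← hbi] at hb₁Ri
    obtain ⟨s, hs⟩ : ∃ s, s = (a₁⁻¹ * ai)⁻¹ := ⟨_, rfl⟩
    obtain ⟨s', hs'⟩ : ∃ s', s' = (b₁⁻¹ * bi)⁻¹ := ⟨_, rfl⟩
    have hsR : s ∈ R i := by rw [hs]; exact (R i).inv_mem ha₁Ri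
    have hsQ : s ∈ Q := hRQ i hsR
    obtain ⟨l, hl⟩ := (hRiff i _ hsQ).mp hsR
    have hs'R : s' ∈ R i := by rw [hs']; exact (R i).inv_mem hb₁Ri
    have hs'Q : s' ∈ Q := hRQ i hs'R
    obtain ⟨l', hl'⟩ := (hRiff i _ hs'Q).mp hs'R
    have ea : ai * s = a₁ := by rw [hs]; group
    have eb : bi * s' = b₁ := by rw [hs']; group
    have hρa : ∀ u ∈ V₀.map (A ^ i), ρ a₁ u = l • ρ ai u := by
      intro u hu
      rw [← ea, map_mul, Module.End.mul_apply, hl u hu, map_smul]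
    have hρb : ∀ u ∈ V₀.map (A ^ i), ρ b₁ u = l' • ρ bi u := by
      intro u hu
      rw [← eb, map_mul, Module.End.mul_apply, hl' u hu, map_smul]
    have hcore : ρ ai (ρ bi v) = c • ρ bi (ρ ai v) := by
      obtain ⟨v₀, hv₀, rfl⟩ := hv
      have egen : ∀ t a' b' : G, (t * a' * t⁻¹) * (t * b' * t⁻¹) * t = t * (a' * b') := by
        intro t a' b'
        group
      have e1 : ai * bi * x ^ i = x ^ i * (a * b) := by rw [hai, hbi]; exact egen _ _ _
      have e2 : bi * ai * x ^ i = x ^ i * (b * a) := by rw [hai, hbi]; exact egen _ _ _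
      have e3 : a * b = (a * b * a⁻¹ * b⁻¹) * (b * a) := by group
      have hba : ρ (b * a) v₀ ∈ V₀ := hV₀.1 ⟨b * a, Q.mul_mem hb ha⟩ v₀ hv₀
      calc ρ ai (ρ bi ((A ^ i) v₀)) = ρ (ai * bi * x ^ i) v₀ := by
            rw [hApow, map_mul, map_mul, Module.End.mul_apply, Module.End.mul_apply]
        _ = ρ (x ^ i) (ρ (a * b) v₀) := by rw [e1, map_mul, Module.End.mul_apply]
        _ = ρ (x ^ i) (c • ρ (b * a) v₀) := by
            rw [e3, map_mul, Module.End.mul_apply, hc _ hba]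
        _ = c • ρ (x ^ i * (b * a)) v₀ := by rw [map_smul, ← Module.End.mul_apply, ← map_mul]
        _ = c • ρ bi (ρ ai ((A ^ i) v₀)) := by
            rw [← e2, hApow, map_mul, map_mul, Module.End.mul_apply, Module.End.mul_apply]
    have hb₁v : ρ b₁ v ∈ V₀.map (A ^ i) := hBQ i b₁ hb₁ v hv
    have ha₁v : ρ a₁ v ∈ V₀.map (A ^ i) := hBQ i a₁ ha₁ v hv
    rw [hρa _ hb₁v, hρb v hv, map_smul, hcore, hρb _ ha₁v, hρa v hv, map_smul]
    simp only [smul_smul]
    congr 1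
    ring
  obtain ⟨z, hz⟩ : ∃ z, z = a₁ * b₁ * a₁⁻¹ * b₁⁻¹ := ⟨_, rfl⟩
  have hzQ : z ∈ Q := by
    rw [hz]
    exact Q.mul_mem (Q.mul_mem (Q.mul_mem ha₁ hb₁) (Q.inv_mem ha₁)) (Q.inv_mem hb₁)
  have hρz : ρ z = c • 1 := by
    apply ext_of_blocks A V₀ J hsup
    intro i hi w hw
    set v := ρ (b₁ * a₁)⁻¹ w with hv
    have hvB : v ∈ V₀.map (A ^ i) := hBQ i _ (Q.inv_mem (Q.mul_mem hb₁ ha₁)) w hw
    have hw' : ρ b₁ (ρ a₁ v) = w := by
      rw [hv, ← Module.End.mul_apply, ← Module.End.mul_apply, ← map_mul, ← map_mul,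
        mul_inv_cancel, map_one, Module.End.one_apply]
    have e1 : z * (b₁ * a₁) = a₁ * b₁ := by rw [hz]; group
    calc ρ z w = ρ z (ρ (b₁ * a₁) v) := by
          rw [map_mul, Module.End.mul_apply, hw']
      _ = ρ (a₁ * b₁) v := by rw [← Module.End.mul_apply, ← map_mul, e1]
      _ = c • ρ b₁ (ρ a₁ v) := by rw [map_mul, Module.End.mul_apply, hkey i hi v hvB]
      _ = (c • (1 : End K V)) w := by rw [hw', LinearMap.smul_apply, Module.End.one_apply]
  have hzx : x * z * x⁻¹ = z := by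
    have h1 : ρ (x * z) = ρ (z * x) := by
      rw [map_mul, map_mul, hρz, mul_smul_comm, smul_mul_assoc, mul_one, one_mul]
    rw [hfaith h1]
    group
  have hz1 : z = 1 := hfixQ z hzQ hzx
  rw [hz1, map_one] at hρz
  apply hc1
  obtain ⟨v, hvne⟩ := exists_ne (0 : V)
  have h7 := congrArg (fun f : End K V => f v) hρz
  simp only [Module.End.one_apply, LinearMap.smul_apply] at h7
  have h8 : (1 - c) • v = 0 := by rw [sub_smul, one_smul, ← h7, sub_self]
  rcases smul_eq_zero.mp h8 with h9 | h9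
  · exact (sub_eq_zero.mp h9).symm
  · exact absurd h9 hvne

end Cfsg.Agent.Helper31.SG
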