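import Mathlib
import Cfsg.Agent.Lib.Helper31.SGFin3
import Cfsg.Agent.Lib.Helper12.SGRED
import Cfsg.Agent.Lib.Helper58.SGBC
import Cfsg.Agent.Lib.Helper20.SGKEY
import Cfsg.Agent.Lib.Helper57.SGMAIN

set_option autoImplicit false

/-!
# Shult–Gross: assembly
-/

namespace Cfsg.Agent.Helper31.SG

open Module Subgroup

universe u uG uK uV

/-- The linear statement in representation form. -/
theorem sg_stmt {K : Type uK} [Field K] [IsAlgClosed K] (p q r : ℕ) [hp : Fact p.Prime]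
    [hq : Fact q.Prime] [hr : Fact r.Prime] (hp2 : p ≠ 2) (hpq : p ≠ q) (hqr : q ≠ r)
    (hpr : p ≠ r) [CharP K r] : ∀ N, SGStmt.{uG, uK, uV} K p q N :=
  Cfsg.Agent.Helper12.SG.sg_all p q r hqr.symm (sg_final p q r hp2 hpq hqr hpr)

/-- The linear statement in group form. -/
theorem lin_stmt {p : ℕ} (hp : p.Prime) (hp2 : p ≠ 2) : LinStmt.{u} p := by
  apply Cfsg.Agent.Helper58.SG.lin_of_stmt hp
  intro q r hq hr hpq hqr hpr K _ _ _ N
  haveI : Fact p.Prime := ⟨hp⟩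
  haveI : Fact q.Prime := ⟨hq⟩
  haveI : Fact r.Prime := ⟨hr⟩
  exact sg_stmt p q r hp2 hpq hqr hpr N

/-- The key statement. -/
theorem key_stmt {p : ℕ} (hp : p.Prime) (hp2 : p ≠ 2) : KeyStmt.{u} p := by
  intro G _ _ hG σ n hσ hfpf
  exact Cfsg.Agent.Helper20.SG.sg_key hp (lin_stmt hp hp2) G hG σ n hσ hfpf

end Cfsg.Agent.Helper31.SG
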