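import Mathlib
import Cfsg.Agent.Lib.Helper31.G2Defs
import Cfsg.Agent.Lib.Helper31.G2FIN2
import Cfsg.Agent.Lib.Helper47.G2RED2
import Cfsg.Agent.Lib.Helper58.G2BC2
import Cfsg.Agent.Lib.Helper47.G2TRED
import Cfsg.Agent.Lib.Helper58.G2TBC
import Cfsg.Agent.Lib.Helper22.G2KEY2
import Cfsg.Agent.Lib.Helper67.G2MAIN2
import Cfsg.Agent.Lib.Helper4.G2TFIN
import Cfsg.Agent.Lib.Helper67.G2BLOCK
import Cfsg.Agent.Lib.Helper23.G2INTER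
import Cfsg.Agent.Lib.Helper99.G2BOTCore

set_option autoImplicit false

/-!
# Gross's theorem for `p = 2` (S3795): assembly of the pieces
-/

namespace Cfsg.Agent.Helper31.G2

open Module Subgroup

universe u uG uK uV

/-- (TOP), representation form. -/
theorem top_stmt {K : Type uK} [Field K] [IsAlgClosed K] (q r : ℕ) [hq : Fact q.Prime]
    [hr : Fact r.Prime] (hq2 : q ≠ 2) (hr2 : r ≠ 2) (hqr : q ≠ r) [CharP K r] :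
    ∀ N, TopStmt.{uG, uK, uV} K q N :=
  Cfsg.Agent.Helper47.G2.g2_top_red q r hqr.symm (g2_top_final q r hq2 hr2 hqr)

/-- (TOP), group form. -/
theorem top_grp : TopGrp.{u} := by
  apply Cfsg.Agent.Helper58.G2.g2_top_grp
  intro q s hq hs hq2 hs2 hqs K _ _ _ N
  haveI : Fact q.Prime := ⟨hq⟩
  haveI : Fact s.Prime := ⟨hs⟩
  exact top_stmt q s hq2 hs2 hqs N

/-- (BOT) the contradiction in the minimal configuration. -/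
theorem g2_bot {K : Type uK} [Field K] [IsAlgClosed K] {r s : ℕ} [hr : Fact r.Prime]
    [CharP K r] (hs : s.Prime) (hs2 : s ≠ 2) (hr2 : r ≠ 2) (hrs : r ≠ s)
    {V : Type uV} [AddCommGroup V] [Module K V] [FiniteDimensional K V]
    {G : Type uG} [Group G] [Finite G] (ρ : Representation K G V) (S Z Q : Subgroup G) (x : G)
    (n : ℕ) (hn : 1 ≤ n) (hS : IsPGroup s S) (hZS : Z ≤ S)
    (hQS : ∀ g ∈ Q, ∀ a ∈ S, g * a * g⁻¹ ∈ S) (hxS : ∀ a ∈ S, x * a * x⁻¹ ∈ S)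
    (hxZ : ∀ z ∈ Z, x * z * x⁻¹ ∈ Z) (hxQ : ∀ g ∈ Q, x * g * x⁻¹ ∈ Q)
    (hx : x ^ 2 ^ (n + 1) = 1) (hfix : ∀ v : V, ρ x v = v → v = 0)
    (hZc : ∀ z ∈ Z, ∀ a ∈ S, z * a = a * z)
    (hcomm : ∀ a ∈ S, ∀ b ∈ S, a * b * a⁻¹ * b⁻¹ ∈ Z)
    (hQZ : ∀ g ∈ Q, ∀ z ∈ Z, g * z = z * g)
    (hmax : ∀ S₁ : Subgroup G, S₁ ≤ S → S₁ ≠ S → (∀ g ∈ Q, ∀ a ∈ S₁, g * a * g⁻¹ ∈ S₁) →
      (∀ a ∈ S₁, x * a * x⁻¹ ∈ S₁) → S₁ ≤ Z)
    (hnab : ∃ a ∈ S, ∃ b ∈ S, ρ (a * b * a⁻¹ * b⁻¹) ≠ 1)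
    (hA1 : s ^ 2 ^ n * Nat.card Z ≤
      Nat.card {a : G // a ∈ S ∧ x ^ 2 ^ n * a * (x ^ 2 ^ n)⁻¹ * a ∈ Z})
    (hA2 : ∃ a ∈ S, x ^ 2 ^ n * a * (x ^ 2 ^ n)⁻¹ * a⁻¹ ∈ Z ∧
      x ^ 2 ^ (n - 1) * a * (x ^ 2 ^ (n - 1))⁻¹ * a⁻¹ ∉ Z) : False := by
  have hcl : ∀ a ∈ S, ∀ b ∈ S, ∀ c ∈ S,
      (a * b * a⁻¹ * b⁻¹) * c = c * (a * b * a⁻¹ * b⁻¹) :=
    fun a ha b hb c hc => hZc _ (hcomm a ha b hb) c hc
  exact Cfsg.Agent.Helper99.G2.g2_bot_core hs hs2 S Z Q x n hn hZS hQS hxS hxQ hZc hcomm hQZ hmax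
    (Cfsg.Agent.Helper67.G2.g2_block hs hs2 hr2 hrs ρ S x n hS hxS hx hfix hcl hnab)
    (fun R j hj hZR hRS hyR hint =>
      Cfsg.Agent.Helper23.G2.g2_inter S Z R x n j hj hx hZR hRS hxS hxZ hcomm hyR hint)
    hA1 hA2

/-- The three-level statement, representation form. -/
theorem tt_stmt {K : Type uK} [Field K] [IsAlgClosed K] (q s r : ℕ) [hq : Fact q.Prime]
    [hs : Fact s.Prime] [hr : Fact r.Prime] (hq2 : q ≠ 2) (hs2 : s ≠ 2) (hr2 : r ≠ 2)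
    (hqs : q ≠ s) (hsr : s ≠ r) [CharP K r] : ∀ N, TTStmt.{uG, uK, uV} K q s N :=
  Cfsg.Agent.Helper47.G2.g2_tt_red q s
    (Cfsg.Agent.Helper4.G2.g2_tt_fin_of_bot top_grp q s r hq2 hs2 hr2 hqs hsr
      (fun hs' hs2' hr2' hrs' {V} _ _ _ {G} _ _ ρ S Z Q x n hn hS hZS hQS hxS hxZ hxQ hx hfix hZc hcomm hQZ
        hmax hnab hA1 hA2 =>
        g2_bot hs' hs2' hr2' hrs' ρ S Z Q x n hn hS hZS hQS hxS hxZ hxQ hx hfix hZc hcomm hQZ hmax hnab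
          hA1 hA2))

/-- The three-level statement, group form. -/
theorem tower_stmt : TowerStmt.{u} := by
  apply Cfsg.Agent.Helper58.G2.g2_tower
  intro q s r hq hs hr hq2 hs2 hr2 hqs hsr K _ _ _ N
  haveI : Fact q.Prime := ⟨hq⟩
  haveI : Fact s.Prime := ⟨hs⟩
  haveI : Fact r.Prime := ⟨hr⟩
  exact tt_stmt q s r hq2 hs2 hr2 hqs hsr N

/-- `[G, σ^(2^n)] ≤ F₂(G)`. -/
theorem key2_stmt : Key2Stmt.{u} := Cfsg.Agent.Helper22.G2.g2_key tower_stmt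

/-- Gross's theorem for `p = 2`. -/
theorem gross_two {G : Type u} [Group G] [Finite G] (hG : Group.IsSolvable G) (σ : MulAut G)
    (n : ℕ) (hn : 1 < n) (hσ : orderOf σ = 2 ^ n) (hfpf : ∀ g : G, σ g = g → g = 1) :
    ∃ F : Fin ((2 * n - 2) + 1) → Subgroup G, F 0 = ⊥ ∧ F (Fin.last (2 * n - 2)) = ⊤ ∧
      Monotone F ∧ (∀ i, (F i).Normal) ∧
      ∀ i : Fin (2 * n - 2), ∃ k : ℕ, (F i.succ).lowerCentralSeries k ≤ F i.castSucc :=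
  Cfsg.Agent.Helper67.G2.g2_main key2_stmt n hn G hG σ hσ hfpf

end Cfsg.Agent.Helper31.G2
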