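import Mathlib
import Cfsg.Prelude.Def_LocalEven
import Cfsg.Agent.Lib.Helper2.Frobenius
import Cfsg.Agent.Lib.Helper31.GTGeneric

set_option autoImplicit false
set_option linter.style.haveILetI false

/-!
# Control of strong fusion forces normality in the minimal configuration

If `C_X(O_p(X)) ≤ O_p(X)`, a Sylow `p`-subgroup `T` of `X` is a maximal subgroup and `W(T)` controls
strong fusion in `X`, then `W(T)` is normal in `X`.
-/

namespace Cfsg.Agent.Helper31.GTG

open Cfsg Cfsg.Agent.Helper2 Cfsg.Agent.Helper11.ZJ Cfsg.Agent.Helper31.GT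

universe u

variable {p : ℕ} [hp : Fact p.Prime]

/-- A finite group with `C_X(O_p(X)) ≤ O_p(X)` and a normal `p`-complement is a `p`-group. -/
theorem isPGroup_of_hnpc_of_constrained {X : Type u} [Group X] [Finite X]
    (hc : Subgroup.centralizer (pCore p X : Set X) ≤ pCore p X)
    (h : HasNormalPComplement p X) : IsPGroup p X := by
  obtain ⟨N, hNn, hNcop, k, hNk⟩ := hnpc_iff.mp h
  have hOn : (pCore p X).Normal := pCore_normal' p X
  have hOp : IsPGroup p (pCore p X) := isPGroup_pCore'
  obtain ⟨j, hj⟩ := IsPGroup.iff_card.mp hOp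
  have hdis : Disjoint N (pCore p X) := by
    apply Subgroup.disjoint_of_coprime_natCard
    rw [hj]
    exact Nat.Coprime.pow_right _ hNcop
  have hN1 : N ≤ Subgroup.centralizer (pCore p X : Set X) := by
    intro n hn
    rw [Subgroup.mem_centralizer_iff]
    intro y hy
    exact (Subgroup.commute_of_normal_of_disjoint N (pCore p X) hNn hOn hdis n y hn hy).eq.symm
  have hN2 : N = ⊥ := by
    rw [eq_bot_iff]
    intro n hn
    exact (Subgroup.disjoint_def.mp hdis) hn (hc (hN1 hn))
  rw [hN2, Subgroup.index_bot] at hNk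
  exact IsPGroup.of_card hNk

variable {W : ∀ (Q : Type u) [Group Q], Subgroup Q}

theorem if_normal_of_controls (hW : IsCharPFunctor.{u} p W) {X : Type u} [Group X] [Finite X]
    (hc : Subgroup.centralizer (pCore p X : Set X) ≤ pCore p X) (T : Sylow p X)
    (hT : IsCoatom (T : Subgroup X))
    (hctl : ControlsStrongFusion p (inducedFunctor W (T : Subgroup X))) :
    (inducedFunctor W (T : Subgroup X)).Normal := by
  set Wt := inducedFunctor W (T : Subgroup X) with hWt
  have hTN : (T : Subgroup X) ≤ Subgroup.normalizer (Wt : Set X) :=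
    Subgroup.le_normalizer.trans (normalizer_le_normalizer_if hW (T : Subgroup X) T.isPGroup')
  rcases eq_or_lt_of_le hTN with hEq | hLt
  · exfalso
    obtain ⟨T', hWT', hcs⟩ := hctl
    have hF : FrobCond p X := by
      apply frobCond_of_sylow T'
      intro Q hQ g hg hcop
      obtain ⟨_, h2⟩ := hcs (Q : Set X) (fun a ha => hQ ha)
      have hgQ : ∀ a ∈ Q, g * a * g⁻¹ ∈ Q := fun a ha =>
        (Subgroup.mem_normalizer_iff.mp hg a).mp ha
      obtain ⟨x, hx, hxa⟩ := h2 g (by
        rintro _ ⟨a, ha, rfl⟩
        exact hQ (hgQ a ha))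
      rw [← hEq] at hx
      have hiter : ∀ i : ℕ, ∀ a ∈ Q, g ^ i * a * (g ^ i)⁻¹ = x ^ i * a * (x ^ i)⁻¹ ∧
          g ^ i * a * (g ^ i)⁻¹ ∈ Q := by
        intro i
        induction i with
        | zero => intro a ha; simpa using ha
        | succ i ih =>
          intro a ha
          obtain ⟨e1, m1⟩ := ih a ha
          have e2 : g ^ (i + 1) * a * (g ^ (i + 1))⁻¹ = g * (g ^ i * a * (g ^ i)⁻¹) * g⁻¹ := by
            rw [pow_succ']; group
          have e3 : x ^ (i + 1) * a * (x ^ (i + 1))⁻¹ = x * (x ^ i * a * (x ^ i)⁻¹) * x⁻¹ := by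
            rw [pow_succ']; group
          rw [e2, e3]
          refine ⟨?_, hgQ _ m1⟩
          rw [hxa _ m1, e1]
      -- `x ^ orderOf g` centralizes `Q`
      have hxn : x ^ orderOf g ∈ Subgroup.centralizer (Q : Set X) := by
        rw [Subgroup.mem_centralizer_iff]
        intro a ha
        have h3 := (hiter (orderOf g) a ha).1
        rw [pow_orderOf_eq_one, inv_one, one_mul, mul_one] at h3
        calc a * x ^ orderOf g = (x ^ orderOf g * a * (x ^ orderOf g)⁻¹) * x ^ orderOf g := by
              rw [← h3]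
          _ = x ^ orderOf g * a := by group
      obtain ⟨k, hk⟩ := T.isPGroup' ⟨x, hx⟩
      have hxk : x ^ p ^ k = 1 := by
        have := congrArg Subtype.val hk
        simpa using this
      have hxC : x ∈ Subgroup.centralizer (Q : Set X) := by
        have hcop' : Nat.Coprime (orderOf g) (p ^ k) := Nat.Coprime.pow_right _ hcop
        have hbez := Nat.gcd_eq_gcd_ab (orderOf g) (p ^ k)
        rw [hcop'] at hbez
        have e4 : x = (x ^ orderOf g) ^ (Nat.gcdA (orderOf g) (p ^ k)) *
            (x ^ p ^ k) ^ (Nat.gcdB (orderOf g) (p ^ k)) := by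
          rw [← zpow_natCast x (orderOf g), ← zpow_natCast x (p ^ k), ← zpow_mul, ← zpow_mul,
            ← zpow_add]
          have : ((orderOf g : ℕ) : ℤ) * Nat.gcdA (orderOf g) (p ^ k) +
              ((p ^ k : ℕ) : ℤ) * Nat.gcdB (orderOf g) (p ^ k) = 1 := by
            rw [← hbez]; simp
          rw [this, zpow_one]
        rw [e4, hxk, one_zpow, mul_one]
        exact Subgroup.zpow_mem _ hxn _
      rw [Subgroup.mem_centralizer_iff]
      intro a ha
      have h4 := hxa a ha
      have h5 := Subgroup.mem_centralizer_iff.mp hxC a ha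
      have h6 : x * a * x⁻¹ = a := by rw [← h5]; group
      rw [h6] at h4
      calc a * g = (g * a * g⁻¹) * g := by rw [h4]
        _ = g * a := by group
    have hnpc : HasNormalPComplement p X := frobenius p hF
    have hXp : IsPGroup p X := isPGroup_of_hnpc_of_constrained hc hnpc
    have htop : IsPGroup p (⊤ : Subgroup X) := hXp.to_subgroup _
    have := T.is_maximal' htop le_top
    exact hT.1 this.symm
  · have htop := hT.2 _ hLt
    exact Subgroup.normalizer_eq_top_iff.mp htop

end Cfsg.Agent.Helper31.GTG
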