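import Mathlib
import Cfsg.Prelude.Def_PLocal
import Cfsg.Agent.Lib.Helper31.QuadAct2
import Cfsg.Agent.Lib.Helper31.GTStable
import Cfsg.Agent.Lib.Helper30.SylowSub

set_option autoImplicit false
set_option linter.style.haveILetI false

/-!
# Elements with `[U, g; p-1] ≤ V` on a chief factor, in the Glauberman–Thompson configuration

In the configuration `G = K P` of `GTStable` (no restriction on `p`), an element `g ∈ P` with
`[U, g, …, g] ≤ V` (`p - 1` entries) on a chief factor `U / V` below `O_p(G)` centralizes `U / V`.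
-/

namespace Cfsg.Agent.Helper31.GT

open Cfsg Cfsg.Agent.Helper11.ZJ
open scoped commutatorElement Pointwise

variable {G : Type*} [Group G]

theorem trace_mem_ker [Finite G] {p : ℕ} [Fact p.Prime] {P : Sylow p G}
    {K : Subgroup G} {m : ℕ} (cfg : Config p P K m) (V' V'' : Subgroup G) [hV' : V'.Normal]
    [hV'' : V''.Normal] (hV'p : IsPGroup p V') (h1 : V'' < V')
    (hchief : ∀ X : Subgroup G, X.Normal → V'' ≤ X → X ≤ V' → X = V'' ∨ X = V')
    (g : G) (hg : g ∈ (P : Subgroup G))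
    (hiter : iterCommutator V' (Subgroup.zpowers g) (p - 1) ≤ V'') :
    g ∈ (secAct V' V'').ker := by
  haveI hHn : (pCore p G).Normal := pCore_normal' p G
  haveI := cfg.Kn
  have hHp : IsPGroup p (pCore p G) := isPGroup_pCore'
  have hV'H : V' ≤ pCore p G := le_pCore' hV' hV'p
  obtain ⟨hc1, hc2⟩ := chief_props (pCore p G) V' V'' hHp h1 hV'H hchief
  set mk := QuotientGroup.mk' V'' with hmk
  have hmk1 : ∀ g : G, mk g = 1 ↔ g ∈ V'' := fun g => QuotientGroup.eq_one_iff g
  set φ := secAct V' V'' with hφ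
  have hHker : ∀ h ∈ pCore p G, φ h = 1 := fun h hh =>
    MonoidHom.mem_ker.mp ((mem_ker_secAct V' V'' h).mpr (hc1 h hh))
  have hUcomm : ∀ u u' : ↥(V'.map mk), u * u' = u' * u := by
    rintro ⟨_, v, hv, rfl⟩ ⟨_, v', hv', rfl⟩
    apply Subtype.ext
    show mk v * mk v' = mk v' * mk v
    have h3 := (hmk1 _).mpr (hc1 v (hV'H hv) v' hv')
    rw [map_mul, map_mul, map_mul, map_inv, map_inv] at h3
    calc mk v * mk v' = (mk v * mk v' * (mk v)⁻¹ * (mk v')⁻¹) * (mk v' * mk v) := by group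
      _ = mk v' * mk v := by rw [h3, one_mul]
  letI : CommGroup ↥(V'.map mk) :=
    { (inferInstance : Group ↥(V'.map mk)) with mul_comm := hUcomm }
  have hexp : ∀ w : ↥(V'.map mk), w ^ p = 1 := by
    rintro ⟨_, v, hv, rfl⟩
    apply Subtype.ext
    show (mk v) ^ p = 1
    rw [← map_pow]
    exact (hmk1 _).mpr (hc2 v hv)
  -- the iterated commutator condition
  have hδ : ∀ (i : ℕ) (w : ↥(V'.map mk)), ∃ u ∈ iterCommutator V' (Subgroup.zpowers g) i,
      (((fun w => φ g w / w)^[i] w : ↥(V'.map mk)) : G ⧸ V'') = mk u := by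
    intro i
    induction i with
    | zero =>
      intro w
      obtain ⟨v, hv, hvw⟩ := w.2
      exact ⟨v, hv, hvw.symm⟩
    | succ i ih =>
      intro w
      obtain ⟨u, hu, hue⟩ := ih w
      refine ⟨⁅g, u⁆, ?_, ?_⟩
      · show ⁅g, u⁆ ∈ ⁅iterCommutator V' (Subgroup.zpowers g) i, Subgroup.zpowers g⁆
        rw [Subgroup.commutator_comm]
        exact Subgroup.commutator_mem_commutator (Subgroup.mem_zpowers g) hu
      · rw [Function.iterate_succ_apply']
        show ((φ g ((fun w => φ g w / w)^[i] w) / ((fun w => φ g w / w)^[i] w) :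
          ↥(V'.map mk)) : G ⧸ V'') = mk ⁅g, u⁆
        rw [Subgroup.coe_div, secAct_apply_coe, hue, commutatorElement_def, map_mul, map_mul,
          map_mul, map_inv, map_inv, div_eq_mul_inv]
  have hδ0 : ∀ w : ↥(V'.map mk), (fun w => φ g w / w)^[p - 1] w = 1 := by
    intro w
    obtain ⟨u, hu, hue⟩ := hδ (p - 1) w
    apply Subtype.ext
    rw [hue]
    exact (hmk1 u).mpr (hiter hu)
  obtain ⟨hxp, htr⟩ := tr_of_iter hexp (φ g) hδ0
  set R := K.map φ with hR
  haveI : Finite ↥R := inferInstance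
  have hRc : ∀ r ∈ R, ∀ s ∈ R, r * s = s * r := by
    rintro _ ⟨k₁, hk₁, rfl⟩ _ ⟨k₂, hk₂, rfl⟩
    have h3 := hHker _ (cfg.comm k₁ hk₁ k₂ hk₂)
    rw [map_mul, map_mul, map_mul, map_inv, map_inv] at h3
    calc φ k₁ * φ k₂ = (φ k₁ * φ k₂ * (φ k₁)⁻¹ * (φ k₂)⁻¹) * (φ k₂ * φ k₁) := by group
      _ = φ k₂ * φ k₁ := by rw [h3, one_mul]
  have hRm : ∀ r ∈ R, r ^ m = 1 := by
    rintro _ ⟨k₁, hk₁, rfl⟩
    rw [← map_pow]
    exact hHker _ (cfg.pow k₁ hk₁)
  have hx : ∀ r ∈ R, φ g * r * (φ g)⁻¹ ∈ R := by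
    rintro _ ⟨k₁, hk₁, rfl⟩
    refine ⟨g * k₁ * g⁻¹, cfg.Kn.conj_mem k₁ hk₁ g, ?_⟩
    rw [map_mul, map_mul, map_inv]
  have h4 := tr_centralizes hexp (φ g) hxp htr R hRc m cfg.cop hRm hx
  -- the normal closure of `g` lies in `ker φ ⊔ P`
  set N := φ.ker with hN
  have hkg : ∀ k ∈ K, k * g * k⁻¹ * g⁻¹ ∈ N := by
    intro k hk
    have h5 := h4 (φ k) (Subgroup.mem_map_of_mem _ hk)
    rw [hN, MonoidHom.mem_ker, map_mul, map_mul, map_mul, map_inv, map_inv]
    calc φ k * φ g * (φ k)⁻¹ * (φ g)⁻¹ = φ k * (φ g * φ k * (φ g)⁻¹)⁻¹ := by group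
      _ = 1 := by rw [h5, mul_inv_cancel]
  set B := Subgroup.normalClosure ({g} : Set G) with hB
  have hBle : B ≤ N ⊔ (P : Subgroup G) := by
    rw [hB, Subgroup.normalClosure]
    rw [Subgroup.closure_le]
    intro a ha
    obtain ⟨b, hb, hba⟩ := Group.mem_conjugatesOfSet_iff.mp ha
    rw [Set.mem_singleton_iff] at hb
    subst hb
    obtain ⟨c, hc⟩ := isConj_iff.mp hba
    have hcK : c ∈ (P : Subgroup G) ⊔ K := by
      rw [sup_comm, cfg.gen]; exact Subgroup.mem_top c
    have hcK' : c ∈ ((P : Subgroup G) : Set G) * (K : Set G) := by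
      rw [← Subgroup.mul_normal]; exact hcK
    obtain ⟨t, ht, k, hk, rfl⟩ := hcK'
    have e1 : t * k * b * (t * k)⁻¹ =
        (t * (k * b * k⁻¹ * b⁻¹) * t⁻¹) * (t * b * t⁻¹) := by group
    rw [SetLike.mem_coe, ← hc, e1]
    exact Subgroup.mul_mem _
      (Subgroup.mem_sup_left ((inferInstance : N.Normal).conj_mem _ (hkg k hk) t))
      (Subgroup.mem_sup_right ((P : Subgroup G).mul_mem ((P : Subgroup G).mul_mem ht hg)
        ((P : Subgroup G).inv_mem ht)))
  -- a fixed point of `P` on `V' / V''`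
  obtain ⟨d, hdV', hdV'', hdfix⟩ := Cfsg.Agent.Helper30.exists_fixed_mod V' V'' (P : Subgroup G)
    hV'p P.isPGroup' (by rw [Subgroup.normalizer_eq_top]; exact le_top) (not_le_of_gt h1)
  have hNcomm : ∀ n ∈ N, ∀ v ∈ V', mk n * mk v = mk v * mk n := by
    intro n hn v hv
    have h5 := (hmk1 _).mpr ((mem_ker_secAct V' V'' n).mp hn v hv)
    rw [map_mul, map_mul, map_mul, map_inv, map_inv] at h5
    calc mk n * mk v = (mk n * mk v * (mk n)⁻¹ * (mk v)⁻¹) * (mk v * mk n) := by group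
      _ = mk v * mk n := by rw [h5, one_mul]
  have hPcomm : ∀ t ∈ (P : Subgroup G), mk t * mk d = mk d * mk t := by
    intro t ht
    have h5 := (hmk1 _).mpr (hdfix t ht)
    rw [map_mul, map_mul, map_mul, map_inv, map_inv] at h5
    calc mk t * mk d = (mk t * mk d * (mk t)⁻¹ * (mk d)⁻¹) * (mk d * mk t) := by group
      _ = mk d * mk t := by rw [h5, one_mul]
  haveI hBn : B.Normal := Subgroup.normalClosure_normal
  haveI hBmn : (B.map mk).Normal := hBn.map _ (QuotientGroup.mk'_surjective _)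
  set C := (Subgroup.centralizer ((B.map mk : Subgroup (G ⧸ V'')) : Set (G ⧸ V''))).comap mk with hC
  haveI hCn : C.Normal := (inferInstance : (Subgroup.centralizer
    ((B.map mk : Subgroup (G ⧸ V'')) : Set (G ⧸ V''))).Normal).comap _
  have hdC : d ∈ C := by
    rw [hC, Subgroup.mem_comap, Subgroup.mem_centralizer_iff]
    rintro _ ⟨b, hb, rfl⟩
    have hb' : b ∈ (N : Set G) * ((P : Subgroup G) : Set G) := by
      rw [← Subgroup.normal_mul]; exact hBle hb
    obtain ⟨n, hn, t, ht, rfl⟩ := hb'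
    rw [map_mul, mul_assoc, hPcomm t ht, ← mul_assoc, hNcomm n hn d hdV', mul_assoc]
  have hX := hchief (V' ⊓ C) inferInstance (le_inf (le_of_lt h1) (by
    intro v hv
    rw [hC, Subgroup.mem_comap, (hmk1 v).mpr hv]
    exact Subgroup.one_mem _)) inf_le_left
  have hXV' : V' ⊓ C = V' := by
    rcases hX with h | h
    · exfalso
      apply hdV''
      rw [← h]
      exact ⟨hdV', hdC⟩
    · exact h
  have hV'C : V' ≤ C := by
    rw [← hXV']; exact inf_le_right
  rw [mem_ker_secAct]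
  intro v hv
  have h5 := Subgroup.mem_centralizer_iff.mp (Subgroup.mem_comap.mp (hV'C hv)) (mk g)
    (Subgroup.mem_map_of_mem _ (Subgroup.subset_normalClosure (Set.mem_singleton g)))
  rw [← hmk1, map_mul, map_mul, map_mul, map_inv, map_inv, h5]
  group

end Cfsg.Agent.Helper31.GT
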