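import Mathlib
import Cfsg.Prelude.Def_LocalEven
import Cfsg.Agent.Lib.Helper31.GTStable

set_option autoImplicit false
set_option linter.style.haveILetI false

/-!
# A section-closed class of `p`-stable groups

`WeakConfig p m Y`: `Y` has normal subgroups `H`, `K` with `H` a `p`-group, `K / H` (more precisely
`K H / H`) abelian of exponent dividing `m` (prime to `p`) and `Y / K` a `p`-group.  This class is
closed under subgroups and quotients, contains the minimal configuration `Config` of the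
Glauberman–Thompson theorem, and (for `p` odd) consists of groups that are `p`-stable in the
normalizer form.
-/

namespace Cfsg.Agent.Helper31.GT

open Cfsg Cfsg.Agent.Helper11.ZJ
open scoped commutatorElement

variable {G : Type*} [Group G]

/-- The class of groups `Y` having normal subgroups `K`, `H` with `H` a `p`-group,
`K` abelian of exponent dividing `m` modulo `H`, `m` prime to `p`, and `|Y : K|` a power of `p`. -/
def WeakConfig (p m : ℕ) (Y : Type*) [Group Y] : Prop :=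
  m.Coprime p ∧ ∃ K H : Subgroup Y, K.Normal ∧ H.Normal ∧ IsPGroup p H ∧
    (∀ k ∈ K, ∀ k' ∈ K, k * k' * k⁻¹ * k'⁻¹ ∈ H) ∧ (∀ k ∈ K, k ^ m ∈ H) ∧
    ∃ j : ℕ, K.index = p ^ j

theorem weak_of_config [Finite G] {p : ℕ} [hp : Fact p.Prime] {P : Sylow p G} {K : Subgroup G}
    {m : ℕ} (cfg : Config p P K m) : WeakConfig p m G := by
  haveI := cfg.Kn
  refine ⟨cfg.cop, K, pCore p G, cfg.Kn, pCore_normal' p G, isPGroup_pCore', cfg.comm, cfg.pow, ?_⟩
  have h1 : K.index = K.relIndex (P : Subgroup G) := by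
    rw [← Subgroup.relIndex_top_right, ← cfg.gen, sup_comm, Subgroup.relIndex_sup_right]
  have h2 : K.relIndex (P : Subgroup G) ∣ Nat.card (P : Subgroup G) := Subgroup.index_dvd_card _
  obtain ⟨n, hn⟩ := IsPGroup.iff_card.mp P.isPGroup'
  rw [hn] at h2
  obtain ⟨j, _, hj⟩ := (Nat.dvd_prime_pow hp.out).mp h2
  exact ⟨j, by rw [h1, hj]⟩

theorem WeakConfig.subgroup {p m : ℕ} [hp : Fact p.Prime] (h : WeakConfig p m G)
    (L : Subgroup G) : WeakConfig p m ↥L := by
  obtain ⟨hcop, K, H, hKn, hHn, hHp, hcomm, hpow, j, hj⟩ := h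
  refine ⟨hcop, K.subgroupOf L, H.subgroupOf L, hKn.subgroupOf L, hHn.subgroupOf L,
    hHp.comap_subtype, ?_, ?_, ?_⟩
  · intro k hk k' hk'
    rw [Subgroup.mem_subgroupOf] at hk hk' ⊢
    exact hcomm _ hk _ hk'
  · intro k hk
    rw [Subgroup.mem_subgroupOf] at hk ⊢
    exact hpow _ hk
  · have h1 : (K.subgroupOf L).index ∣ p ^ j := by
      rw [← hj]
      haveI := hKn
      exact Subgroup.relIndex_dvd_index_of_normal K L
    obtain ⟨i, _, hi⟩ := (Nat.dvd_prime_pow hp.out).mp h1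
    exact ⟨i, hi⟩

theorem WeakConfig.quotient {p m : ℕ} [hp : Fact p.Prime] (h : WeakConfig p m G)
    (M : Subgroup G) [M.Normal] : WeakConfig p m (G ⧸ M) := by
  obtain ⟨hcop, K, H, hKn, hHn, hHp, hcomm, hpow, j, hj⟩ := h
  have hsurj : Function.Surjective (QuotientGroup.mk' M) := QuotientGroup.mk'_surjective M
  refine ⟨hcop, K.map (QuotientGroup.mk' M), H.map (QuotientGroup.mk' M), hKn.map _ hsurj,
    hHn.map _ hsurj, hHp.map _, ?_, ?_, ?_⟩
  · rintro _ ⟨k, hk, rfl⟩ _ ⟨k', hk', rfl⟩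
    refine ⟨k * k' * k⁻¹ * k'⁻¹, hcomm k hk k' hk', ?_⟩
    simp only [map_mul, map_inv]
  · rintro _ ⟨k, hk, rfl⟩
    exact ⟨k ^ m, hpow k hk, by simp only [map_pow]⟩
  · have h1 : (K.map (QuotientGroup.mk' M)).index ∣ p ^ j := by
      rw [← hj]
      exact Subgroup.index_map_dvd K hsurj
    obtain ⟨i, _, hi⟩ := (Nat.dvd_prime_pow hp.out).mp h1
    exact ⟨i, hi⟩

/-- A group in the class `WeakConfig` is in the configuration `Config` with respect to every Sylow
`p`-subgroup. -/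
theorem WeakConfig.config [Finite G] {p m : ℕ} [hp : Fact p.Prime] (h : WeakConfig p m G) :
    ∃ K : Subgroup G, ∀ P : Sylow p G, Config p P K m := by
  obtain ⟨hcop, K, H, hKn, hHn, hHp, hcomm, hpow, j, hj⟩ := h
  haveI := hKn
  haveI hOn : (pCore p G).Normal := pCore_normal' p G
  have hHO : H ≤ pCore p G := le_pCore' hHn hHp
  set mk := QuotientGroup.mk' (pCore p G) with hmk
  have hmk1 : ∀ g : G, mk g = 1 ↔ g ∈ pCore p G := fun g => QuotientGroup.eq_one_iff g
  have hrep : ∀ k ∈ K ⊔ pCore p G, ∃ k₀ ∈ K, mk k₀ = mk k := by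
    intro k hk
    have h1 : mk k ∈ (K ⊔ pCore p G).map mk := Subgroup.mem_map_of_mem _ hk
    rw [Subgroup.map_sup, QuotientGroup.map_mk'_self, sup_bot_eq] at h1
    obtain ⟨k₀, hk₀, h2⟩ := h1
    exact ⟨k₀, hk₀, h2⟩
  refine ⟨K ⊔ pCore p G, fun P => ⟨inferInstance, le_sup_right, ?_, hcop, ?_, ?_⟩⟩
  · intro k hk k' hk'
    obtain ⟨k₀, hk₀, e₀⟩ := hrep k hk
    obtain ⟨k₁, hk₁, e₁⟩ := hrep k' hk'
    rw [← hmk1, map_mul, map_mul, map_mul, map_inv, map_inv, ← e₀, ← e₁, ← map_inv, ← map_inv,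
      ← map_mul, ← map_mul, ← map_mul, hmk1]
    exact hHO (hcomm k₀ hk₀ k₁ hk₁)
  · intro k hk
    obtain ⟨k₀, hk₀, e₀⟩ := hrep k hk
    rw [← hmk1, map_pow, ← e₀, ← map_pow, hmk1]
    exact hHO (hpow k₀ hk₀)
  · rw [← Subgroup.index_eq_one]
    have h1 : (K ⊔ pCore p G ⊔ (P : Subgroup G)).index ∣ p ^ j := by
      rw [← hj]
      exact Subgroup.index_dvd_of_le (le_sup_left.trans le_sup_left)
    have h2 : (K ⊔ pCore p G ⊔ (P : Subgroup G)).index ∣ (P : Subgroup G).index :=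
      Subgroup.index_dvd_of_le le_sup_right
    obtain ⟨i, _, hi⟩ := (Nat.dvd_prime_pow hp.out).mp h1
    rw [hi] at h2 ⊢
    rcases Nat.eq_zero_or_pos i with h0 | h0
    · rw [h0, pow_zero]
    · exfalso
      exact P.not_dvd_index ((dvd_pow_self p h0.ne').trans h2)

/-- `p`-stability (in the `stabL` form) of the groups in the class `WeakConfig`, `p` odd: no
restriction on the quadratically acting subgroup. -/
theorem WeakConfig.le_stabL [Finite G] {p m : ℕ} [hp : Fact p.Prime] (hp2 : p ≠ 2)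
    (h : WeakConfig p m G) (V : Subgroup G) [hV : V.Normal] (hVp : IsPGroup p V)
    (A : Subgroup G) (hq : ⁅⁅V, A⁆, A⁆ = ⊥) : A ≤ stabL p V := by
  obtain ⟨K, hK⟩ := h.config
  have hel : ∀ b ∈ A, ∀ v ∈ V, ⁅⁅v, b⁆, b⁆ = 1 := by
    intro b hb v hv
    have h1 : ⁅⁅v, b⁆, b⁆ ∈ ⁅⁅V, A⁆, A⁆ :=
      Subgroup.commutator_mem_commutator (Subgroup.commutator_mem_commutator hv hb) hb
    rw [hq] at h1
    exact Subgroup.mem_bot.mp h1
  intro a haA
  haveI hLn : (stabL p V).Normal := stabL_normal p V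
  -- `a ^ |V|` centralizes `V`
  have hpowc : a ^ Nat.card V ∈ Subgroup.centralizer (V : Set G) := by
    have key : ∀ v ∈ V, ∀ i : ℕ, a ^ i * v⁻¹ = v⁻¹ * ⁅v, a⁆ ^ i * a ^ i := by
      intro v hv i
      have hc : Commute a ⁅v, a⁆ :=
        (commutatorElement_eq_one_iff_commute.mp (hel a haA v hv)).symm
      induction i with
      | zero => simp
      | succ i ih =>
        have e1 : a * v⁻¹ = v⁻¹ * ⁅v, a⁆ * a := by
          rw [commutatorElement_def]; group
        calc a ^ (i + 1) * v⁻¹ = a * (a ^ i * v⁻¹) := by rw [pow_succ', mul_assoc]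
          _ = a * v⁻¹ * ⁅v, a⁆ ^ i * a ^ i := by rw [ih]; simp only [mul_assoc]
          _ = v⁻¹ * ⁅v, a⁆ * (a * ⁅v, a⁆ ^ i) * a ^ i := by rw [e1]; simp only [mul_assoc]
          _ = v⁻¹ * ⁅v, a⁆ * (⁅v, a⁆ ^ i * a) * a ^ i := by rw [(hc.pow_right i).eq]
          _ = v⁻¹ * ⁅v, a⁆ ^ (i + 1) * a ^ (i + 1) := by
            rw [pow_succ' ⁅v, a⁆, pow_succ' a]; simp only [mul_assoc]
    rw [Subgroup.mem_centralizer_iff]
    intro v hv
    have hv' : v⁻¹ ∈ V := V.inv_mem hv
    have h1 := key v⁻¹ hv' (Nat.card V)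
    have hcV : ⁅v⁻¹, a⁆ ∈ V := by
      rw [commutatorElement_def]
      have : v⁻¹ * a * v⁻¹⁻¹ * a⁻¹ = v⁻¹ * (a * v⁻¹⁻¹ * a⁻¹) := by group
      rw [this]
      exact V.mul_mem hv' (hV.conj_mem _ (V.inv_mem hv') a)
    have h2 : ⁅v⁻¹, a⁆ ^ Nat.card V = 1 := by
      have := pow_card_eq_one' (G := ↥V) (x := ⟨_, hcV⟩)
      exact congrArg Subtype.val this
    rw [h2, inv_inv, mul_one] at h1
    exact h1.symm
  -- decomposition of `a`
  obtain ⟨j, hj⟩ := IsPGroup.iff_card.mp hVp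
  obtain ⟨e, n', hn', hcard⟩ :=
    Nat.exists_eq_pow_mul_and_not_dvd (Nat.card_pos (α := G)).ne' p hp.out.ne_one
  have hcop : Nat.Coprime (p ^ j) n' :=
    Nat.Coprime.pow_left _ ((Nat.Prime.coprime_iff_not_dvd hp.out).mpr hn')
  have hbez := Nat.gcd_eq_gcd_ab (p ^ j) n'
  rw [hcop] at hbez
  set u := Nat.gcdA (p ^ j) n' with hu
  set w := Nat.gcdB (p ^ j) n' with hw
  set c := (a ^ (p ^ j)) ^ u with hc
  set b := (a ^ n') ^ w with hb
  have hab : a = c * b := by
    rw [hc, hb, ← zpow_natCast a (p ^ j), ← zpow_natCast a n', ← zpow_mul, ← zpow_mul, ← zpow_add]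
    have : ((p ^ j : ℕ) : ℤ) * u + (n' : ℤ) * w = 1 := by
      rw [← hbez]; simp
    rw [this, zpow_one]
  have hcC : c ∈ Subgroup.centralizer (V : Set G) := by
    rw [hc, ← hj]
    exact Subgroup.zpow_mem _ hpowc _
  have hbA : b ∈ A := A.zpow_mem (A.pow_mem haA _) _
  have hbp : b ^ p ^ e = 1 := by
    rw [hb, ← zpow_natCast, ← zpow_mul, mul_comm, zpow_mul, zpow_natCast, ← pow_mul, mul_comm,
      ← hcard, pow_card_eq_one', one_zpow]
  have hbpg : IsPGroup p (Subgroup.zpowers b) := by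
    have h1 : orderOf b ∣ p ^ e := orderOf_dvd_of_pow_eq_one hbp
    obtain ⟨i, _, hi⟩ := (Nat.dvd_prime_pow hp.out).mp h1
    exact IsPGroup.of_card (n := i) (by rw [Nat.card_zpowers, hi])
  obtain ⟨P, hP⟩ := hbpg.exists_le_sylow
  have hbP : b ∈ (P : Subgroup G) := hP (Subgroup.mem_zpowers b)
  have hbL : b ∈ stabL p V := mem_stabL_of_quadratic hp2 (hK P) V hVp b hbP (hel b hbA)
  rw [hab]
  exact (stabL p V).mul_mem (centralizer_le_stabL p V hcC) hbL

lemma mem_pCore_quot_of_eq {p : ℕ} (C C' : Subgroup G) [C.Normal] [C'.Normal]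
    (h : C = C') (x : G) (hx : QuotientGroup.mk' C x ∈ pCore p (G ⧸ C)) :
    QuotientGroup.mk' C' x ∈ pCore p (G ⧸ C') := by
  subst h
  exact hx

/-- The groups in the class `WeakConfig` are `p`-stable in the normalizer form (`p` odd). -/
theorem WeakConfig.isNormalizerPStable [Finite G] {p m : ℕ} [hp : Fact p.Prime] (hp2 : p ≠ 2)
    (h : WeakConfig p m G) : IsNormalizerPStable p G := by
  intro P₀ hP₀ g hg hq
  set N := Subgroup.normalizer (P₀ : Set G) with hN
  have hM := h.subgroup N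
  set V : Subgroup ↥N := P₀.subgroupOf N with hV
  haveI hVn : V.Normal := Subgroup.normal_in_normalizer
  have hVp : IsPGroup p V := hP₀.comap_subtype
  set A : Subgroup ↥N := Subgroup.zpowers (⟨g, hg⟩ : ↥N) with hA
  have hP₀N : P₀ ≤ N := Subgroup.le_normalizer
  have hqA : ⁅⁅V, A⁆, A⁆ = ⊥ := by
    apply Subgroup.map_injective N.subtype_injective
    rw [Subgroup.map_commutator, Subgroup.map_commutator, Subgroup.map_bot, hV,
      Subgroup.subgroupOf_map_subtype, inf_eq_left.mpr hP₀N, hA, MonoidHom.map_zpowers]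
    exact hq
  have hmem := hM.le_stabL hp2 V hVp A hqA (Subgroup.mem_zpowers _)
  have heq : Subgroup.centralizer (V : Set ↥N) =
      (Subgroup.centralizer (P₀ : Set G)).subgroupOf N := by
    ext x
    rw [Subgroup.mem_subgroupOf, Subgroup.mem_centralizer_iff, Subgroup.mem_centralizer_iff]
    constructor
    · intro hx y hy
      have := hx ⟨y, hP₀N hy⟩ (Subgroup.mem_subgroupOf.mpr hy)
      exact congrArg Subtype.val this
    · intro hx y hy
      apply Subtype.ext
      exact hx y (Subgroup.mem_subgroupOf.mp hy)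
  exact mem_pCore_quot_of_eq _ _ heq _ hmem

end Cfsg.Agent.Helper31.GT
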