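import Mathlib
import Cfsg.Agent.Lib.Helper31.H2Defs
import Cfsg.Agent.Lib.Helper30.H2A1
import Cfsg.Agent.Lib.Helper22.H2A2

set_option autoImplicit false
set_option linter.style.haveILetI false

/-!
# S3786 part (a): `l_p ≤ e` in the non-exceptional case (copy of `HHB` with `NE` instead of `AbSyl`)
-/

namespace Cfsg.Agent.Helper31.H2

open Cfsg Cfsg.Agent.Helper31.GT Cfsg.Agent.Helper63 Cfsg.Agent.Helper31.HHB

universe u

variable {G : Type*} [Group G]

/-- In a `p`-soluble group with `O_{p'} = 1`, abelian Sylow `q`-subgroups (`q ≠ p`) and `p`-exponent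
`p ^ (n+1)`, the `p ^ n`-th power of every `p`-element lies in `O_p`. -/
theorem pow_mem_pCore_ne [Finite G] {p : ℕ} [hp : Fact p.Prime]
    (hp2 : p ≠ 2) (hsol : IsPSolvable p G) (hcore : pPrimeCore p G = ⊥) (hab : NE p G) (n : ℕ)
    (hexp : ExpLE p (n + 1) G) (x : G) (hx : ∃ k : ℕ, x ^ p ^ k = 1) :
    x ^ p ^ n ∈ pCore p G := by
  set P₁ := pCore p G with hP₁
  haveI hPn : P₁.Normal := Cfsg.pCore_normal p G
  have hPp : IsPGroup p P₁ := Cfsg.Agent.Helper55.isPGroup_pCore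
  set Φ := (frattini ↥P₁).map P₁.subtype with hΦ
  haveI hΦn : Φ.Normal := by
    rw [← Subgroup.normalizer_eq_top_iff, eq_top_iff]
    have h1 := Cfsg.Agent.Helper24.normalizer_le_normalizer_map_subtype_of_characteristic P₁
      (frattini ↥P₁)
    rw [Subgroup.normalizer_eq_top_iff.mpr hPn] at h1
    exact h1
  obtain ⟨hfc, hfe⟩ := Cfsg.Agent.S4208.frattini_quot_props
    (IsPGroup.of_equiv hPp (MulEquiv.refl _) : IsPGroup p ↥P₁)
  have hΦ1 : ∀ u ∈ P₁, ∀ v ∈ P₁, u * v * u⁻¹ * v⁻¹ ∈ Φ := by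
    intro u hu v hv
    refine ⟨⟨u, hu⟩ * ⟨v, hv⟩ * ⟨u, hu⟩⁻¹ * ⟨v, hv⟩⁻¹, ?_, rfl⟩
    rw [SetLike.mem_coe, ← QuotientGroup.eq_one_iff, QuotientGroup.mk_mul, QuotientGroup.mk_mul,
      QuotientGroup.mk_mul, QuotientGroup.mk_inv, QuotientGroup.mk_inv,
      hfc (⟨u, hu⟩ : ↥P₁) (⟨v, hv⟩ : ↥P₁)]
    group
  have hΦ2 : ∀ v ∈ P₁, v ^ p ∈ Φ := by
    intro v hv
    refine ⟨⟨v, hv⟩ ^ p, ?_, rfl⟩
    rw [SetLike.mem_coe, ← QuotientGroup.eq_one_iff, QuotientGroup.mk_pow]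
    exact hfe _
  set mk := QuotientGroup.mk' Φ with hmk
  have hmk1 : ∀ g : G, mk g = 1 ↔ g ∈ Φ := fun g => QuotientGroup.eq_one_iff g
  set φ := secAct P₁ Φ with hφ
  have hUcomm : ∀ u u' : ↥(P₁.map mk), u * u' = u' * u := by
    rintro ⟨_, v, hv, rfl⟩ ⟨_, v', hv', rfl⟩
    apply Subtype.ext
    show mk v * mk v' = mk v' * mk v
    have h3 := (hmk1 _).mpr (hΦ1 v hv v' hv')
    rw [map_mul, map_mul, map_mul, map_inv, map_inv] at h3
    calc mk v * mk v' = (mk v * mk v' * (mk v)⁻¹ * (mk v')⁻¹) * (mk v' * mk v) := by group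
      _ = mk v' * mk v := by rw [h3, one_mul]
  letI : CommGroup ↥(P₁.map mk) :=
    { (inferInstance : Group ↥(P₁.map mk)) with mul_comm := hUcomm }
  have hWexp : ∀ w : ↥(P₁.map mk), w ^ p = 1 := by
    rintro ⟨_, v, hv, rfl⟩
    apply Subtype.ext
    show (mk v) ^ p = 1
    rw [← map_pow]
    exact (hmk1 _).mpr (hΦ2 v hv)
  have hPker : P₁ ≤ φ.ker := fun g hg =>
    (mem_ker_secAct P₁ Φ g).mpr (fun v hv => hΦ1 g hg v hv)
  have hkerP : φ.ker ≤ P₁ := fun g hg =>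
    Cfsg.Agent.Helper24.mem_pCore_of_commutator_mem_frattini hsol hcore g
      ((mem_ker_secAct P₁ Φ g).mp hg)
  set ψ : G ⧸ P₁ →* MulAut ↥(P₁.map mk) := QuotientGroup.lift P₁ φ hPker with hψ
  have hψinj : Function.Injective ψ := by
    rw [injective_iff_map_eq_one]
    intro g' hg'
    obtain ⟨g, rfl⟩ := QuotientGroup.mk_surjective g'
    have h1 : φ g = 1 := hg'
    exact (QuotientGroup.eq_one_iff g).mpr (hkerP (MonoidHom.mem_ker.mpr h1))
  have hsolH : IsPSolvable p (G ⧸ P₁) := Cfsg.Agent.Helper76.IsPSolvable.quotient hsol P₁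
  have hOH : pCore p (G ⧸ P₁) = ⊥ := pCore_quot_pCore_eq_bot p
  have habH : NE p (G ⧸ P₁) := Cfsg.Agent.Helper22.H2.ne_quotient hab P₁
  have hxN : x ^ p ^ (n + 1) = 1 := hexp x hx
  have hxb : (QuotientGroup.mk' P₁ x) ^ p ^ (n + 1) = 1 := by rw [← map_pow, hxN, map_one]
  -- the trace condition
  have htr : ∀ w : ↥(P₁.map mk),
      ∏ j ∈ Finset.range (p ^ (n + 1)), ((ψ (QuotientGroup.mk' P₁ x)) ^ j) w = 1 := by
    rintro ⟨_, v, hv, rfl⟩
    have hψx : ψ (QuotientGroup.mk' P₁ x) = φ x := rfl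
    rw [hψx]
    have hind : ∀ m : ℕ, ((∏ j ∈ Finset.range m,
        ((φ x) ^ j) (⟨mk v, Subgroup.mem_map_of_mem _ hv⟩ : ↥(P₁.map mk)) : ↥(P₁.map mk)) : G ⧸ Φ) =
        mk ((v * x) ^ m * (x ^ m)⁻¹) := by
      intro m
      induction m with
      | zero => simp
      | succ m ih =>
        rw [Finset.prod_range_succ]
        have hmul : ∀ a b : ↥(P₁.map mk), ((a * b : ↥(P₁.map mk)) : G ⧸ Φ) = (a : G ⧸ Φ) * b :=
          fun a b => rfl
        rw [hmul, ih, ← map_pow, secAct_apply_coe]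
        show mk ((v * x) ^ m * (x ^ m)⁻¹) * (mk (x ^ m) * mk v * (mk (x ^ m))⁻¹) = _
        rw [← map_inv, ← map_mul, ← map_mul, ← map_mul]
        congr 1
        rw [pow_succ, pow_succ]
        group
    apply Subtype.ext
    rw [hind]
    have hvx : ∃ k : ℕ, (v * x) ^ p ^ k = 1 := by
      have hZ : IsPGroup p (Subgroup.zpowers x) := by
        obtain ⟨k, hk⟩ := hx
        rintro ⟨g, hg⟩
        obtain ⟨i, rfl⟩ := Subgroup.mem_zpowers_iff.mp hg
        refine ⟨k, ?_⟩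
        apply Subtype.ext
        rw [Subgroup.coe_pow]
        show (x ^ i) ^ p ^ k = 1
        rw [← zpow_natCast, ← zpow_mul, mul_comm, zpow_mul, zpow_natCast, hk, one_zpow]
      have hsup : IsPGroup p (P₁ ⊔ Subgroup.zpowers x : Subgroup G) :=
        IsPGroup.to_sup_of_normal_left hPp hZ
      have hmem : v * x ∈ P₁ ⊔ Subgroup.zpowers x :=
        Subgroup.mul_mem _ (Subgroup.mem_sup_left hv)
          (Subgroup.mem_sup_right (Subgroup.mem_zpowers x))
      obtain ⟨k, hk⟩ := hsup ⟨v * x, hmem⟩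
      refine ⟨k, ?_⟩
      have := congrArg Subtype.val hk
      rwa [Subgroup.coe_pow] at this
    rw [hexp (v * x) hvx, hxN]
    simp
  have hfin := Cfsg.Agent.Helper30.H2.thmB_ne hp2 hsolH hOH habH hWexp ψ hψinj n (QuotientGroup.mk' P₁ x) hxb htr
  rw [← map_pow] at hfin
  exact (QuotientGroup.eq_one_iff _).mp hfin

/-- The `p ^ n`-th power of every `p`-element lies in `O_{p',p}`. -/
theorem pow_mem_pPrimePCore_ne [Finite G] {p : ℕ} [hp : Fact p.Prime]
    (hp2 : p ≠ 2) (hsol : IsPSolvable p G) (hab : NE p G) (n : ℕ)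
    (hexp : ExpLE p (n + 1) G) (x : G) (hx : ∃ k : ℕ, x ^ p ^ k = 1) :
    x ^ p ^ n ∈ pPrimePCore p G := by
  show QuotientGroup.mk' (pPrimeCore p G) (x ^ p ^ n) ∈ pCore p (G ⧸ pPrimeCore p G)
  have hsol' : IsPSolvable p (G ⧸ pPrimeCore p G) :=
    Cfsg.Agent.Helper76.IsPSolvable.quotient hsol _
  have hbot : pPrimeCore p (G ⧸ pPrimeCore p G) = ⊥ :=
    Cfsg.Agent.Helper55.pPrimeCore_quotient_eq_bot p
  rw [map_pow]
  apply pow_mem_pCore_ne hp2 hsol' hbot (Cfsg.Agent.Helper22.H2.ne_quotient hab _) n (hexp.quotient _)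
  obtain ⟨k, hk⟩ := hx
  exact ⟨k, by rw [← map_pow, hk, map_one]⟩

theorem main_a {p : ℕ} [hp : Fact p.Prime] (hp2 : p ≠ 2) : ∀ n : ℕ, ∀ (G : Type u) [Group G] [Finite G],
    IsPSolvable p G → NE p G → ExpLE p n G → PL p n (⊥ : Subgroup G) ⊤ := by
  intro n
  induction n with
  | zero =>
    intro G _ _ _ _ hexp
    refine PL.base _ _ bot_le inferInstance inferInstance ?_
    rw [Subgroup.relIndex_bot_left]
    have h3 : Nat.card ↥(⊤ : Subgroup G) = Nat.card G := Nat.card_congr Subgroup.topEquiv.toEquiv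
    rw [h3, Nat.coprime_comm, Nat.Prime.coprime_iff_not_dvd hp.out]
    intro hd
    obtain ⟨g, hg⟩ := exists_prime_orderOf_dvd_card' p hd
    have h1 : g ^ p ^ 0 = 1 := hexp g ⟨1, by rw [pow_one, ← hg]; exact pow_orderOf_eq_one g⟩
    rw [pow_zero, pow_one] at h1
    rw [h1, orderOf_one] at hg
    exact hp.out.one_lt.ne' hg.symm
  | succ k ih =>
    intro G _ _ hsol hab hexp
    have hKn : (pPrimeCore p G).Normal := inferInstance
    have hNn : (pPrimePCore p G).Normal := inferInstance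
    have hKN : pPrimeCore p G ≤ pPrimePCore p G := le_comap_mk'_self _ _
    have hc1 : PL p 1 (⊥ : Subgroup G) (pPrimePCore p G) := by
      refine PL.step 0 ⊥ (pPrimeCore p G) (pPrimePCore p G) (pPrimePCore p G)
        (PL.base _ _ bot_le inferInstance hKn ?_) hKN le_rfl hNn hNn ?_ ?_
      · rw [Subgroup.relIndex_bot_left]; exact Cfsg.Agent.Helper55.pPrimeCore_coprime p
      · have h1 : (pPrimeCore p G).relIndex (pPrimePCore p G) =
            Nat.card (pCore p (G ⧸ pPrimeCore p G)) := relIndex_comap_mk' _ _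
        rw [h1]
        exact IsPGroup.iff_card.mp Cfsg.Agent.Helper55.isPGroup_pCore
      · simp
    have hsol' : IsPSolvable p (G ⧸ pPrimePCore p G) :=
      Cfsg.Agent.Helper76.IsPSolvable.quotient hsol _
    have hexp' : ExpLE p k (G ⧸ pPrimePCore p G) := by
      intro x' ⟨j, hj⟩
      have h1 : orderOf x' ∣ p ^ j := orderOf_dvd_of_pow_eq_one hj
      obtain ⟨i, _, hi⟩ := (Nat.dvd_prime_pow hp.out).mp h1
      obtain ⟨x, rfl, k', hk'⟩ := Cfsg.Agent.Helper76.exists_primePow_lift p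
        (QuotientGroup.mk' (pPrimePCore p G)) (QuotientGroup.mk'_surjective _) x' ⟨i, hi⟩
      rw [← map_pow]
      exact (QuotientGroup.eq_one_iff _).mpr (pow_mem_pPrimePCore_ne hp2 hsol hab k hexp x
        ⟨k', by rw [← hk']; exact pow_orderOf_eq_one x⟩)
    have hc2 := ih (G ⧸ pPrimePCore p G) hsol' (Cfsg.Agent.Helper22.H2.ne_quotient hab _) hexp'
    have hc3 := Cfsg.Agent.S0635.PL_comap (pPrimePCore p G) hc2
    rw [MonoidHom.comap_bot, QuotientGroup.ker_mk', Subgroup.comap_top] at hc3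
    have hc4 := hc1.trans hc3
    rw [Nat.add_comm] at hc4
    exact hc4

end Cfsg.Agent.Helper31.H2
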