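import Mathlib
import Cfsg.Agent.Lib.Helper31.H2Defs

set_option autoImplicit false

namespace Cfsg.Agent.Helper31.H2

open Cfsg Cfsg.Agent.Helper48.Wreath

theorem alg_frob_eq (K : Type*) [Field K] (p n : ℕ) [Fact p.Prime] [CharP K p] {A : Type*} [Ring A]
    [Algebra K A] (c : A) : (c - 1) ^ (p ^ n) = c ^ (p ^ n) - 1 := by
  have h : ((Polynomial.X : Polynomial K) - 1) ^ (p ^ n) = Polynomial.X ^ (p ^ n) - 1 := by
    rw [sub_pow_char_pow, one_pow]
  have := congrArg (Polynomial.aeval c) h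
  simpa using this

/-- (ALG) -/
theorem comm_ne_one {G : Type*} [Group G] {p : ℕ} [Fact p.Prime] {W : Type*} [CommGroup W]
    [Module (ZMod p) (Additive W)] (P : Subgroup G) (hPn : P.Normal) (φ : G →* MulAut W) (cls : ↥P →* W)
    (heq : ∀ (g : G) (v : ↥P), φ g (cls v) = cls ⟨g * v * g⁻¹, hPn.conj_mem _ v.2 g⟩)
    (h : G) (n : ℕ) (u : ↥P)
    (hne : ((linRep p φ h - 1) ^ (2 * p ^ n - 1)) (Additive.ofMul (cls u)) ≠ 0) :
    cmt (h ^ p ^ n) (((u : G) * h) ^ p ^ n) ≠ 1 := by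
  intro hcm
  apply hne
  have hpos : 0 < p ^ n := pow_pos (Fact.out : p.Prime).pos n
  have hsplit : 2 * p ^ n - 1 = p ^ n + (p ^ n - 1) := by omega
  set ρ := linRep p φ h with hρ
  -- membership of the quotient element
  have hmemP : ∀ m : ℕ, ((u : G) * h) ^ m * (h ^ m)⁻¹ ∈ P := by
    intro m
    induction m with
    | zero => simpa using P.one_mem
    | succ m ih =>
      have h1 : ((u : G) * h) ^ (m + 1) * (h ^ (m + 1))⁻¹ =
          (((u : G) * h) ^ m * (h ^ m)⁻¹) * (h ^ m * (u : G) * (h ^ m)⁻¹) := by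
        rw [pow_succ, pow_succ]; group
      rw [h1]
      exact P.mul_mem ih (hPn.conj_mem _ u.2 _)
  -- the norm formula
  have hind : ∀ m : ℕ, (∏ j ∈ Finset.range m, ((φ h) ^ j) (cls u)) =
      cls ⟨((u : G) * h) ^ m * (h ^ m)⁻¹, hmemP m⟩ := by
    intro m
    induction m with
    | zero =>
      rw [Finset.prod_range_zero]
      have : (⟨((u : G) * h) ^ 0 * (h ^ 0)⁻¹, hmemP 0⟩ : ↥P) = 1 := by
        apply Subtype.ext; simp
      rw [this, map_one]
    | succ m ih =>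
      rw [Finset.prod_range_succ, ih, ← map_pow, heq, ← map_mul]
      congr 1
      apply Subtype.ext
      show ((u : G) * h) ^ m * (h ^ m)⁻¹ * (h ^ m * (u : G) * (h ^ m)⁻¹) =
        ((u : G) * h) ^ (m + 1) * (h ^ (m + 1))⁻¹
      rw [pow_succ, pow_succ]; group
  set z := h ^ p ^ n with hz
  set z' := ((u : G) * h) ^ p ^ n with hz'
  set v : ↥P := ⟨z' * z⁻¹, hmemP (p ^ n)⟩ with hv
  have hsum : (∑ j ∈ Finset.range (p ^ n), ρ ^ j) (Additive.ofMul (cls u)) = Additive.ofMul (cls v) := by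
    apply Additive.toMul.injective
    rw [hρ, linRep_sum_apply, hind]
    rfl
  have hgeom : (∑ j ∈ Finset.range (p ^ n), ρ ^ j) = (ρ - 1) ^ (p ^ n - 1) :=
    Cfsg.Agent.Helper31.HH.alg_geom_eq (K := ZMod p) p n ρ
  have hfrob : (ρ - 1) ^ (p ^ n) = ρ ^ (p ^ n) - 1 := alg_frob_eq (ZMod p) p n ρ
  rw [hsplit, pow_add, hfrob, Module.End.mul_apply, ← hgeom, hsum, LinearMap.sub_apply,
    Module.End.one_apply]
  -- `ρ^(p^n) (cls v) = cls (z v z⁻¹)` and `z v z⁻¹ = v`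
  have h1 : Additive.toMul ((ρ ^ (p ^ n)) (Additive.ofMul (cls v))) = cls v := by
    rw [hρ, linRep_pow_apply, ← map_pow, heq]
    congr 1
    apply Subtype.ext
    show z * (z' * z⁻¹) * z⁻¹ = z' * z⁻¹
    have h2 : z * z' * z⁻¹ * z'⁻¹ = 1 := hcm
    calc z * (z' * z⁻¹) * z⁻¹ = (z * z' * z⁻¹ * z'⁻¹) * (z' * z⁻¹) := by group
      _ = z' * z⁻¹ := by rw [h2, one_mul]
  have h3 : (ρ ^ (p ^ n)) (Additive.ofMul (cls v)) = Additive.ofMul (cls v) := by
    apply Additive.toMul.injective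
    rw [h1]; rfl
  rw [h3, sub_self]

end Cfsg.Agent.Helper31.H2
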