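import Mathlib
import Cfsg.Agent.Lib.Helper31.H2Defs
import Cfsg.Agent.Lib.Helper90.H2I1
import Cfsg.Agent.Lib.Helper90.H2I2a
import Cfsg.Agent.Lib.Helper90.H2I2b
import Cfsg.Agent.Lib.Helper16.H2TR
import Cfsg.Agent.Lib.Helper22.H2PP
import Cfsg.Agent.Lib.Helper47.H2D1
import Cfsg.Agent.Lib.Helper8.H2D2
import Cfsg.Agent.Lib.Helper47.H2E1
import Cfsg.Agent.Lib.Helper19.H2E2
import Cfsg.Agent.Lib.Helper99.H2E3
import Cfsg.Agent.Lib.Helper47.H2E4
import Cfsg.Agent.Lib.Helper71.H2E5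
import Cfsg.Agent.Lib.Helper71.H2F1
import Cfsg.Agent.Lib.Helper71.H2F2

set_option autoImplicit false

/-!
# S3786: the induction `IndStmt` (wiring of the H2 pieces)
-/

namespace Cfsg.Agent.Helper31.H2

open Cfsg Cfsg.Agent.Helper31.HHB

universe u

section basics

variable {H : Type*} [Group H]

theorem conj_pow_eq {k a c : H} (hkc : k * c = c * k) (m : ℕ)
    (hk : k * a * k⁻¹ = a * c ^ m) (n : ℕ) : k ^ n * a * (k ^ n)⁻¹ = a * c ^ (n * m) := by
  have hkcm : ∀ i : ℕ, k * c ^ i * k⁻¹ = c ^ i := by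
    intro i
    have h1 : Commute k (c ^ i) := (show Commute k c from hkc).pow_right i
    rw [h1.eq]
    group
  induction n with
  | zero => simp
  | succ n ih =>
    calc k ^ (n + 1) * a * (k ^ (n + 1))⁻¹ = k * (k ^ n * a * (k ^ n)⁻¹) * k⁻¹ := by
          rw [pow_succ']; group
      _ = (k * a * k⁻¹) * (k * c ^ (n * m) * k⁻¹) := by rw [ih]; group
      _ = a * c ^ ((n + 1) * m) := by
          rw [hk, hkcm, mul_assoc, ← pow_add]
          congr 2
          ring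

/-- Weak normalisation passes to the closure in a finite group. -/
theorem weakNorm_closure [Finite H] (S : Set H) (N : Subgroup H)
    (hS : ∀ b ∈ S, ∀ g ∈ N, b * g * b⁻¹ ∈ N) :
    ∀ b ∈ Subgroup.closure S, ∀ g ∈ N, b * g * b⁻¹ ∈ N := by
  have hpow : ∀ b : H, (∀ g ∈ N, b * g * b⁻¹ ∈ N) → ∀ n : ℕ, ∀ g ∈ N, b ^ n * g * (b ^ n)⁻¹ ∈ N := by
    intro b hb n
    induction n with
    | zero => intro g hg; simpa using hg
    | succ n ih =>
      intro g hg
      have h1 := hb _ (ih g hg)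
      have h2 : b ^ (n + 1) * g * (b ^ (n + 1))⁻¹ = b * (b ^ n * g * (b ^ n)⁻¹) * b⁻¹ := by
        rw [pow_succ']; group
      rw [h2]; exact h1
  intro b hb
  induction hb using Subgroup.closure_induction with
  | mem x hx => exact hS x hx
  | one => intro g hg; simpa using hg
  | mul x y _ _ hx hy =>
    intro g hg
    have h1 := hx _ (hy g hg)
    have h2 : x * y * g * (x * y)⁻¹ = x * (y * g * y⁻¹) * x⁻¹ := by group
    rw [h2]; exact h1
  | inv x _ hx =>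
    intro g hg
    have hfin : x ^ (orderOf x - 1) = x⁻¹ := by
      have hpos : 0 < orderOf x := orderOf_pos x
      have h1 : x ^ (orderOf x - 1) * x = 1 := by
        rw [← pow_succ, Nat.sub_add_cancel hpos, pow_orderOf_eq_one]
      exact eq_inv_of_mul_eq_one_left h1
    rw [← hfin]
    exact hpow x hx _ g hg

theorem cmt_mem {B : Subgroup H} {x y : H} (hx : x ∈ B) (hy : y ∈ B) : cmt x y ∈ B :=
  B.mul_mem (B.mul_mem (B.mul_mem hx hy) (B.inv_mem hx)) (B.inv_mem hy)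

theorem cmt_eq_one_iff {x y : H} : cmt x y = 1 ↔ x * y = y * x := by
  unfold cmt
  constructor
  · intro h
    calc x * y = (x * y * x⁻¹ * y⁻¹) * (y * x) := by group
      _ = y * x := by rw [h, one_mul]
  · intro h
    calc x * y * x⁻¹ * y⁻¹ = (x * y) * x⁻¹ * y⁻¹ := by group
      _ = 1 := by rw [h]; group

end basics

section descend

variable {H : Type*} [Group H] [Finite H]

theorem descend {p : ℕ} [Fact p.Prime] (B R R₁ : Subgroup H) (a c : H)
    (hD : DecHyp p B R R₁ a c)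
    (hcomm : ∀ i j : ZMod p, i ≠ j → ∀ x ∈ Rj R a c i, ∀ y ∈ Rj R a c j, x * y = y * x)
    (hperm : ∀ b ∈ B, ∀ t : ZMod p, b * a * b⁻¹ = a * c ^ t.val →
      ∀ j : ZMod p, ∀ g ∈ Rj R a c j, b * g * b⁻¹ ∈ Rj R a c (j + t))
    (hint : ∀ i j : ZMod p, i ≠ j → Rj R a c i ⊓ Rj R a c j ≤ R₁)
    (hnot : ∀ j : ZMod p, ¬ Rj R a c j ≤ R₁)
    (k : H) (hk : k ∈ B) (l : ℕ) (hord : k ^ p ^ (l + 1) = 1) (hd : AbDef p R k l) :
    ∃ (k' : H) (l' : ℕ), k' ∈ B ∧ l' ≤ l ∧ (k * a ≠ a * k → l' < l) ∧ k' ^ p ^ (l' + 1) = 1 ∧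
      k' ^ p ^ l' = k ^ p ^ l ∧
      ∀ j : ZMod p, (∀ g ∈ Rj R a c j, k' * g * k'⁻¹ ∈ Rj R a c j) ∧ AbDef p (Rj R a c j) k' l' := by
  obtain ⟨t, ht⟩ := hD.conj k hk
  by_cases ht0 : t = 0
  · subst ht0
    have hka : k * a = a * k := by
      have h1 : k * a * k⁻¹ = a := by simpa using ht
      calc k * a = (k * a * k⁻¹) * k := by group
        _ = a * k := by rw [h1]
    refine ⟨k, l, hk, le_rfl, fun h => absurd hka h, hord, rfl, fun j => ⟨?_, ?_⟩⟩
    · intro g hg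
      have := hperm k hk 0 ht j g hg
      rwa [add_zero] at this
    · intro X hX
      exact hd X (hX.trans inf_le_left)
  · have hpermk : ∀ j : ZMod p, ∀ g ∈ Rj R a c j, k * g * k⁻¹ ∈ Rj R a c (j + t) :=
      fun j g hg => hperm k hk t ht j g hg
    have hRjle : ∀ j : ZMod p, Rj R a c j ≤ R := fun j => inf_le_left
    cases l with
    | zero =>
      exfalso
      have hkp : k ^ p = 1 := by simpa using hord
      exact Cfsg.Agent.Helper71.H2.false_of_level_zero R R₁ (Rj R a c) k t ht0 hkp hRjle hpermk hcomm hint (hnot 0) hd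
    | succ l =>
      have hkc : k * c = c * k := hD.c_central k hk
      have hconj : k ^ p * a * (k ^ p)⁻¹ = a * c ^ (0 : ZMod p).val := by
        rw [conj_pow_eq hkc t.val ht p, pow_mul, hD.cp, one_pow]
        simp
      refine ⟨k ^ p, l, B.pow_mem hk p, Nat.le_succ l, fun _ => Nat.lt_succ_self l, ?_, ?_,
        fun j => ⟨?_, ?_⟩⟩
      · rw [← pow_mul, ← pow_succ']
        exact hord
      · rw [← pow_mul, ← pow_succ']
      · intro g hg
        have := hperm (k ^ p) (B.pow_mem hk p) 0 hconj j g hg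
        rwa [add_zero] at this
      · exact Cfsg.Agent.Helper71.H2.abDef_descent R (Rj R a c) k l t ht0 hRjle hpermk hcomm hd j

end descend

/-- The core of the induction step, in a configuration with faithful action. -/
theorem core_false {p : ℕ} [Fact p.Prime] (hp2 : p ≠ 2) (s : ℕ) (ih : ∀ s' < s, IndStmt.{u} p s')
    {H : Type u} [Group H] [Finite H] (B R R₁ : Subgroup H) (hB : IsPGroup p B)
    (hR : (Nat.card R).Coprime p) (k₁ k₂ : H) (hgen : B = Subgroup.closure {k₁, k₂})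
    (l₁ l₂ : ℕ) (hs : l₁ + l₂ ≤ s)
    (h₁ : k₁ ^ p ^ (l₁ + 1) = 1) (h₂ : k₂ ^ p ^ (l₂ + 1) = 1)
    (hd₁ : AbDef p R k₁ l₁) (hd₂ : AbDef p R k₂ l₂) (hcfg : MinCfg B R R₁)
    (hnc : ∃ g ∈ R, cmt (k₁ ^ p ^ l₁) (k₂ ^ p ^ l₂) * g ≠ g * cmt (k₁ ^ p ^ l₁) (k₂ ^ p ^ l₂))
    (hfaith : ∀ b ∈ B, (∀ g ∈ R, b * g = g * b) → b = 1) : False := by
  have hk₁ : k₁ ∈ B := by rw [hgen]; exact Subgroup.subset_closure (by simp)
  have hk₂ : k₂ ∈ B := by rw [hgen]; exact Subgroup.subset_closure (by simp)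
  set z₁ := k₁ ^ p ^ l₁ with hz₁
  set z₂ := k₂ ^ p ^ l₂ with hz₂
  have hz₁B : z₁ ∈ B := B.pow_mem hk₁ _
  have hz₂B : z₂ ∈ B := B.pow_mem hk₂ _
  -- the top powers centralise `R₁`
  have hR₁ab : ∀ x ∈ R₁, ∀ y ∈ R₁, x * y = y * x := fun x hx y hy => hcfg.central x hx y (hcfg.le hy)
  have hz₁R₁ : ∀ g ∈ R₁, z₁ * g = g * z₁ :=
    hd₁ R₁ hcfg.le hR₁ab (fun g hg => hcfg.invR₁ k₁ hk₁ g hg)
  have hz₂R₁ : ∀ g ∈ R₁, z₂ * g = g * z₂ :=
    hd₂ R₁ hcfg.le hR₁ab (fun g hg => hcfg.invR₁ k₂ hk₂ g hg)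
  -- the normal closure `Y` of `z₁, z₂` in `B`
  set Y : Subgroup H := Subgroup.closure {y | ∃ b ∈ B, y = b * z₁ * b⁻¹ ∨ y = b * z₂ * b⁻¹} with hY
  have hYB : Y ≤ B := by
    rw [hY, Subgroup.closure_le]
    rintro y ⟨b, hb, rfl | rfl⟩
    · exact B.mul_mem (B.mul_mem hb hz₁B) (B.inv_mem hb)
    · exact B.mul_mem (B.mul_mem hb hz₂B) (B.inv_mem hb)
  have hz₁Y : z₁ ∈ Y := Subgroup.subset_closure ⟨1, B.one_mem, Or.inl (by simp)⟩
  have hz₂Y : z₂ ∈ Y := Subgroup.subset_closure ⟨1, B.one_mem, Or.inr (by simp)⟩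
  have hYn : ∀ b ∈ B, ∀ y ∈ Y, b * y * b⁻¹ ∈ Y := by
    intro b hb y hy
    induction hy using Subgroup.closure_induction with
    | mem x hx =>
      obtain ⟨b', hb', rfl | rfl⟩ := hx
      · refine Subgroup.subset_closure ⟨b * b', B.mul_mem hb hb', Or.inl ?_⟩
        group
      · refine Subgroup.subset_closure ⟨b * b', B.mul_mem hb hb', Or.inr ?_⟩
        group
    | one => simpa using Y.one_mem
    | mul x y _ _ hx hy =>
      have : b * (x * y) * b⁻¹ = (b * x * b⁻¹) * (b * y * b⁻¹) := by group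
      rw [this]; exact Y.mul_mem hx hy
    | inv x _ hx =>
      have : b * x⁻¹ * b⁻¹ = (b * x * b⁻¹)⁻¹ := by group
      rw [this]; exact Y.inv_mem hx
  have hYR₁ : ∀ y ∈ Y, ∀ g ∈ R₁, y * g = g * y := by
    have hle : Y ≤ Subgroup.centralizer (R₁ : Set H) := by
      rw [hY, Subgroup.closure_le]
      have key : ∀ z : H, (∀ g ∈ R₁, z * g = g * z) → ∀ b ∈ B,
          b * z * b⁻¹ ∈ Subgroup.centralizer (R₁ : Set H) := by
        intro z hz b hb
        rw [Subgroup.mem_centralizer_iff]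
        intro g hg
        have hg' : b⁻¹ * g * b ∈ R₁ := by
          have := hcfg.invR₁ b⁻¹ (B.inv_mem hb) g hg
          simpa using this
        have h := hz _ hg'
        calc g * (b * z * b⁻¹) = b * (b⁻¹ * g * b * z) * b⁻¹ := by group
          _ = b * (z * (b⁻¹ * g * b)) * b⁻¹ := by rw [h]
          _ = b * z * b⁻¹ * g := by group
      rintro y ⟨b, hb, rfl | rfl⟩
      · exact key z₁ hz₁R₁ b hb
      · exact key z₂ hz₂R₁ b hb
    intro y hy g hg
    exact ((Subgroup.mem_centralizer_iff.mp (hle hy)) g hg).symm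
  -- `Y` is not abelian
  have hw1 : cmt z₁ z₂ ≠ 1 := by
    intro h
    obtain ⟨g, _, hg⟩ := hnc
    apply hg
    rw [h, one_mul, mul_one]
  have hYnc : ∃ y₁ ∈ Y, ∃ y₂ ∈ Y, y₁ * y₂ ≠ y₂ * y₁ :=
    ⟨z₁, hz₁Y, z₂, hz₂Y, fun h => hw1 (cmt_eq_one_iff.mpr h)⟩
  obtain ⟨M, hMY, hMn, hMc, hMp, hMcard⟩ := Cfsg.Agent.Helper22.H2.exists_pp hp2 B Y hB hYB hYn hYnc
  have hMB : M ≤ B := hMY.trans hYB
  have hMR₁ : ∀ m ∈ M, ∀ g ∈ R₁, m * g = g * m := fun m hm => hYR₁ m (hMY hm)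
  have hnc' := Cfsg.Agent.Helper47.H2.exists_noncentral B R R₁ M hR hcfg hfaith hMB hMc hMp hMcard hMR₁
  obtain ⟨a, haM, c, hcM, hc1, hcc, hanc, hconj⟩ := Cfsg.Agent.Helper8.H2.pp_structure B M hB hMB hMn hMc hMp hMcard hnc'
  have hD : DecHyp p B R R₁ a c :=
    { hB := hB, hR := hR, cfg := hcfg, faith := hfaith, a_mem := hMB haM, c_mem := hMB hcM,
      ap := hMp a haM, cp := hMp c hcM, ac := hMc a haM c hcM, c_ne := hc1, c_central := hcc,
      a_nc := hanc, conj := hconj, aR₁ := hMR₁ a haM, cR₁ := hMR₁ c hcM }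
  have hE1 := Cfsg.Agent.Helper47.H2.cent_c_le B R R₁ a c hD
  have hcomm := Cfsg.Agent.Helper19.H2.Rj_comm B R R₁ a c hD hE1
  have hgenR := Cfsg.Agent.Helper99.H2.Rj_gen B R R₁ a c hD hE1
  have hperm := Cfsg.Agent.Helper47.H2.Rj_perm B R R₁ a c hD
  have hnot := Cfsg.Agent.Helper71.H2.Rj_not_le B R R₁ a c hD hgenR hperm
  have hint : ∀ i j : ZMod p, i ≠ j → Rj R a c i ⊓ Rj R a c j ≤ R₁ := by
    intro i j hij g hg
    have hgi' : g ∈ R ⊓ Subgroup.centralizer {a * c ^ i.val} := hg.1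
    have hgj' : g ∈ R ⊓ Subgroup.centralizer {a * c ^ j.val} := hg.2
    have hgR : g ∈ R := (Subgroup.mem_inf.mp hgi').1
    have hgi := Subgroup.mem_centralizer_singleton_iff.mp (Subgroup.mem_inf.mp hgi').2
    have hgj := Subgroup.mem_centralizer_singleton_iff.mp (Subgroup.mem_inf.mp hgj').2
    -- `g` commutes with `a c^i` and `a c^j`, hence with `c ^ (i-j)`, hence with `c`
    apply hE1 g hgR
    have hcg : ∀ n : ℕ, g * c ^ n = c ^ n * g → g * c ^ (n * 1) = c ^ (n * 1) * g := by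
      intro n h; simpa using h
    -- use the subgroup of elements commuting with g
    have hCa_i : a * c ^ i.val ∈ Subgroup.centralizer ({g} : Set H) :=
      Subgroup.mem_centralizer_singleton_iff.mpr hgi.symm
    have hCa_j : a * c ^ j.val ∈ Subgroup.centralizer ({g} : Set H) :=
      Subgroup.mem_centralizer_singleton_iff.mpr hgj.symm
    have hquot : (a * c ^ j.val)⁻¹ * (a * c ^ i.val) ∈ Subgroup.centralizer ({g} : Set H) :=
      Subgroup.mul_mem _ (Subgroup.inv_mem _ hCa_j) hCa_i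
    have hquot' : (a * c ^ j.val)⁻¹ * (a * c ^ i.val) = c ^ ((i.val : ℤ) - j.val) := by
      rw [zpow_sub, zpow_natCast, zpow_natCast]
      have hcj : Commute (c ^ i.val) (c ^ j.val)⁻¹ := ((Commute.refl c).pow_pow i.val j.val).inv_right
      rw [hcj.eq]
      group
    rw [hquot'] at hquot
    -- `c` is a power of `c ^ (i-j)`
    have hp : p.Prime := Fact.out
    have hne : ((i.val : ℤ) - j.val : ZMod p) ≠ 0 := by
      push_cast
      rw [ZMod.natCast_zmod_val, ZMod.natCast_zmod_val]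
      exact sub_ne_zero.mpr hij
    have hcop : IsCoprime ((i.val : ℤ) - j.val) (p : ℤ) := by
      refine ((Nat.prime_iff_prime_int.mp hp).coprime_iff_not_dvd.mpr ?_).symm
      intro hdvd
      apply hne
      exact_mod_cast (ZMod.intCast_zmod_eq_zero_iff_dvd _ p).mpr hdvd
    obtain ⟨u, v, huv⟩ := hcop
    have hc_eq : c = (c ^ ((i.val : ℤ) - j.val)) ^ u := by
      have h1 : c ^ (u * ((i.val : ℤ) - j.val) + v * p) = c := by rw [huv, zpow_one]
      have h2 : c ^ (v * (p : ℤ)) = 1 := by rw [zpow_mul', zpow_natCast, hD.cp, one_zpow]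
      have h3 : c ^ (u * ((i.val : ℤ) - j.val)) = (c ^ ((i.val : ℤ) - j.val)) ^ u := by
        rw [mul_comm, zpow_mul]
      rw [zpow_add, h2, mul_one, h3] at h1
      exact h1.symm
    have hcC : c ∈ Subgroup.centralizer ({g} : Set H) := by
      rw [hc_eq]; exact Subgroup.zpow_mem _ hquot u
    exact (Subgroup.mem_centralizer_singleton_iff.mp hcC)
  -- descend both elements
  obtain ⟨k₁', l₁', hk₁', hl₁', hlt₁, ho₁', hpw₁, hR₁'⟩ :=
    descend B R R₁ a c hD hcomm hperm hint hnot k₁ hk₁ l₁ h₁ hd₁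
  obtain ⟨k₂', l₂', hk₂', hl₂', hlt₂, ho₂', hpw₂, hR₂'⟩ :=
    descend B R R₁ a c hD hcomm hperm hint hnot k₂ hk₂ l₂ h₂ hd₂
  have hsum : l₁' + l₂' < s := by
    by_cases hc₁ : k₁ * a = a * k₁
    · by_cases hc₂ : k₂ * a = a * k₂
      · exfalso
        obtain ⟨b, hb, hba⟩ := hanc
        apply hba
        have hle : B ≤ Subgroup.centralizer ({a} : Set H) := by
          rw [hgen, Subgroup.closure_le]
          intro x hx
          rcases hx with rfl | rfl
          · exact Subgroup.mem_centralizer_singleton_iff.mpr hc₁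
          · exact Subgroup.mem_centralizer_singleton_iff.mpr hc₂
        exact Subgroup.mem_centralizer_singleton_iff.mp (hle hb)
      · have := hlt₂ hc₂; omega
    · have := hlt₁ hc₁; omega
  -- the commutator centralises every piece
  have hpiece : ∀ j : ZMod p, ∀ g ∈ Rj R a c j, cmt z₁ z₂ * g = g * cmt z₁ z₂ := by
    intro j
    have hcop : (Nat.card (Rj R a c j)).Coprime p :=
      Nat.Coprime.coprime_dvd_left (Subgroup.card_dvd_of_le (inf_le_left : Rj R a c j ≤ R)) hR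
    have := ih (l₁' + l₂') hsum H B (Rj R a c j) k₁' k₂' l₁' l₂' le_rfl hB hcop hk₁' hk₂'
      (hR₁' j).1 (hR₂' j).1 ho₁' ho₂' (hR₁' j).2 (hR₂' j).2
    rw [hpw₁, hpw₂] at this
    exact this
  have hle : R ≤ Subgroup.centralizer ({cmt z₁ z₂} : Set H) := by
    refine hgenR.trans (iSup_le fun j g hg => ?_)
    exact Subgroup.mem_centralizer_singleton_iff.mpr (hpiece j g hg).symm
  obtain ⟨g, hgR, hg⟩ := hnc
  exact hg (Subgroup.mem_centralizer_singleton_iff.mp (hle hgR)).symm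

/-- The induction step. -/
theorem ind_step {p : ℕ} [Fact p.Prime] (hp2 : p ≠ 2) (s : ℕ) (ih : ∀ s' < s, IndStmt.{u} p s') :
    IndStmt.{u} p s := by
  intro H _ _ T N k₁ k₂ l₁ l₂ hs hT hN hk₁ hk₂ hn₁ hn₂ ho₁ ho₂ hd₁ hd₂
  by_contra hcon
  push Not at hcon
  obtain ⟨g₀, hg₀N, hg₀⟩ := hcon
  set B : Subgroup H := Subgroup.closure {k₁, k₂} with hBdef
  have hBT : B ≤ T := by
    rw [hBdef, Subgroup.closure_le]
    intro x hx
    rcases hx with rfl | rfl
    · exact hk₁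
    · exact hk₂
  have hB : IsPGroup p B := hT.to_le hBT
  have hk₁B : k₁ ∈ B := Subgroup.subset_closure (by simp)
  have hk₂B : k₂ ∈ B := Subgroup.subset_closure (by simp)
  have hBN : ∀ b ∈ B, ∀ g ∈ N, b * g * b⁻¹ ∈ N := by
    apply weakNorm_closure
    intro b hb
    rcases hb with rfl | rfl
    · exact hn₁
    · exact hn₂
  have hwB : cmt (k₁ ^ p ^ l₁) (k₂ ^ p ^ l₂) ∈ B := cmt_mem (B.pow_mem hk₁B _) (B.pow_mem hk₂B _)
  obtain ⟨q, Q, hq, hqp, hQN, hQq, hBQ, hwQ⟩ :=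
    Cfsg.Agent.Helper90.H2.exists_q_not_centralized B N hB hN hBN _ hwB ⟨g₀, hg₀N, hg₀⟩
  obtain ⟨R, hRQ, hBR, hwR, hmin⟩ := Cfsg.Agent.Helper90.H2.exists_minimal_R B Q hBQ _ hwQ
  obtain ⟨R₁, hcfg⟩ := Cfsg.Agent.Helper90.H2.exists_R1 hq hqp B R hB (hQq.to_le hRQ) hBR _ hwB hwR hmin
  have hRN : R ≤ N := hRQ.trans hQN
  have hRcop : (Nat.card R).Coprime p :=
    Nat.Coprime.coprime_dvd_left (Subgroup.card_dvd_of_le hRN) hN
  have hdR₁ : AbDef p R k₁ l₁ := fun X hX => hd₁ X (hX.trans hRN)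
  have hdR₂ : AbDef p R k₂ l₂ := fun X hX => hd₂ X (hX.trans hRN)
  obtain ⟨H', hG', hF', B', R', R₁', k₁', k₂', hB', hR', hgen', ho₁', ho₂', hd₁', hd₂', hcfg', hnc',
    hfaith'⟩ := Cfsg.Agent.Helper16.H2.transfer B R R₁ hB hRcop k₁ k₂ rfl l₁ l₂ ho₁ ho₂ hdR₁ hdR₂ hcfg hwR
  exact core_false hp2 s ih B' R' R₁' hB' hR' k₁' k₂' hgen' l₁ l₂ hs ho₁' ho₂' hd₁' hd₂' hcfg' hnc'
    hfaith'

theorem ind_all {p : ℕ} [Fact p.Prime] (hp2 : p ≠ 2) : ∀ s : ℕ, IndStmt.{u} p s := by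
  intro s
  induction s using Nat.strong_induction_on with
  | _ s ih => exact ind_step hp2 s ih

end Cfsg.Agent.Helper31.H2
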