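import Mathlib
import Cfsg.Agent.Lib.Helper31.H2Defs
import Cfsg.Agent.Lib.Helper31.H2Ind
import Cfsg.Agent.Lib.Helper22.H2O1
import Cfsg.Agent.Lib.Helper86.H2S2
import Cfsg.Agent.Lib.Helper86.H2S1
import Cfsg.Agent.Lib.Helper30.H2TBL
import Cfsg.Agent.Lib.Helper31.H2ALG
import Cfsg.Agent.Lib.Helper22.H2LIFT
import Cfsg.Agent.Lib.Helper8.H2ABD

set_option autoImplicit false
set_option linter.style.haveILetI false

/-!
# S3786 part (b): the two-step exponent drop and `l_p ≤ 2 e`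
-/

namespace Cfsg.Agent.Helper31.H2

open Cfsg Cfsg.Agent.Helper31.GT Cfsg.Agent.Helper63 Cfsg.Agent.Helper31.HHB
open Cfsg.Agent.Helper48.Wreath

universe u

theorem map_cmt {G G' : Type*} [Group G] [Group G'] (f : G →* G') (a b : G) :
    f (cmt a b) = cmt (f a) (f b) := by
  unfold cmt
  rw [map_mul, map_mul, map_mul, map_inv, map_inv]

/-- A `p`-element of a quotient lifts to a `p`-element. -/
theorem pel_lift {G : Type*} [Group G] [Finite G] {p : ℕ} [hp : Fact p.Prime] (N : Subgroup G)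
    [N.Normal] (y : G ⧸ N) (hy : ∃ k : ℕ, y ^ p ^ k = 1) :
    ∃ x : G, QuotientGroup.mk' N x = y ∧ ∃ k : ℕ, x ^ p ^ k = 1 := by
  obtain ⟨j, hj⟩ := hy
  have h1 : orderOf y ∣ p ^ j := orderOf_dvd_of_pow_eq_one hj
  obtain ⟨i, _, hi⟩ := (Nat.dvd_prime_pow hp.out).mp h1
  obtain ⟨x, hx, k, hk⟩ := Cfsg.Agent.Helper76.exists_primePow_lift p (QuotientGroup.mk' N)
    (QuotientGroup.mk'_surjective N) y ⟨i, hi⟩
  exact ⟨x, hx, k, by rw [← hk]; exact pow_orderOf_eq_one x⟩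

/-- The upper level: Theorem B produces `u ∈ O_p` with `[h^(p^n), (u h)^(p^n)] ≠ 1`. -/
theorem upper_aux {Qh : Type*} [Group Qh] [Finite Qh] {p : ℕ} [hp : Fact p.Prime] (hp2 : p ≠ 2)
    (hsol : IsPSolvable p Qh) {W2 : Type*} [CommGroup W2] [Finite W2] [Module (ZMod p) (Additive W2)]
    (φ2 : Qh →* MulAut W2) (cls2 : ↥(pCore p Qh) →* W2) (hker2 : φ2.ker = pCore p Qh)
    (hcls2 : Function.Surjective cls2)
    (heq2 : ∀ (g : Qh) (v : ↥(pCore p Qh)),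
      φ2 g (cls2 v) = cls2 ⟨g * v * g⁻¹, (Cfsg.pCore_normal p Qh).conj_mem _ v.2 g⟩)
    (h : Qh) (n : ℕ) (hg : h ^ p ^ (n + 1) ∈ pCore p Qh) (hg' : h ^ p ^ n ∉ pCore p Qh) :
    ∃ u : ↥(pCore p Qh), cmt (h ^ p ^ n) (((u : Qh) * h) ^ p ^ n) ≠ 1 := by
  have htb := Cfsg.Agent.Helper30.H2.tb_lower hp2 hsol φ2 hker2 h n hg hg'
  have hexv : ∃ v : Additive W2, ((linRep p φ2 h - 1) ^ (2 * p ^ n - 1)) v ≠ 0 := by
    by_contra hall
    push Not at hall
    exact htb (LinearMap.ext hall)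
  obtain ⟨v, hv⟩ := hexv
  obtain ⟨u, hu⟩ := hcls2 (Additive.toMul v)
  have hv' : ((linRep p φ2 h - 1) ^ (2 * p ^ n - 1)) (Additive.ofMul (cls2 u)) ≠ 0 := by
    rw [hu]; exact hv
  exact ⟨u, Cfsg.Agent.Helper31.H2.comm_ne_one (pCore p Qh) (Cfsg.pCore_normal p Qh) φ2 cls2 heq2 h n u hv'⟩

/-- The two-step exponent drop. -/
theorem two_step {p : ℕ} [hp : Fact p.Prime] (hp2 : p ≠ 2) (G : Type u) [Group G] [Finite G]
    (hsol : IsPSolvable p G) (n : ℕ) (hexp : ExpLE p (n + 1) G) :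
    ExpLE p n ((G ⧸ pPrimePCore p G) ⧸ pPrimePCore p (G ⧸ pPrimePCore p G)) := by
  intro y' hy'
  obtain ⟨x1, rfl, hx1p⟩ := pel_lift (pPrimePCore p (G ⧸ pPrimePCore p G)) y' hy'
  rw [← map_pow]
  refine (QuotientGroup.eq_one_iff _).mpr ?_
  show QuotientGroup.mk' (pPrimeCore p (G ⧸ pPrimePCore p G)) (x1 ^ p ^ n) ∈
    pCore p ((G ⧸ pPrimePCore p G) ⧸ pPrimeCore p (G ⧸ pPrimePCore p G))
  by_contra hnot
  have hsolQ : IsPSolvable p (G ⧸ pPrimePCore p G) :=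
    Cfsg.Agent.Helper76.IsPSolvable.quotient hsol _
  have hexpQ : ExpLE p (n + 1) (G ⧸ pPrimePCore p G) := hexp.quotient _
  have hsolQh : IsPSolvable p ((G ⧸ pPrimePCore p G) ⧸ pPrimeCore p (G ⧸ pPrimePCore p G)) :=
    Cfsg.Agent.Helper76.IsPSolvable.quotient hsolQ _
  have hbot : pPrimeCore p ((G ⧸ pPrimePCore p G) ⧸ pPrimeCore p (G ⧸ pPrimePCore p G)) = ⊥ :=
    Cfsg.Agent.Helper55.pPrimeCore_quotient_eq_bot p
  -- upper level
  obtain ⟨W2, iC, iF, φ2, cls2, hW2exp, hker2, hcls2, heq2⟩ := Cfsg.Agent.Helper86.H2.setup_up _ hsolQh hbot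
  letI : Module (ZMod p) (Additive W2) := AddCommGroup.zmodModule (by
    intro v
    induction v using Additive.rec with
    | ofMul w =>
      rw [← ofMul_pow, hW2exp w]
      rfl)
  set h := QuotientGroup.mk' (pPrimeCore p (G ⧸ pPrimePCore p G)) x1 with hh
  have hx1pow : x1 ^ p ^ (n + 1) = 1 := hexpQ x1 hx1p
  have hg : h ^ p ^ (n + 1) ∈ pCore p _ := by
    rw [hh, ← map_pow, hx1pow, map_one]
    exact Subgroup.one_mem _
  have hg' : h ^ p ^ n ∉ pCore p _ := by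
    rw [hh, ← map_pow]
    exact hnot
  obtain ⟨u, hcne⟩ := upper_aux hp2 hsolQh φ2 cls2 hker2 hcls2 heq2 h n hg hg'
  -- lower level
  obtain ⟨W, iC', iF', ψ, hWexp, hψ, htr⟩ := Cfsg.Agent.Helper86.H2.setup_low Cfsg.Agent.Helper86.H2.setup_up G hsol
  haveI hP2n : (pCore p ((G ⧸ pPrimePCore p G) ⧸ pPrimeCore p (G ⧸ pPrimePCore p G))).Normal :=
    Cfsg.pCore_normal p _
  have hP2 : IsPGroup p (pCore p ((G ⧸ pPrimePCore p G) ⧸ pPrimeCore p (G ⧸ pPrimePCore p G))) :=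
    Cfsg.Agent.Helper55.isPGroup_pCore
  obtain ⟨T, hTp, hx1T, hTlift⟩ := Cfsg.Agent.Helper22.H2.exists_pgroup_lift (pPrimeCore p (G ⧸ pPrimePCore p G)) x1 hx1p
    (pCore p _) hP2
  obtain ⟨t, htT, ht⟩ := hTlift (u : _) u.2
  have hpelT : ∀ y ∈ T, ∃ k : ℕ, y ^ p ^ k = 1 := by
    intro y hy
    obtain ⟨k, hk⟩ := hTp ⟨y, hy⟩
    refine ⟨k, ?_⟩
    have := congrArg Subtype.val hk
    simpa using this
  have hN : (Nat.card (pPrimeCore p (G ⧸ pPrimePCore p G))).Coprime p :=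
    Cfsg.Agent.Helper55.pPrimeCore_coprime p
  have hdef : ∀ y ∈ T, y ^ p ^ (n + 1) = 1 ∧ AbDef p (pPrimeCore p (G ⧸ pPrimePCore p G)) y n := by
    intro y hy
    have hyp := hpelT y hy
    have hord : y ^ p ^ (n + 1) = 1 := hexpQ y hyp
    obtain ⟨x, hx, hxp⟩ := pel_lift (pPrimePCore p G) y hyp
    have h1 := htr n hexp x hxp
    rw [hx] at h1
    exact ⟨hord, Cfsg.Agent.Helper8.H2.abDef_of_trace hWexp ψ hψ _ hN y n hord h1⟩
  have hnorm : ∀ y : G ⧸ pPrimePCore p G, ∀ g ∈ pPrimeCore p (G ⧸ pPrimePCore p G),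
      y * g * y⁻¹ ∈ pPrimeCore p (G ⧸ pPrimePCore p G) := by
    intro y g hg
    have hn : (pPrimeCore p (G ⧸ pPrimePCore p G)).Normal := inferInstance
    exact hn.conj_mem g hg y
  have hind := ind_all hp2 (n + n) (G ⧸ pPrimePCore p G) T (pPrimeCore p (G ⧸ pPrimePCore p G))
    x1 t n n le_rfl hTp hN hx1T htT (hnorm x1) (hnorm t) (hdef x1 hx1T).1 (hdef t htT).1
    (hdef x1 hx1T).2 (hdef t htT).2
  have hOQ : pCore p (G ⧸ pPrimePCore p G) = ⊥ := Cfsg.Agent.Helper22.H2.pCore_quot_pPrimePCore_eq_bot p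
  have hC := Cfsg.Agent.Helper10.centralizer_pPrimeCore_le_of_isPSolvable hsolQ hOQ
  have hmem : cmt (x1 ^ p ^ n) (t ^ p ^ n) ∈ pPrimeCore p (G ⧸ pPrimePCore p G) := by
    apply hC
    rw [Subgroup.mem_centralizer_iff]
    intro g hg
    exact (hind g hg).symm
  apply hcne
  have h2 := (QuotientGroup.eq_one_iff _).mpr hmem
  have h3 : QuotientGroup.mk' (pPrimeCore p (G ⧸ pPrimePCore p G)) (cmt (x1 ^ p ^ n) (t ^ p ^ n)) = 1 :=
    h2
  rw [map_cmt, map_pow, map_pow, ht] at h3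
  exact h3

/-- `O_{p',p}(G)` has `p`-length at most one. -/
theorem PL_one_pPrimePCore {p : ℕ} [hp : Fact p.Prime] (G : Type u) [Group G] [Finite G] :
    PL p 1 (⊥ : Subgroup G) (pPrimePCore p G) := by
  have hKn : (pPrimeCore p G).Normal := inferInstance
  have hNn : (pPrimePCore p G).Normal := inferInstance
  have hKN : pPrimeCore p G ≤ pPrimePCore p G := le_comap_mk'_self _ _
  refine PL.step 0 ⊥ (pPrimeCore p G) (pPrimePCore p G) (pPrimePCore p G)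
    (PL.base _ _ bot_le inferInstance hKn ?_) hKN le_rfl hNn hNn ?_ ?_
  · rw [Subgroup.relIndex_bot_left]; exact Cfsg.Agent.Helper55.pPrimeCore_coprime p
  · have h1 : (pPrimeCore p G).relIndex (pPrimePCore p G) =
        Nat.card (pCore p (G ⧸ pPrimeCore p G)) := relIndex_comap_mk' _ _
    rw [h1]
    exact IsPGroup.iff_card.mp Cfsg.Agent.Helper55.isPGroup_pCore
  · simp

theorem main_b {p : ℕ} [hp : Fact p.Prime] (hp2 : p ≠ 2) : ∀ n : ℕ, ∀ (G : Type u) [Group G] [Finite G],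
    IsPSolvable p G → ExpLE p n G → PL p (2 * n) (⊥ : Subgroup G) ⊤ := by
  intro n
  induction n with
  | zero =>
    intro G _ _ _ hexp
    refine PL.base _ _ bot_le inferInstance inferInstance ?_
    rw [Subgroup.relIndex_bot_left]
    have h3 : Nat.card ↥(⊤ : Subgroup G) = Nat.card G := Nat.card_congr Subgroup.topEquiv.toEquiv
    rw [h3, Nat.coprime_comm, Nat.Prime.coprime_iff_not_dvd hp.out]
    intro hd
    obtain ⟨g, hg⟩ := exists_prime_orderOf_dvd_card' p hd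
    have h1 : g ^ p ^ 0 = 1 := hexp g ⟨1, by rw [pow_one, ← hg]; exact pow_orderOf_eq_one g⟩
    rw [pow_zero, pow_one] at h1
    rw [h1, orderOf_one] at hg
    exact hp.out.one_lt.ne' hg.symm
  | succ k ih =>
    intro G _ _ hsol hexp
    have hsolQ : IsPSolvable p (G ⧸ pPrimePCore p G) :=
      Cfsg.Agent.Helper76.IsPSolvable.quotient hsol _
    have hsolQ2 : IsPSolvable p ((G ⧸ pPrimePCore p G) ⧸ pPrimePCore p (G ⧸ pPrimePCore p G)) :=
      Cfsg.Agent.Helper76.IsPSolvable.quotient hsolQ _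
    have hexp2 := two_step hp2 G hsol k hexp
    have hc2 := ih _ hsolQ2 hexp2
    have hc3 := Cfsg.Agent.S0635.PL_comap (pPrimePCore p (G ⧸ pPrimePCore p G)) hc2
    rw [MonoidHom.comap_bot, QuotientGroup.ker_mk', Subgroup.comap_top] at hc3
    have hc4 := (PL_one_pPrimePCore (p := p) (G ⧸ pPrimePCore p G)).trans hc3
    have hc5 := Cfsg.Agent.S0635.PL_comap (pPrimePCore p G) hc4
    rw [MonoidHom.comap_bot, QuotientGroup.ker_mk', Subgroup.comap_top] at hc5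
    have hc6 := (PL_one_pPrimePCore (p := p) G).trans hc5
    have hnum : 1 + (1 + 2 * k) = 2 * (k + 1) := by ring
    rw [hnum] at hc6
    exact hc6

end Cfsg.Agent.Helper31.H2
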