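import Mathlib
import Cfsg.Prelude.Def_Transfer
import Cfsg.Agent.Lib.Helper2.Frobenius
import Cfsg.Agent.Lib.Helper2.PComplement
import Cfsg.Agent.Lib.Helper52.Coprime
import Cfsg.Agent.Lib.Helper1.Compl
import Cfsg.Agent.Lib.Helper31.Cores

set_option autoImplicit false

namespace Cfsg.Agent.Helper31

open Subgroup

/-- Internal Schur–Zassenhaus existence: a normal Hall subgroup `Q` of `K` (both subgroups of `X`)
has a complement `L` in `K`. -/
theorem exists_internal_complement {X : Type*} [Group X] [Finite X] (Q K : Subgroup X)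
    (hQK : Q ≤ K) (hKQ : K ≤ normalizer (Q : Set X))
    (hcop : (Nat.card Q).Coprime (Q.relIndex K)) :
    ∃ L : Subgroup X, L ≤ K ∧ Q ⊔ L = K ∧ Q ⊓ L = ⊥ ∧ Nat.card L = Q.relIndex K := by
  have hn : (Q.subgroupOf K).Normal := normal_subgroupOf_of_le_normalizer hKQ
  have hc : Nat.card (Q.subgroupOf K) = Nat.card Q :=
    Nat.card_congr (subgroupOfEquivOfLe hQK).toEquiv
  have hcop' : (Nat.card (Q.subgroupOf K)).Coprime (Q.subgroupOf K).index := by
    rw [hc]; exact hcop
  obtain ⟨L', hL'⟩ := exists_right_complement'_of_coprime hcop'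
  refine ⟨L'.map K.subtype, map_subtype_le L', ?_, ?_, ?_⟩
  · have h1 := hL'.sup_eq_top
    have h2 := congrArg (Subgroup.map K.subtype) h1
    rw [Subgroup.map_sup, ← MonoidHom.range_eq_map, Subgroup.range_subtype,
      Subgroup.subgroupOf_map_subtype, inf_of_le_left hQK] at h2
    exact h2
  · have h1 := hL'.disjoint
    rw [eq_bot_iff]
    rintro x ⟨hxQ, y, hy, rfl⟩
    have : y ∈ Q.subgroupOf K ⊓ L' := ⟨Subgroup.mem_subgroupOf.mpr hxQ, hy⟩
    rw [h1.eq_bot, Subgroup.mem_bot] at this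
    rw [this]; simp
  · rw [Subgroup.card_map_of_injective (Subgroup.subtype_injective K)]
    have := hL'.symm.index_eq_card
    rw [← this]; rfl

/-- Lifting `p`-nilpotency through a normal subgroup contained in the Frattini subgroup of a Sylow
`p`-subgroup (internal form): if `Q ≤ Φ(P)` is normal in `X`, `K₁ ⊴ X` contains `Q` with index prime
to `p` and `K₁ P = X`, then `X` has a normal `p`-complement. -/
theorem hasNormalPComplement_of_frattini_aux {X : Type*} [Group X] [Finite X] {p : ℕ}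
    [hp : Fact p.Prime] (P : Sylow p X) (Q K₁ : Subgroup X) [hQn : Q.Normal] [hKn : K₁.Normal]
    (hQP : Q ≤ P)
    (hQΦ : Q ≤ (frattini ↥(P : Subgroup X)).map (P : Subgroup X).subtype)
    (hQK : Q ≤ K₁) (hcop : (Q.relIndex K₁).Coprime p) (hsup : K₁ ⊔ (P : Subgroup X) = ⊤) :
    Cfsg.HasNormalPComplement p X := by
  have hQp : IsPGroup p Q := P.isPGroup'.to_le hQP
  obtain ⟨a, ha⟩ := IsPGroup.iff_card.mp hQp
  have hcop' : (Nat.card Q).Coprime (Q.relIndex K₁) := by
    rw [ha]; exact Nat.Coprime.pow_left a hcop.symm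
  obtain ⟨L, hLK, hQL, hQLbot, hLcard⟩ :=
    exists_internal_complement Q K₁ hQK le_normalizer_of_normal hcop'
  have hLcop : (Nat.card L).Coprime p := by rw [hLcard]; exact hcop
  have hQsolv : Group.IsSolvable Q := by
    have := hQp.isNilpotent
    infer_instance
  -- Frattini argument: X = Q * N_X(L)
  set M := normalizer (L : Set X) with hM
  have hfrat : ∀ x : X, ∃ n ∈ Q, n⁻¹ * x ∈ M := by
    intro x
    have hB : L.map (MulAut.conj x).toMonoidHom ≤ Q ⊔ L := by
      rw [hQL]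
      rintro _ ⟨l, hl, rfl⟩
      exact hKn.conj_mem l (hLK hl) x
    have hcardB : Nat.card (L.map (MulAut.conj x).toMonoidHom) = Nat.card L :=
      Subgroup.card_map_of_injective (MulAut.conj x).injective
    obtain ⟨n, hn, hBn⟩ := Cfsg.Agent.Helper52.sz_conj_internal Q L
      (L.map (MulAut.conj x).toMonoidHom) le_normalizer_of_normal (Or.inl hQsolv)
      (by rw [ha]; exact Nat.Coprime.pow_left a hLcop.symm) hcardB hB
    refine ⟨n, hn, ?_⟩
    rw [hM, mem_normalizer_iff]
    intro h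
    constructor
    · intro hh
      have h1 : x * h * x⁻¹ ∈ L.map (MulAut.conj x).toMonoidHom := ⟨h, hh, rfl⟩
      rw [hBn] at h1
      obtain ⟨l, hl, hlx⟩ := h1
      have hlx' : n * l * n⁻¹ = x * h * x⁻¹ := hlx
      have : n⁻¹ * x * h * (n⁻¹ * x)⁻¹ = l := by
        calc n⁻¹ * x * h * (n⁻¹ * x)⁻¹ = n⁻¹ * (x * h * x⁻¹) * n := by group
          _ = l := by rw [← hlx']; group
      rw [this]; exact hl
    · intro hh
      have h1 : n * (n⁻¹ * x * h * (n⁻¹ * x)⁻¹) * n⁻¹ ∈ L.map (MulAut.conj n).toMonoidHom :=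
        ⟨_, hh, rfl⟩
      rw [← hBn] at h1
      obtain ⟨l, hl, hlx⟩ := h1
      have hlx' : x * l * x⁻¹ = n * (n⁻¹ * x * h * (n⁻¹ * x)⁻¹) * n⁻¹ := hlx
      have : h = l := by
        have e : n * (n⁻¹ * x * h * (n⁻¹ * x)⁻¹) * n⁻¹ = x * h * x⁻¹ := by group
        rw [e] at hlx'
        calc h = x⁻¹ * (x * h * x⁻¹) * x := by group
          _ = x⁻¹ * (x * l * x⁻¹) * x := by rw [hlx']
          _ = l := by group
      rw [this]; exact hl
  -- hence P = Q (P ∩ M), and P ≤ M because Q ≤ Φ(P)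
  have hPM : (P : Subgroup X) ≤ M := by
    have htop : (M.subgroupOf (P : Subgroup X)) ⊔ frattini ↥(P : Subgroup X) = ⊤ := by
      rw [eq_top_iff]
      rintro ⟨u, hu⟩ -
      obtain ⟨n, hn, hnu⟩ := hfrat u
      have hnP : n ∈ (P : Subgroup X) := hQP hn
      have hmP : n⁻¹ * u ∈ (P : Subgroup X) := Subgroup.mul_mem _ (Subgroup.inv_mem _ hnP) hu
      have hnΦ : (⟨n, hnP⟩ : ↥(P : Subgroup X)) ∈ frattini ↥(P : Subgroup X) := by
        obtain ⟨y, hy, hyn⟩ := hQΦ hn
        have : y = ⟨n, hnP⟩ := Subtype.ext hyn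
        rw [← this]; exact hy
      have : (⟨u, hu⟩ : ↥(P : Subgroup X)) = ⟨n, hnP⟩ * ⟨n⁻¹ * u, hmP⟩ := by
        apply Subtype.ext; simp
      rw [this]
      exact Subgroup.mul_mem _ ((le_sup_right : frattini ↥(P : Subgroup X) ≤ _) hnΦ)
        ((le_sup_left : M.subgroupOf (P : Subgroup X) ≤ _) (Subgroup.mem_subgroupOf.mpr hnu))
    have h2 := frattini_nongenerating htop
    intro u hu
    have : (⟨u, hu⟩ : ↥(P : Subgroup X)) ∈ M.subgroupOf (P : Subgroup X) := by rw [h2]; trivial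
    exact Subgroup.mem_subgroupOf.mp this
  -- L is normal
  have hLn : L.Normal := by
    rw [← normalizer_eq_top_iff, eq_top_iff, ← hsup, ← hQL]
    exact sup_le (sup_le (hQP.trans hPM) le_normalizer) hPM
  -- index of L is a power of p
  have hLP : L ⊔ (P : Subgroup X) = ⊤ := by
    rw [eq_top_iff, ← hsup, ← hQL]
    exact sup_le (sup_le (hQP.trans le_sup_right) le_sup_left) le_sup_right
  obtain ⟨b, hb⟩ := IsPGroup.iff_card.mp P.isPGroup'
  have hdvd : Nat.card X ∣ Nat.card L * p ^ b := by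
    have := card_sup_dvd (P : Subgroup X) L
    rw [sup_comm, hLP, Subgroup.card_top, hb, mul_comm] at this
    exact this
  have hidx : L.index ∣ p ^ b := by
    rw [← L.card_mul_index] at hdvd
    exact Nat.dvd_of_mul_dvd_mul_left Nat.card_pos hdvd
  obtain ⟨k, -, hk⟩ := (Nat.dvd_prime_pow hp.out).mp hidx
  exact Cfsg.Agent.Helper2.hasNormalPComplement_of_card_coprime_of_index_pow L hLn hLcop k hk

/-- Burnside's transfer theorem applied in `X ⧸ Q`, where `P / Q` is abelian and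
`N_X(P) = C_X(P) P`: produces a normal subgroup `K₁ ≥ Q` with `|K₁ : Q|` prime to `p` and
`K₁ P = X`. -/
theorem exists_normal_of_burnside_quotient {X : Type*} [Group X] [Finite X] {p : ℕ}
    [hp : Fact p.Prime] (P : Sylow p X) (Q : Subgroup X) [hQn : Q.Normal] (hQP : Q ≤ P)
    (hab : ∀ u ∈ (P : Subgroup X), ∀ v ∈ (P : Subgroup X), u * v * u⁻¹ * v⁻¹ ∈ Q)
    (hNC : ∀ g ∈ normalizer ((P : Subgroup X) : Set X), ∃ k u : X, g = k * u ∧
      u ∈ (P : Subgroup X) ∧ k ∈ centralizer ((P : Subgroup X) : Set X)) :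
    ∃ K₁ : Subgroup X, K₁.Normal ∧ Q ≤ K₁ ∧ (Q.relIndex K₁).Coprime p ∧
      K₁ ⊔ (P : Subgroup X) = ⊤ := by
  set π := QuotientGroup.mk' Q with hπ
  have hπs : Function.Surjective π := QuotientGroup.mk'_surjective Q
  set Pb : Sylow p (X ⧸ Q) := P.mapSurjective hπs with hPb
  have hmemPb : ∀ h : X, π h ∈ (Pb : Subgroup (X ⧸ Q)) ↔ h ∈ (P : Subgroup X) := by
    intro h
    constructor
    · rintro ⟨u, hu, huh⟩
      have h1 : u⁻¹ * h ∈ Q := by
        rw [← QuotientGroup.eq_one_iff]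
        have : π (u⁻¹ * h) = 1 := by rw [map_mul, map_inv, huh]; simp
        exact this
      have : h = u * (u⁻¹ * h) := by group
      rw [this]
      exact Subgroup.mul_mem _ hu (hQP h1)
    · intro hh
      exact ⟨h, hh, rfl⟩
  have hNle : normalizer ((Pb : Subgroup (X ⧸ Q)) : Set (X ⧸ Q)) ≤
      centralizer ((Pb : Subgroup (X ⧸ Q)) : Set (X ⧸ Q)) := by
    intro xb hxb
    obtain ⟨x, rfl⟩ := hπs xb
    have hxN : x ∈ normalizer ((P : Subgroup X) : Set X) := by
      rw [mem_normalizer_iff]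
      intro h
      rw [← hmemPb h, ← hmemPb (x * h * x⁻¹)]
      have := (mem_normalizer_iff.mp hxb) (π h)
      rw [this]
      simp
    obtain ⟨k, u, hxku, hu, hk⟩ := hNC x hxN
    rw [mem_centralizer_iff]
    rintro yb ⟨y, hy, rfl⟩
    have hky : y * k = k * y := (mem_centralizer_iff.mp hk) y hy
    have huy : π (y * u) = π (u * y) := by
      have h1 : (u * y)⁻¹ * (y * u) ∈ Q := by
        have := hab y⁻¹ (Subgroup.inv_mem _ hy) u⁻¹ (Subgroup.inv_mem _ hu)
        have e : (u * y)⁻¹ * (y * u) = y⁻¹ * u⁻¹ * y⁻¹⁻¹ * u⁻¹⁻¹ := by group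
        rw [e]; exact this
      have h2 : π ((u * y)⁻¹ * (y * u)) = 1 := (QuotientGroup.eq_one_iff _).mpr h1
      rw [map_mul, map_inv] at h2
      exact (inv_mul_eq_one.mp h2).symm
    rw [hxku]
    calc π y * π (k * u) = π (y * k * u) := by simp [mul_assoc]
      _ = π (k * (y * u)) := by rw [hky, mul_assoc]
      _ = π k * π (y * u) := by rw [map_mul]
      _ = π k * π (u * y) := by rw [huy]
      _ = π (k * u) * π y := by simp [mul_assoc]
  have hB := Cfsg.Agent.Helper2.hasNormalPComplement_of_normalizer_le_centralizer Pb hNle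
  obtain ⟨Kb, hKbn, hKbc⟩ := (Cfsg.Agent.Helper2.hasNormalPComplement_iff Pb).mp hB
  refine ⟨Kb.comap π, hKbn.comap π, ?_, ?_, ?_⟩
  · intro q hq
    rw [Subgroup.mem_comap]
    have : π q = 1 := (QuotientGroup.eq_one_iff _).mpr hq
    rw [this]; exact Kb.one_mem
  · have hQK : Q ≤ Kb.comap π := by
      intro q hq
      rw [Subgroup.mem_comap]
      have : π q = 1 := (QuotientGroup.eq_one_iff _).mpr hq
      rw [this]; exact Kb.one_mem
    have h1 := card_comap_of_surjective π hπs Kb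
    have hker : π.ker = Q := QuotientGroup.ker_mk' Q
    rw [hker] at h1
    have h2 : Nat.card Q * Q.relIndex (Kb.comap π) = Nat.card (Kb.comap π) := by
      rw [← Subgroup.relIndex_bot_left, ← Subgroup.relIndex_bot_left (H := Kb.comap π)]
      exact Subgroup.relIndex_mul_relIndex ⊥ Q (Kb.comap π) bot_le hQK
    have h3 : Q.relIndex (Kb.comap π) = Nat.card Kb := by
      have hpos : 0 < Nat.card Q := Nat.card_pos
      apply Nat.eq_of_mul_eq_mul_left hpos
      rw [h2, h1, mul_comm]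
    rw [h3, ← hKbc.index_eq_card]
    exact ((Nat.Prime.coprime_iff_not_dvd hp.out).mpr Pb.not_dvd_index).symm
  · rw [eq_top_iff]
    intro x _
    obtain ⟨kb', hkb, ub', hub, hku'⟩ :=
      (Cfsg.Agent.Helper1.isComplement'_iff_disjoint_and_forall.mp hKbc).2 (π x)
    obtain ⟨u, hu, huub⟩ := hub
    have hxu : x * u⁻¹ ∈ Kb.comap π := by
      rw [Subgroup.mem_comap, map_mul, map_inv, ← hku', huub]
      simpa using hkb
    have : x = (x * u⁻¹) * u := by group
    rw [this]
    exact Subgroup.mul_mem _ ((le_sup_left : Kb.comap π ≤ _) hxu)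
      ((le_sup_right : (P : Subgroup X) ≤ _) hu)

end Cfsg.Agent.Helper31
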