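import Mathlib
import Cfsg.Agent.Lib.Helper93.RU0
import Cfsg.Agent.Lib.Helper82.RUA

/-!
# Generic SEED identity for S2279 (two regular unipotents generate `SL_n`).

For vectors `p0 p1 p2`, functionals `q0 q1 q2` with the Gram values
`q0·p0 = q0·p1 = q0·p2 = q1·p1 = q1·p2 = q2·p2 = 0`, `q1·p0 = q2·p1 = ε`, `q2·p0 = ν`
and `s0 = T(p0, c q0) T(p1, -c q1)`, `s1 = T(p1, c q1) T(p2, -c q2)`:
`[[s1, s0], s0] = T(p2, c³ ε² q0)` where `[a, b] = a b a⁻¹ b⁻¹`.
-/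

set_option autoImplicit false

namespace Cfsg.Agent.Helper31.RU2

open Matrix Cfsg.Agent.Helper93.RU Cfsg.Agent.Helper82.RU

variable {F : Type*} [Field F] {m : ℕ}

/-- noncommutative ring identity (i) -/
theorem h31_ring_i {R : Type*} [Ring R] (A B Z : R) (h1 : A * B = 0) (h2 : B * A * A = Z)
    (h3 : B * A * B = 0) (h4 : Z * A = 0) (h5 : Z * B = 0) :
    (1 + B * A - Z) * ((1 + A) * (1 + B)) = (1 + B) * (1 + A) := by
  have key : (1 + B * A - Z) * ((1 + A) * (1 + B)) - (1 + B) * (1 + A)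
      = A * B + (B * A * A - Z) + B * A * B + B * A * (A * B) - Z * A - Z * B - Z * (A * B) := by
    noncomm_ring
  rw [← sub_eq_zero, key, h1, h2, h3, h4, h5]
  simp

/-- noncommutative ring identity (ii) -/
theorem h31_ring_ii {R : Type*} [Ring R] (A B Z : R) (h1 : A * B = 0) (h2 : B * A * A = Z)
    (h4 : Z * A = 0) (h5 : Z * B = 0) (h6 : A * Z = 0) (h7 : Z * Z = 0) :
    (1 + B * A - Z) * (1 + A) = (1 + Z) * ((1 + A) * (1 + B * A - Z)) := by
  have key : (1 + B * A - Z) * (1 + A) - (1 + Z) * ((1 + A) * (1 + B * A - Z))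
      = (B * A * A - Z) - Z * A - (A * B) * A + A * Z - (Z * B) * A + Z * Z - Z * A
        - (Z * A) * (B * A) + (Z * A) * Z := by
    noncomm_ring
  rw [← sub_eq_zero, key, h1, h2, h4, h5, h6, h7]
  simp

/-- cancel an `SL` element on the right -/
theorem h31_cancel (x y : SLm m F) (M : Matrix (Fin (m + 3)) (Fin (m + 3)) F)
    (h : M * y.1 = x.1) : M = (x * y⁻¹).1 := by
  have hy : y.1 * (y⁻¹).1 = 1 := by
    rw [← Matrix.SpecialLinearGroup.coe_mul, mul_inv_cancel, Matrix.SpecialLinearGroup.coe_one]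
  rw [Matrix.SpecialLinearGroup.coe_mul, ← h, Matrix.mul_assoc, hy, Matrix.mul_one]


theorem h31_E_mul (a b c d : Fin (m + 3) → F) :
    vecMulVec a b * vecMulVec c d = (b ⬝ᵥ c) • vecMulVec a d := by
  rw [Matrix.vecMulVec_mul_vecMulVec, Matrix.vecMulVec_smul]

/-- value of a product of two "adjacent" transvections -/
theorem h31_pair_val (x y φ ψ : Fin (m + 3) → F) (c : F) (hx : φ ⬝ᵥ x = 0) (hy : ψ ⬝ᵥ y = 0)
    (hxy : φ ⬝ᵥ y = 0) :
    (tvS x (c • φ) * tvS y (-(c • ψ))).1 = 1 + c • (vecMulVec x φ - vecMulVec y ψ) := by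
  have h1 : (c • φ) ⬝ᵥ x = 0 := by rw [smul_dotProduct, hx, smul_zero]
  have h2 : (-(c • ψ)) ⬝ᵥ y = 0 := by rw [neg_dotProduct, smul_dotProduct, hy, smul_zero, neg_zero]
  rw [Matrix.SpecialLinearGroup.coe_mul, tvS_val _ _ h1, tvS_val _ _ h2]
  unfold tvM
  rw [mul_add, add_mul, add_mul, one_mul, one_mul, mul_one, h31_E_mul, smul_dotProduct, hxy,
    smul_zero, zero_smul, add_zero, Matrix.vecMulVec_neg, Matrix.vecMulVec_smul,
    Matrix.vecMulVec_smul, smul_sub]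
  abel

theorem seed_generic (p0 p1 p2 q0 q1 q2 : Fin (m + 3) → F) (c ε ν : F)
    (h00 : q0 ⬝ᵥ p0 = 0) (h01 : q0 ⬝ᵥ p1 = 0) (h02 : q0 ⬝ᵥ p2 = 0)
    (h10 : q1 ⬝ᵥ p0 = ε) (h11 : q1 ⬝ᵥ p1 = 0) (h12 : q1 ⬝ᵥ p2 = 0)
    (h20 : q2 ⬝ᵥ p0 = ν) (h21 : q2 ⬝ᵥ p1 = ε) (h22 : q2 ⬝ᵥ p2 = 0)
    (s0 s1 : SLm m F)
    (hs0 : s0 = tvS p0 (c • q0) * tvS p1 (-(c • q1)))
    (hs1 : s1 = tvS p1 (c • q1) * tvS p2 (-(c • q2))) :
    (s1 * s0 * s1⁻¹ * s0⁻¹) * s0 * (s1 * s0 * s1⁻¹ * s0⁻¹)⁻¹ * s0⁻¹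
      = tvS p2 ((c ^ 3 * ε ^ 2) • q0) := by
  set A : Matrix (Fin (m + 3)) (Fin (m + 3)) F := c • (vecMulVec p0 q0 - vecMulVec p1 q1) with hA
  set B : Matrix (Fin (m + 3)) (Fin (m + 3)) F := c • (vecMulVec p1 q1 - vecMulVec p2 q2) with hB
  set Z : Matrix (Fin (m + 3)) (Fin (m + 3)) F := (c ^ 3 * ε ^ 2) • vecMulVec p2 q0 with hZ
  have v0 : s0.1 = 1 + A := by rw [hs0]; exact h31_pair_val p0 p1 q0 q1 c h00 h11 h01
  have v1 : s1.1 = 1 + B := by rw [hs1]; exact h31_pair_val p1 p2 q1 q2 c h11 h22 h12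
  have e1 : A * B = 0 := by
    simp only [hA, hB, smul_mul_assoc, mul_smul_comm, sub_mul, mul_sub, h31_E_mul, h00, h01, h02,
      h10, h11, h12, h20, h21, h22, zero_smul, sub_zero, smul_zero, sub_self]
  have eBA : B * A = c ^ 2 • (ε • vecMulVec p1 q0 - ν • vecMulVec p2 q0 + ε • vecMulVec p2 q1) := by
    simp only [hA, hB, smul_mul_assoc, mul_smul_comm, sub_mul, mul_sub, h31_E_mul, h00, h01, h02,
      h10, h11, h12, h20, h21, h22, zero_smul, sub_zero, smul_zero, sub_self, smul_smul]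
    module
  have e2 : B * A * A = Z := by
    rw [eBA]
    simp only [hA, hZ, smul_mul_assoc, mul_smul_comm, sub_mul, mul_sub, add_mul, h31_E_mul, h00,
      h01, h02, h10, h11, h12, h20, h21, h22, zero_smul, sub_zero, smul_zero, sub_self, smul_smul]
    module
  have e3 : B * A * B = 0 := by
    rw [eBA]
    simp only [hB, smul_mul_assoc, mul_smul_comm, sub_mul, mul_sub, add_mul, h31_E_mul, h00,
      h01, h02, h10, h11, h12, h20, h21, h22, zero_smul, sub_zero, smul_zero, sub_self, smul_smul,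
      add_zero]
  have e4 : Z * A = 0 := by
    simp only [hA, hZ, smul_mul_assoc, mul_smul_comm, sub_mul, mul_sub, h31_E_mul, h00, h01, h02,
      h10, h11, h12, h20, h21, h22, zero_smul, sub_zero, smul_zero, sub_self]
  have e5 : Z * B = 0 := by
    simp only [hB, hZ, smul_mul_assoc, mul_smul_comm, sub_mul, mul_sub, h31_E_mul, h00, h01, h02,
      h10, h11, h12, h20, h21, h22, zero_smul, sub_zero, smul_zero, sub_self]
  have e6 : A * Z = 0 := by
    simp only [hA, hZ, smul_mul_assoc, mul_smul_comm, sub_mul, mul_sub, h31_E_mul, h00, h01, h02,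
      h10, h11, h12, h20, h21, h22, zero_smul, sub_zero, smul_zero, sub_self]
  have e7 : Z * Z = 0 := by
    simp only [hZ, smul_mul_assoc, mul_smul_comm, h31_E_mul, h02, zero_smul, smul_zero]
  -- the first commutator
  set k : SLm m F := s1 * s0 * s1⁻¹ * s0⁻¹ with hkdef
  have c1 : (s0 * s1).1 = (1 + A) * (1 + B) := by
    rw [Matrix.SpecialLinearGroup.coe_mul, v0, v1]
  have c2 : (s1 * s0).1 = (1 + B) * (1 + A) := by
    rw [Matrix.SpecialLinearGroup.coe_mul, v0, v1]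
  have g1 : s1 * s0 * (s0 * s1)⁻¹ = k := by rw [hkdef]; group
  have hk : (1 + B * A - Z) = k.1 := by
    have h := h31_cancel (s1 * s0) (s0 * s1) (1 + B * A - Z) (by
      rw [c1, c2]
      exact h31_ring_i A B Z e1 e2 e3 e4 e5)
    rw [h, g1]
  have c3 : (s0 * k).1 = (1 + A) * (1 + B * A - Z) := by
    rw [Matrix.SpecialLinearGroup.coe_mul, v0, ← hk]
  have c4 : (k * s0).1 = (1 + B * A - Z) * (1 + A) := by
    rw [Matrix.SpecialLinearGroup.coe_mul, v0, ← hk]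
  have g2 : k * s0 * (s0 * k)⁻¹ = k * s0 * k⁻¹ * s0⁻¹ := by group
  have hf : (1 + Z) = (k * s0 * k⁻¹ * s0⁻¹).1 := by
    have h := h31_cancel (k * s0) (s0 * k) (1 + Z) (by
      rw [c3, c4]
      exact (h31_ring_ii A B Z e1 e2 e4 e5 e6 e7).symm)
    rw [h, g2]
  have hq : ((c ^ 3 * ε ^ 2) • q0) ⬝ᵥ p2 = 0 := by rw [smul_dotProduct, h02, smul_zero]
  apply Subtype.ext
  rw [← hf, tvS_val _ _ hq]
  unfold tvM
  rw [hZ, Matrix.vecMulVec_smul]

end Cfsg.Agent.Helper31.RU2
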