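import Mathlib
import Cfsg.Agent.Lib.Helper31.SCHDefs
import Cfsg.Agent.Lib.Helper12.SCHP10
import Cfsg.Agent.Lib.Helper12.SCHP4
import Cfsg.Agent.Lib.Helper12.SCHP9
import Cfsg.Agent.Lib.Helper19.SCHG2a
import Cfsg.Agent.Lib.Helper19.SCHG2b
import Cfsg.Agent.Lib.Helper25.SCHG3a
import Cfsg.Agent.Lib.Helper25.SCHG3b2
import Cfsg.Agent.Lib.Helper29.SCHAB
import Cfsg.Agent.Lib.Helper29.SCHSQ2
import Cfsg.Agent.Lib.Helper29.SCHSS
import Cfsg.Agent.Lib.Helper3.SCHP7
import Cfsg.Agent.Lib.Helper30.SCHP1c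
import Cfsg.Agent.Lib.Helper30.SCHP6
import Cfsg.Agent.Lib.Helper33.SCHG2c
import Cfsg.Agent.Lib.Helper33.SCHY
import Cfsg.Agent.Lib.Helper68.SCHG3b1
import Cfsg.Agent.Lib.Helper68.SCHG5
import Cfsg.Agent.Lib.Helper68.SCHP11
import Cfsg.Agent.Lib.Helper70.SCHP3
import Cfsg.Agent.Lib.Helper70.SCHP8
import Cfsg.Agent.Lib.Helper77.SCHP1
import Cfsg.Agent.Lib.Helper90.SCHG0
import Cfsg.Agent.Lib.Helper90.SCHN
import Cfsg.Agent.Lib.Helper90.SCHSQ1
import Cfsg.Agent.Lib.Helper54.PSolv
import Cfsg.Agent.Lib.Helper55.Cores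
import Cfsg.Agent.Lib.Helper76.PSolvable
import Cfsg.Agent.Lib.Helper76.ClassSize

/-!
# SCH (S4394): assembly
-/

set_option autoImplicit false
set_option maxHeartbeats 800000

namespace Cfsg.Agent.Helper31.SCH

open Cfsg

universe u

section struct
variable {P : Type*} [Group P] [Finite P] {p : ℕ} [Fact p.Prime]

theorem fix_iff (hP : IsPGroup p P) (α : MulAut P) (h : SA p α) (hna : ∃ a b : P, a * b ≠ b * a)
    (x : P) : α x = x ↔ x ∈ Subgroup.center P :=
  ⟨fun hx => Cfsg.Agent.Helper30.SCH.fixed_mem_center α (Cfsg.Agent.Helper77.SCH.closure_twist_eq_top hP α h)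
      (Cfsg.Agent.Helper77.SCH.cmt_fixed hP α h) x hx,
    fun hx => Cfsg.Agent.Helper77.SCH.center_fixed α h hna x hx⟩

theorem cmt_central (hP : IsPGroup p P) (α : MulAut P) (h : SA p α) (x y : P) :
    cmt x y ∈ Subgroup.center P :=
  Cfsg.Agent.Helper30.SCH.fixed_mem_center α (Cfsg.Agent.Helper77.SCH.closure_twist_eq_top hP α h)
    (Cfsg.Agent.Helper77.SCH.cmt_fixed hP α h) _ (Cfsg.Agent.Helper77.SCH.cmt_fixed hP α h x y)

end struct

theorem main (p : ℕ) [hp : Fact p.Prime] : ∀ n : ℕ, ∀ (G : Type u) [Group G] [Finite G],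
    Nat.card G ≤ n → IsPSolvable p G → ∀ P : Sylow p G,
    (∃ α : MulAut ↥(P : Subgroup G), SA p α) → PLengthLE p 1 G := by
  intro n
  induction n with
  | zero =>
    intro G _ _ hcard
    have := Nat.card_pos (α := G)
    omega
  | succ n ih =>
    intro G _ _ hcard hsol P hex
    obtain ⟨α, hα⟩ := hex
    by_cases hO : pPrimeCore p G = ⊥
    swap
    · obtain ⟨P', ⟨e⟩⟩ := Cfsg.Agent.Helper90.SCH.sylow_quot_pprime (pPrimeCore p G)
        (Cfsg.Agent.Helper55.pPrimeCore_coprime p) P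
      obtain ⟨β, hβ⟩ := Cfsg.Agent.Helper3.SCH.SA_congr e α hα
      apply Cfsg.Agent.Helper90.SCH.PL_of_quot_pPrimeCore
      refine ih (G ⧸ pPrimeCore p G) ?_ (Cfsg.Agent.Helper76.IsPSolvable.quotient hsol _) P' ⟨β, hβ⟩
      have h1 : Nat.card (pPrimeCore p G) * Nat.card (G ⧸ pPrimeCore p G) = Nat.card G :=
        (Subgroup.card_eq_card_quotient_mul_card_subgroup (pPrimeCore p G)).symm ▸ (mul_comm _ _)
      have h2 : 1 < Nat.card (pPrimeCore p G) := by
        rw [Finite.one_lt_card_iff_nontrivial]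
        exact (Subgroup.nontrivial_iff_ne_bot _).mpr hO
      have h3 := Nat.card_pos (α := G ⧸ pPrimeCore p G)
      nlinarith
    -- main case: `O_{p'}(G) = 1`
    have hC : Subgroup.centralizer (pCore p G : Set G) ≤ pCore p G :=
      Cfsg.Agent.Helper54.centralizer_pCore_le_of_isPSolvable hsol hO
    have hPp : IsPGroup p ↥(P : Subgroup G) := P.isPGroup'
    have hHP : pCore p G ≤ (P : Subgroup G) := Cfsg.Agent.Helper55.pCore_le_sylow P
    by_cases hab : ∀ x ∈ (P : Subgroup G), ∀ y ∈ (P : Subgroup G), x * y = y * x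
    · exact Cfsg.Agent.Helper90.SCH.PL_of_normal_sylow P (Cfsg.Agent.Helper29.SCH.abelian_case hsol hO P hab)
    have hna : ∃ a b : ↥(P : Subgroup G), a * b ≠ b * a := by
      push Not at hab
      obtain ⟨x, hx, y, hy, hxy⟩ := hab
      exact ⟨⟨x, hx⟩, ⟨y, hy⟩, fun h => hxy (congrArg Subtype.val h)⟩
    have hfix := fix_iff hPp α hα hna
    have hcc := cmt_central hPp α hα
    have hpow := fun x => Cfsg.Agent.Helper70.SCH.pow_mem_center hPp α hα hfix hcc hna x
    have hstar := fun a ha x y => Cfsg.Agent.Helper12.SCH.star α hα hfix hcc a ha x y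
    -- central elements of `P` commute with everything in `P` and lie in `O_p(G)`
    have hZcomm : ∀ z : ↥(P : Subgroup G), z ∈ Subgroup.center ↥(P : Subgroup G) →
        ∀ x ∈ (P : Subgroup G), x * (z : G) = (z : G) * x := by
      intro z hz x hx
      have := Subgroup.mem_center_iff.mp hz ⟨x, hx⟩
      exact congrArg Subtype.val this
    have hZH : ∀ z : ↥(P : Subgroup G), z ∈ Subgroup.center ↥(P : Subgroup G) →
        (z : G) ∈ pCore p G := by
      intro z hz
      apply hC
      rw [Subgroup.mem_centralizer_iff]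
      intro h hh
      exact hZcomm z hz h (hHP hh)
    obtain ⟨Y, hYn, hYH, hYc, hYp, hYmin⟩ := Cfsg.Agent.Helper33.SCH.exists_phi p (pCore p G)
    haveI := hYn
    set T : Subgroup G := (Subgroup.center ↥(P : Subgroup G)).map (P : Subgroup G).subtype with hT
    have hYT : Y ≤ T := by
      apply hYmin T
      · intro x hx y hy
        exact ⟨cmt ⟨x, hHP hx⟩ ⟨y, hHP hy⟩, hcc _ _, rfl⟩
      · intro x hx
        exact ⟨⟨x, hHP hx⟩ ^ p, hpow _, rfl⟩
    have hTcomm : ∀ t ∈ T, ∀ x ∈ (P : Subgroup G), x * t = t * x := by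
      rintro t ⟨z, hz, rfl⟩ x hx
      exact hZcomm z hz x hx
    by_cases hY : Y = ⊥
    · -- `O_p(G)` is elementary abelian
      have hHab : ∀ x ∈ pCore p G, ∀ y ∈ pCore p G, x * y = y * x := by
        intro x hx y hy
        have h1 : cmt x y ∈ Y := hYc x hx y hy
        rw [hY, Subgroup.mem_bot] at h1
        have h2 : x * y * x⁻¹ * y⁻¹ = 1 := h1
        calc x * y = (x * y * x⁻¹ * y⁻¹) * (y * x) := by group
          _ = y * x := by rw [h2, one_mul]
      have hHexp : ∀ x ∈ pCore p G, x ^ p = 1 := by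
        intro x hx
        have h1 : x ^ p ∈ Y := hYp x hx
        rwa [hY, Subgroup.mem_bot] at h1
      have hPne : (P : Subgroup G) ≠ pCore p G := by
        intro h
        apply hab
        intro x hx y hy
        rw [h] at hx hy
        exact hHab x hx y hy
      have hPab : ∀ x ∈ (P : Subgroup G), ∀ y ∈ (P : Subgroup G), cmt x y ∈ pCore p G :=
        fun x hx y hy => hZH _ (hcc ⟨x, hx⟩ ⟨y, hy⟩)
      have hPexp : ∀ x ∈ (P : Subgroup G), x ^ p ∈ pCore p G :=
        fun x hx => hZH _ (hpow ⟨x, hx⟩)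
      by_cases hp5 : 5 ≤ p
      · exfalso
        obtain ⟨g, hgP, hgH⟩ : ∃ g ∈ (P : Subgroup G), g ∉ pCore p G := by
          by_contra hcon
          push Not at hcon
          exact hPne (le_antisymm hcon hHP)
        refine Cfsg.Agent.Helper68.SCH.quad_contra hp5 hsol hC hHab hHexp g (hPexp g hgP) hgH ?_
        intro w hw
        have h1 : cmt g w ∈ T := ⟨cmt ⟨g, hgP⟩ ⟨w, hHP hw⟩, hcc _ _, rfl⟩
        have h2 := hTcomm _ h1 g hgP
        show g * cmt g w * g⁻¹ * (cmt g w)⁻¹ = 1
        rw [h2]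
        group
      · -- `p ≤ 3`
        have hsub : ∀ G₁ : Subgroup G, (P : Subgroup G) ≤ G₁ → G₁ ≠ ⊤ →
            ∀ g ∈ G₁, ∀ x ∈ (P : Subgroup G), g * x * g⁻¹ ∈ (P : Subgroup G) := by
          intro G₁ hle hne
          obtain ⟨P₁, hP₁⟩ := Cfsg.Agent.Helper29.SCH.sylow_sub G₁ P hle
          have e : ↥(P₁ : Subgroup ↥G₁) ≃* ↥(P : Subgroup G) :=
            (MulEquiv.subgroupCongr hP₁).trans (Subgroup.subgroupOfEquivOfLe hle)
          obtain ⟨β, hβ⟩ := Cfsg.Agent.Helper3.SCH.SA_congr e α hα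
          have hlt : Nat.card ↥G₁ < Nat.card G := by
            have h1 := Subgroup.card_mul_index G₁
            have h2 : G₁.index ≠ 1 := fun h => hne (Subgroup.index_eq_one.mp h)
            have h3 : G₁.index ≠ 0 := Subgroup.index_ne_zero_of_finite
            have h4 := Nat.card_pos (α := ↥G₁)
            have h5 : 2 ≤ G₁.index := by omega
            nlinarith
          have hpl : PLengthLE p 1 ↥G₁ :=
            ih ↥G₁ (by omega) (Cfsg.Agent.Helper76.IsPSolvable.subgroup hsol G₁) P₁ ⟨β, hβ⟩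
          exact Cfsg.Agent.Helper25.SCH.normal_in_sub hC P G₁ hle hpl
        have hdag := fun U h1 h2 h3 h4 => Cfsg.Agent.Helper68.SCH.dagger P hsub U h1 h2 h3 h4
        have hidx := Cfsg.Agent.Helper25.SCH.index_eq_p hsol P hPne hPab hPexp hdag
        set H' : Subgroup ↥(P : Subgroup G) := (pCore p G).subgroupOf (P : Subgroup G) with hH'
        have hH'idx : H'.index = p := hidx
        have hH'ab : ∀ x ∈ H', ∀ y ∈ H', x * y = y * x := by
          intro x hx y hy
          apply Subtype.ext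
          exact hHab x (Subgroup.mem_subgroupOf.mp hx) y (Subgroup.mem_subgroupOf.mp hy)
        have hZH' : Subgroup.center ↥(P : Subgroup G) ≤ H' := by
          intro z hz
          exact Subgroup.mem_subgroupOf.mpr (hZH z hz)
        have hci := Cfsg.Agent.Helper70.SCH.index_center hPp hcc hstar hna H' hH'ab hZH' hH'idx
        have hnf := fun x hx => Cfsg.Agent.Helper12.SCH.not_fixed_mod_center α hα hfix hna x hx
        obtain ⟨q, hq, hqp, hαq⟩ := hα.ord
        have hqd := Cfsg.Agent.Helper12.SCH.q_dvd α hnf (fun z hz => (hfix z).2 hz) hci q hq hαq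
        have hp23 : p = 2 ∨ p = 3 := by
          have h2 := hp.out.two_le
          have h5 : p = 2 ∨ p = 3 ∨ p = 4 := by omega
          rcases h5 with h | h | h
          · exact Or.inl h
          · exact Or.inr h
          · exfalso
            have h4 : Nat.Prime 4 := h ▸ hp.out
            exact absurd h4 (by decide)
        exfalso
        rcases hp23 with rfl | rfl
        · have hq3 : q = 3 :=
            (Nat.prime_dvd_prime_iff_eq hq Nat.prime_three).1 (by simpa using hqd)
          subst hq3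
          have hH'exp : ∀ x ∈ H', x ^ 2 = 1 := by
            intro x hx
            apply Subtype.ext
            rw [Subgroup.coe_pow]
            exact hHexp x (Subgroup.mem_subgroupOf.mp hx)
          exact Cfsg.Agent.Helper68.SCH.endgame_two α hαq hfix hnf hna (by simpa using hci) H' hZH' hH'idx hH'exp
        · have h8 : q ∣ 2 ^ 3 := by
            have : (3 : ℕ) ^ 2 - 1 = 2 ^ 3 := by norm_num
            rw [this] at hqd
            exact hqd
          have hq2 : q = 2 :=
            (Nat.prime_dvd_prime_iff_eq hq Nat.prime_two).1 (hq.dvd_of_dvd_pow h8)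
          subst hq2
          exact Cfsg.Agent.Helper77.SCH.endgame_inv hPp (by norm_num) α hα hαq hna
    · -- `Y ≠ 1`: induction on `G ⧸ Y`
      have hYP : Y ≤ (P : Subgroup G) := hYH.trans hHP
      obtain ⟨P', ⟨e⟩⟩ := Cfsg.Agent.Helper29.SCH.sylow_quot_p Y P hYP
      have hYfix : ∀ y ∈ Y.subgroupOf (P : Subgroup G), α y = y := by
        intro y hy
        apply (hfix y).2
        obtain ⟨z, hz, hzy⟩ := hYT (Subgroup.mem_subgroupOf.mp hy)
        have : z = y := Subtype.ext hzy
        rwa [← this]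
      obtain ⟨β, hβ⟩ := Cfsg.Agent.Helper30.SCH.SA_quot hPp α hα (Y.subgroupOf (P : Subgroup G)) hYfix
      obtain ⟨γ, hγ⟩ := Cfsg.Agent.Helper3.SCH.SA_congr e β hβ
      have hlt : Nat.card (G ⧸ Y) < Nat.card G := by
        have h1 : Nat.card Y * Nat.card (G ⧸ Y) = Nat.card G :=
          (Subgroup.card_eq_card_quotient_mul_card_subgroup Y).symm ▸ (mul_comm _ _)
        have h2 : 1 < Nat.card Y := by
          rw [Finite.one_lt_card_iff_nontrivial]
          exact (Subgroup.nontrivial_iff_ne_bot _).mpr hY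
        have h3 := Nat.card_pos (α := G ⧸ Y)
        nlinarith
      have hpl : PLengthLE p 1 (G ⧸ Y) :=
        ih (G ⧸ Y) (by omega) (Cfsg.Agent.Helper76.IsPSolvable.quotient hsol Y) P' ⟨γ, hγ⟩
      obtain ⟨L, M, hLn, hMn, hYL, hLM, hLY, hML, hGM⟩ := Cfsg.Agent.Helper33.SCH.chain_of_quot Y hpl
      haveI := hLn
      haveI := hMn
      have hYpg : IsPGroup p Y := P.isPGroup'.to_le hYP
      have hYZ : ∀ y ∈ Y, ∀ x ∈ (P : Subgroup G), x * y = y * x :=
        fun y hy x hx => hTcomm y (hYT hy) x hx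
      have hYab : ∀ a ∈ Y, ∀ b ∈ Y, a * b = b * a := fun a ha b hb => hYZ b hb a (hYP ha)
      have hcent := Cfsg.Agent.Helper19.SCH.centralizer_inf_le hO Y L hYL hYpg hYab hLY
      exact Cfsg.Agent.Helper90.SCH.PL_of_normal_sylow P
        (Cfsg.Agent.Helper19.SCH.normal_of_chain P Y L M hYP hYZ hYL hLM hLY hML hGM hcent)

end Cfsg.Agent.Helper31.SCH
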