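import Mathlib
import Cfsg.Agent.Lib.Helper31.SCHDefs

/-!
# SCH (P11): the endgame for `p = 2`
-/

set_option autoImplicit false

namespace Cfsg.Agent.Helper31.SCHP

open Cfsg Cfsg.Agent.Helper31.SCH

variable {P : Type*} [Group P] [Finite P]

theorem endgame_two (α : MulAut P) (hα3 : α ^ 3 = 1)
    (hfix : ∀ x : P, α x = x ↔ x ∈ Subgroup.center P)
    (hnf : ∀ x : P, x ∉ Subgroup.center P → x⁻¹ * α x ∉ Subgroup.center P)
    (hna : ∃ a b : P, a * b ≠ b * a)
    (hidx : (Subgroup.center P).index = 4) (H : Subgroup P) (hZH : Subgroup.center P ≤ H)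
    (hHidx : H.index = 2) (hHexp : ∀ x ∈ H, x ^ 2 = 1) : False := by
  classical
  set Z := Subgroup.center P with hZ
  -- `α` preserves non-centrality
  have hαZ : ∀ x : P, α x ∈ Z → x ∈ Z := by
    intro x hx
    have h1 : α (α x) = α x := (hfix _).2 hx
    have h2 : α x = x := α.injective h1
    exact (hfix x).1 h2
  have hα3' : ∀ x : P, α (α (α x)) = x := by
    intro x
    have : (α ^ 3) x = x := by rw [hα3]; rfl
    simpa [pow_succ, MulAut.mul_apply] using this
  -- an element of `H` outside `Z`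
  obtain ⟨a, haH, haZ⟩ : ∃ a ∈ H, a ∉ Z := by
    by_contra hcon
    push Not at hcon
    have : H = Z := le_antisymm hcon hZH
    rw [this, hidx] at hHidx
    omega
  -- every element squares to one
  have hsq : ∀ x : P, x ^ 2 = 1 := by
    intro x
    by_cases hxZ : x ∈ Z
    · exact hHexp x (hZH hxZ)
    let Q := P ⧸ Z
    haveI : Fintype Q := Fintype.ofFinite Q
    have hcardQ : Fintype.card Q = 4 := by
      rw [← Nat.card_eq_fintype_card]; exact hidx
    have hαaZ : α a ∉ Z := fun h => haZ (hαZ a h)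
    have hααaZ : α (α a) ∉ Z := fun h => hαaZ (hαZ _ h)
    have e1 : (QuotientGroup.mk a : Q) ≠ 1 := fun h => haZ ((QuotientGroup.eq_one_iff a).1 h)
    have e2 : (QuotientGroup.mk (α a) : Q) ≠ 1 := fun h => hαaZ ((QuotientGroup.eq_one_iff _).1 h)
    have e3 : (QuotientGroup.mk (α (α a)) : Q) ≠ 1 :=
      fun h => hααaZ ((QuotientGroup.eq_one_iff _).1 h)
    have e4 : (QuotientGroup.mk a : Q) ≠ QuotientGroup.mk (α a) :=
      fun h => hnf a haZ (QuotientGroup.eq.1 h)
    have e5 : (QuotientGroup.mk (α a) : Q) ≠ QuotientGroup.mk (α (α a)) :=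
      fun h => hnf (α a) hαaZ (QuotientGroup.eq.1 h)
    have e6 : (QuotientGroup.mk a : Q) ≠ QuotientGroup.mk (α (α a)) := by
      intro h
      have h1 : a⁻¹ * α (α a) ∈ Z := QuotientGroup.eq.1 h
      -- apply `α`: `α (a⁻¹ * α (α a)) = (α a)⁻¹ * a` is the same central element
      have h2 : α (a⁻¹ * α (α a)) = a⁻¹ * α (α a) := (hfix _).2 h1
      rw [map_mul, map_inv, hα3'] at h2
      -- so `(α a)⁻¹ * a ∈ Z`, hence its inverse `a⁻¹ * α a ∈ Z`
      have h3 : (α a)⁻¹ * a ∈ Z := by rw [h2]; exact h1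
      have h4 : a⁻¹ * α a ∈ Z := by
        have := Z.inv_mem h3
        simpa [mul_inv_rev] using this
      exact hnf a haZ h4
    set S : Finset Q := {1, QuotientGroup.mk a, QuotientGroup.mk (α a), QuotientGroup.mk (α (α a))}
      with hS
    have hScard : S.card = 4 := by
      rw [hS, Finset.card_insert_of_notMem, Finset.card_insert_of_notMem,
        Finset.card_insert_of_notMem, Finset.card_singleton]
      · simp only [Finset.mem_singleton]; exact e5
      · simp only [Finset.mem_insert, Finset.mem_singleton, not_or]; exact ⟨e4, e6⟩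
      · simp only [Finset.mem_insert, Finset.mem_singleton, not_or]
        exact ⟨e1.symm, e2.symm, e3.symm⟩
    have hSuniv : S = Finset.univ := Finset.eq_univ_of_card S (by rw [hScard, hcardQ])
    have hxS : (QuotientGroup.mk x : Q) ∈ S := by rw [hSuniv]; exact Finset.mem_univ _
    -- elements of `α^i (a) Z` square to one
    have hkey : ∀ b : P, b ∈ H → ∀ y : P, b⁻¹ * y ∈ Z → y ^ 2 = 1 := by
      intro b hb y hy
      have : y = b * (b⁻¹ * y) := by group
      have hyH : y ∈ H := by rw [this]; exact H.mul_mem hb (hZH hy)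
      exact hHexp y hyH
    -- transport along `α`
    have hαsq : ∀ y : P, y ^ 2 = 1 → (α y) ^ 2 = 1 := by
      intro y hy; rw [← map_pow, hy, map_one]
    have hαinvZ : ∀ y : P, α y ∈ Z ↔ y ∈ Z := fun y =>
      ⟨hαZ y, fun hy => by rw [(hfix y).2 hy]; exact hy⟩
    rw [hS] at hxS
    simp only [Finset.mem_insert, Finset.mem_singleton] at hxS
    rcases hxS with h | h | h | h
    · exact absurd ((QuotientGroup.eq_one_iff x).1 h) hxZ
    · exact hkey a haH x (QuotientGroup.eq.1 h.symm)
    · -- `x ∈ α a Z`: write `x = α y` with `y ∈ a Z`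
      have h1 : (α a)⁻¹ * x ∈ Z := QuotientGroup.eq.1 h.symm
      obtain ⟨y, rfl⟩ := α.surjective x
      have h2 : α (a⁻¹ * y) ∈ Z := by rw [map_mul, map_inv]; exact h1
      exact hαsq y (hkey a haH y ((hαinvZ _).1 h2))
    · have h1 : (α (α a))⁻¹ * x ∈ Z := QuotientGroup.eq.1 h.symm
      obtain ⟨y', rfl⟩ := α.surjective x
      obtain ⟨y, rfl⟩ := α.surjective y'
      have h2 : α (α (a⁻¹ * y)) ∈ Z := by
        rw [map_mul, map_mul, map_inv, map_inv]; exact h1
      exact hαsq _ (hαsq y (hkey a haH y ((hαinvZ _).1 ((hαinvZ _).1 h2))))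
  -- exponent two implies abelian
  obtain ⟨a, b, hab⟩ := hna
  apply hab
  have h1 := hsq a
  have h2 := hsq b
  have h3 := hsq (a * b)
  have ha : a⁻¹ = a := by
    rw [inv_eq_iff_mul_eq_one, ← pow_two]; exact h1
  have hb : b⁻¹ = b := by
    rw [inv_eq_iff_mul_eq_one, ← pow_two]; exact h2
  have hab' : (a * b)⁻¹ = a * b := by
    rw [inv_eq_iff_mul_eq_one, ← pow_two]; exact h3
  rw [mul_inv_rev, ha, hb] at hab'
  exact hab'.symm

end Cfsg.Agent.Helper31.SCHP
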