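import Mathlib
import Cfsg.Agent.Lib.Helper59.TU0
import Cfsg.Agent.Lib.Helper31.RU2Seed

/-!
# TU project (S2279), piece (SEED): `c³ ∈ P(2,0)`, from the generic seed identity.
-/

set_option autoImplicit false

namespace Cfsg.Agent.Helper31.TU

open Matrix Cfsg.Agent.Helper93.RU Cfsg.Agent.Helper59.TU

variable {F : Type*} [Field F] {m : ℕ}

theorem seed (H : Subgroup (SLm m F)) (c : F) (hg0 : gam m F 0 = 0) (hg1 : gam m F 1 = 0)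
    (hg2 : gam m F 2 = 0) (hε : gam m F (-1) * gam m F (-1) = 1)
    (hs0 : tauEl c 0 * (tauEl c (0 + 1))⁻¹ ∈ H) (hs1 : tauEl c 1 * (tauEl c (1 + 1))⁻¹ ∈ H) :
    c ^ 3 ∈ PP H 2 0 := by
  have h00 : qV m F 0 ⬝ᵥ pV m F 0 = 0 := by rw [Cfsg.Agent.Helper59.TU.gram]; simpa using hg0
  have h01 : qV m F 0 ⬝ᵥ pV m F 1 = 0 := by rw [Cfsg.Agent.Helper59.TU.gram]; simpa using hg1
  have h02 : qV m F 0 ⬝ᵥ pV m F 2 = 0 := by rw [Cfsg.Agent.Helper59.TU.gram]; simpa using hg2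
  have h10 : qV m F 1 ⬝ᵥ pV m F 0 = gam m F (-1) := by rw [Cfsg.Agent.Helper59.TU.gram]; norm_num
  have h11 : qV m F 1 ⬝ᵥ pV m F 1 = 0 := by rw [Cfsg.Agent.Helper59.TU.gram]; simpa using hg0
  have h12 : qV m F 1 ⬝ᵥ pV m F 2 = 0 := by
    rw [Cfsg.Agent.Helper59.TU.gram, show (2 : ℤ) - 1 = 1 by norm_num]; exact hg1
  have h20 : qV m F 2 ⬝ᵥ pV m F 0 = gam m F (-2) := by rw [Cfsg.Agent.Helper59.TU.gram]; norm_num
  have h21 : qV m F 2 ⬝ᵥ pV m F 1 = gam m F (-1) := by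
    rw [Cfsg.Agent.Helper59.TU.gram, show (1 : ℤ) - 2 = -1 by norm_num]
  have h22 : qV m F 2 ⬝ᵥ pV m F 2 = 0 := by rw [Cfsg.Agent.Helper59.TU.gram]; simpa using hg0
  have i1 : (tauEl c (0 + 1) : SLm m F)⁻¹ = tvS (pV m F 1) (-(c • qV m F 1)) := by
    unfold tauEl
    rw [show (0 : ℤ) + 1 = 1 by norm_num]
    exact Cfsg.Agent.Helper82.RU.tvS_inv _ _ (by rw [smul_dotProduct, h11, smul_zero])
  have i2 : (tauEl c (1 + 1) : SLm m F)⁻¹ = tvS (pV m F 2) (-(c • qV m F 2)) := by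
    unfold tauEl
    rw [show (1 : ℤ) + 1 = 2 by norm_num]
    exact Cfsg.Agent.Helper82.RU.tvS_inv _ _ (by rw [smul_dotProduct, h22, smul_zero])
  have e0 : tauEl c 0 * (tauEl c (0 + 1))⁻¹
      = tvS (pV m F 0) (c • qV m F 0) * tvS (pV m F 1) (-(c • qV m F 1)) := by
    rw [i1]; rfl
  have e1 : tauEl c 1 * (tauEl c (1 + 1))⁻¹
      = tvS (pV m F 1) (c • qV m F 1) * tvS (pV m F 2) (-(c • qV m F 2)) := by
    rw [i2]; rfl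
  have key := Cfsg.Agent.Helper31.RU2.seed_generic (pV m F 0) (pV m F 1) (pV m F 2)
    (qV m F 0) (qV m F 1) (qV m F 2) c (gam m F (-1)) (gam m F (-2))
    h00 h01 h02 h10 h11 h12 h20 h21 h22 _ _ e0 e1
  have hmem : (tauEl c 1 * (tauEl c (1 + 1))⁻¹ * (tauEl c 0 * (tauEl c (0 + 1))⁻¹)
      * (tauEl c 1 * (tauEl c (1 + 1))⁻¹)⁻¹ * (tauEl c 0 * (tauEl c (0 + 1))⁻¹)⁻¹)
      * (tauEl c 0 * (tauEl c (0 + 1))⁻¹)
      * (tauEl c 1 * (tauEl c (1 + 1))⁻¹ * (tauEl c 0 * (tauEl c (0 + 1))⁻¹)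
      * (tauEl c 1 * (tauEl c (1 + 1))⁻¹)⁻¹ * (tauEl c 0 * (tauEl c (0 + 1))⁻¹)⁻¹)⁻¹
      * (tauEl c 0 * (tauEl c (0 + 1))⁻¹)⁻¹ ∈ H := by
    have hk := H.mul_mem (H.mul_mem (H.mul_mem hs1 hs0) (H.inv_mem hs1)) (H.inv_mem hs0)
    exact H.mul_mem (H.mul_mem (H.mul_mem hk hs0) (H.inv_mem hk)) (H.inv_mem hs0)
  rw [key] at hmem
  rw [mem_PP]
  have : c ^ 3 * gam m F (-1) ^ 2 = c ^ 3 := by rw [pow_two, hε, mul_one]
  rw [this] at hmem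
  exact hmem

end Cfsg.Agent.Helper31.TU
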