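import Mathlib
import Cfsg.Agent.Lib.Helper48.CoprimeGen

/-!
# The counting core of Ward's theorem (helper31)

`stabQ Q K` : the elements of `N(Q)` acting trivially on `Q/K`.
`core_S` : the counting lemma.
-/

set_option autoImplicit false

namespace Cfsg.Agent.Helper31.Ward

open Subgroup
open scoped commutatorElement

variable {Λ : Type*} [Group Λ]

/-- Elements of `N(Q)` acting trivially on `Q` modulo `K`. -/
def stabQ (Q K : Subgroup Λ) : Subgroup Λ where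
  carrier := {g | g ∈ normalizer (Q : Set Λ) ∧ ∀ u ∈ Q, g * u * g⁻¹ * u⁻¹ ∈ K}
  one_mem' := ⟨one_mem _, fun u _ => by simp⟩
  mul_mem' := by
    rintro g h ⟨hgN, hg⟩ ⟨hhN, hh⟩
    refine ⟨mul_mem hgN hhN, fun u hu => ?_⟩
    have hu' : h * u * h⁻¹ ∈ Q := (mem_normalizer_iff.mp hhN u).mp hu
    have e : g * h * u * (g * h)⁻¹ * u⁻¹ =
        (g * (h * u * h⁻¹) * g⁻¹ * (h * u * h⁻¹)⁻¹) * (h * u * h⁻¹ * u⁻¹) := by group
    rw [e]
    exact K.mul_mem (hg _ hu') (hh u hu)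
  inv_mem' := by
    rintro g ⟨hgN, hg⟩
    refine ⟨inv_mem hgN, fun u hu => ?_⟩
    have hu' : g⁻¹ * u * g ∈ Q := by
      have := (mem_normalizer_iff.mp (inv_mem hgN) u).mp hu
      simpa using this
    have h1 := K.inv_mem (hg _ hu')
    have e : (g * (g⁻¹ * u * g) * g⁻¹ * (g⁻¹ * u * g)⁻¹)⁻¹ = g⁻¹ * u * g⁻¹⁻¹ * u⁻¹ := by group
    rw [e] at h1
    exact h1

theorem mem_stabQ {Q K : Subgroup Λ} {g : Λ} :
    g ∈ stabQ Q K ↔ g ∈ normalizer (Q : Set Λ) ∧ ∀ u ∈ Q, g * u * g⁻¹ * u⁻¹ ∈ K := Iff.rfl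

theorem stabQ_mono (Q : Subgroup Λ) {K K' : Subgroup Λ} (h : K ≤ K') : stabQ Q K ≤ stabQ Q K' :=
  fun _ hg => ⟨hg.1, fun u hu => h (hg.2 u hu)⟩

theorem conj_mem_of_mem_stabQ {Q K : Subgroup Λ} (hKQ : K ≤ Q) {g k : Λ} (hg : g ∈ stabQ Q K)
    (hk : k ∈ K) : g * k * g⁻¹ ∈ K := by
  have := K.mul_mem (hg.2 k (hKQ hk)) hk
  simpa using this

theorem mem_normalizer_of_forall {D : Subgroup Λ} {g : Λ} (h1 : ∀ d ∈ D, g * d * g⁻¹ ∈ D)
    (h2 : ∀ d ∈ D, g⁻¹ * d * g ∈ D) : g ∈ normalizer (D : Set Λ) := by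
  rw [mem_normalizer_iff]
  intro h
  refine ⟨h1 h, fun hh => ?_⟩
  have := h2 _ hh
  have e : g⁻¹ * (g * h * g⁻¹) * g = h := by group
  rwa [e] at this

theorem conj_closure_mem {s : Set Λ} {D : Subgroup Λ} {g : Λ} (h : ∀ x ∈ s, g * x * g⁻¹ ∈ D) :
    ∀ d ∈ Subgroup.closure s, g * d * g⁻¹ ∈ D := by
  intro d hd
  have : Subgroup.closure s ≤ D.comap (MulAut.conj g).toMonoidHom := by
    rw [Subgroup.closure_le]
    intro x hx
    exact h x hx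
  exact this hd

theorem stabQ_normalizes_self_inf {Q K S : Subgroup Λ} {g : Λ} (hg : g ∈ stabQ Q K)
    (hgS : g ∈ normalizer (S : Set Λ)) : g ∈ normalizer ((stabQ Q K ⊓ S : Subgroup Λ) : Set Λ) := by
  apply mem_normalizer_of_forall
  · rintro d ⟨hd1, hd2⟩
    exact ⟨(stabQ Q K).mul_mem ((stabQ Q K).mul_mem hg hd1) ((stabQ Q K).inv_mem hg),
      (mem_normalizer_iff.mp hgS d).mp hd2⟩
  · rintro d ⟨hd1, hd2⟩
    refine ⟨(stabQ Q K).mul_mem ((stabQ Q K).mul_mem ((stabQ Q K).inv_mem hg) hd1) hg, ?_⟩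
    have := (mem_normalizer_iff.mp (inv_mem hgS) d).mp hd2
    simpa using this

section commutator

theorem commutator_le_left_of_le_normalizer {Q B : Subgroup Λ} (hB : B ≤ normalizer (Q : Set Λ)) :
    ⁅Q, B⁆ ≤ Q := by
  rw [Subgroup.commutator_le]
  intro u hu b hb
  have h1 : b * u⁻¹ * b⁻¹ ∈ Q := (mem_normalizer_iff.mp (hB hb) _).mp (Q.inv_mem hu)
  have e : ⁅u, b⁆ = u * (b * u⁻¹ * b⁻¹) := by
    rw [commutatorElement_def]; group
  rw [e]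
  exact Q.mul_mem hu h1

theorem left_le_normalizer_commutator (Q B : Subgroup Λ) :
    Q ≤ normalizer ((⁅Q, B⁆ : Subgroup Λ) : Set Λ) := by
  have key : ∀ u' ∈ Q, ∀ d ∈ ⁅Q, B⁆, u' * d * u'⁻¹ ∈ ⁅Q, B⁆ := by
    intro u' hu'
    rw [Subgroup.commutator_def]
    apply conj_closure_mem
    rintro x ⟨u, hu, b, hb, rfl⟩
    have e : u' * ⁅u, b⁆ * u'⁻¹ = ⁅u' * u, b⁆ * ⁅u', b⁆⁻¹ := by
      simp only [commutatorElement_def]; group
    rw [e, ← Subgroup.commutator_def]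
    exact mul_mem (Subgroup.commutator_mem_commutator (Q.mul_mem hu' hu) hb)
      (inv_mem (Subgroup.commutator_mem_commutator hu' hb))
  intro u' hu'
  apply mem_normalizer_of_forall (key u' hu')
  intro d hd
  have := key u'⁻¹ (Q.inv_mem hu') d hd
  simpa using this

theorem mem_normalizer_commutator_of_mem {Q B : Subgroup Λ} {g : Λ}
    (hgQ : g ∈ normalizer (Q : Set Λ)) (hgB : g ∈ normalizer (B : Set Λ)) :
    g ∈ normalizer ((⁅Q, B⁆ : Subgroup Λ) : Set Λ) := by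
  have key : ∀ g : Λ, g ∈ normalizer (Q : Set Λ) → g ∈ normalizer (B : Set Λ) →
      ∀ d ∈ ⁅Q, B⁆, g * d * g⁻¹ ∈ ⁅Q, B⁆ := by
    intro g hgQ hgB
    rw [Subgroup.commutator_def]
    apply conj_closure_mem
    rintro x ⟨u, hu, b, hb, rfl⟩
    have e : g * ⁅u, b⁆ * g⁻¹ = ⁅g * u * g⁻¹, g * b * g⁻¹⁆ := by
      simp only [commutatorElement_def]; group
    rw [e, ← Subgroup.commutator_def]
    exact Subgroup.commutator_mem_commutator ((mem_normalizer_iff.mp hgQ u).mp hu)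
      ((mem_normalizer_iff.mp hgB b).mp hb)
  apply mem_normalizer_of_forall (key g hgQ hgB)
  intro d hd
  have := key g⁻¹ (inv_mem hgQ) (inv_mem hgB) d hd
  simpa using this

end commutator

section elemAb

variable {p : ℕ} [hp : Fact p.Prime]

theorem orderOf_eq_of_pow_eq_one {c : Λ} (hc : c ^ p = 1) (hc1 : c ≠ 1) : orderOf c = p :=
  orderOf_eq_prime hc hc1

theorem card_zpowers_eq {c : Λ} (hc : c ^ p = 1) (hc1 : c ≠ 1) : Nat.card (zpowers c) = p := by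
  rw [Nat.card_zpowers, orderOf_eq_of_pow_eq_one hc hc1]

theorem zpowers_eq_of_mem [Finite Λ] {c b : Λ} (hc : c ^ p = 1) (hb : b ∈ zpowers c)
    (hb1 : b ≠ 1) : zpowers b = zpowers c := by
  have hc1 : c ≠ 1 := by
    rintro rfl
    rw [Subgroup.zpowers_one_eq_bot, Subgroup.mem_bot] at hb
    exact hb1 hb
  have hbp : b ^ p = 1 := by
    obtain ⟨k, rfl⟩ := hb
    rw [← zpow_natCast, ← zpow_mul, mul_comm, zpow_mul, zpow_natCast, hc, one_zpow]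
  apply Subgroup.eq_of_le_of_card_ge
  · rw [Subgroup.zpowers_le]; exact hb
  · rw [card_zpowers_eq hc hc1, card_zpowers_eq hbp hb1]

theorem mem_zpowers_of_mem_zpowers [Finite Λ] {c b : Λ} (hc : c ^ p = 1) (hb : b ∈ zpowers c)
    (hb1 : b ≠ 1) : c ∈ zpowers b := by
  rw [zpowers_eq_of_mem hc hb hb1]
  exact mem_zpowers c

/-- Two independent elements of an elementary abelian group of order `p²` generate it. -/
theorem le_sup_zpowers [Finite Λ] (A : Subgroup Λ) (hAp : ∀ a ∈ A, a ^ p = 1)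
    (hAcard : Nat.card A = p ^ 2) {c c' : Λ} (hc : c ∈ A) (hc1 : c ≠ 1) (hc' : c' ∈ A)
    (hcc' : c' ∉ zpowers c) : A ≤ zpowers c ⊔ zpowers c' := by
  set H := zpowers c ⊔ zpowers c' with hH
  have hHA : H ≤ A := sup_le (by rw [zpowers_le]; exact hc) (by rw [zpowers_le]; exact hc')
  have h1 : zpowers c ≤ H := le_sup_left
  have h2 : zpowers c ≠ H := by
    intro h
    apply hcc'
    rw [h]
    exact (le_sup_right : zpowers c' ≤ H) (mem_zpowers c')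
  have hlt : Nat.card (zpowers c) < Nat.card H := by
    rcases Nat.lt_or_ge (Nat.card (zpowers c)) (Nat.card H) with h | h
    · exact h
    · exact absurd (Subgroup.eq_of_le_of_card_ge h1 h) h2
  rw [card_zpowers_eq (hAp c hc) hc1] at hlt
  have hdvd : Nat.card H ∣ p ^ 2 := by
    rw [← hAcard]; exact Subgroup.card_dvd_of_le hHA
  obtain ⟨k, hk, hkc⟩ := (Nat.dvd_prime_pow hp.out).mp hdvd
  have hk2 : k = 2 := by
    have hp1 : 1 < p := hp.out.one_lt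
    interval_cases k
    · rw [pow_zero] at hkc; omega
    · rw [pow_one] at hkc; omega
    · rfl
  have : H = A := by
    apply Subgroup.eq_of_le_of_card_ge hHA
    rw [hkc, hk2, hAcard]
  rw [this]

theorem commute_of_commute_two [Finite Λ] (A : Subgroup Λ) (hAp : ∀ a ∈ A, a ^ p = 1)
    (hAcard : Nat.card A = p ^ 2) {c c' : Λ} (hc : c ∈ A) (hc1 : c ≠ 1) (hc' : c' ∈ A)
    (hcc' : c' ∉ zpowers c) {x : Λ} (h1 : c * x = x * c) (h2 : c' * x = x * c') :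
    ∀ a ∈ A, a * x = x * a := by
  intro a ha
  have hle : zpowers c ⊔ zpowers c' ≤ centralizer ({x} : Set Λ) := by
    apply sup_le <;> rw [zpowers_le, mem_centralizer_singleton_iff]
    · exact h1
    · exact h2
  have := hle (le_sup_zpowers A hAp hAcard hc hc1 hc' hcc' ha)
  rw [mem_centralizer_singleton_iff] at this
  exact this

end elemAb

section core

variable [Finite Λ] {p : ℕ} [hp : Fact p.Prime]

theorem mem_normalizer_of_mem_stabQ {Q K : Subgroup Λ} (hKQ : K ≤ Q) {g : Λ}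
    (hg : g ∈ stabQ Q K) : g ∈ normalizer (K : Set Λ) := by
  apply mem_normalizer_of_forall (fun d hd => conj_mem_of_mem_stabQ hKQ hg hd)
  intro d hd
  have := conj_mem_of_mem_stabQ hKQ ((stabQ Q K).inv_mem hg) hd
  simpa using this

/-- (P1): if all of `A` acts trivially on `Q/K` then `Q = K`. -/
theorem le_of_le_stabQ (A Q K : Subgroup Λ)
    (hAp : ∀ a ∈ A, a ^ p = 1) (hAcard : Nat.card A = p ^ 2)
    (hAc : ∀ a ∈ A, ∀ b ∈ A, a * b = b * a)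
    (hQ : (Nat.card Q).Coprime p)
    (hCQ : ∀ u ∈ Q, (∀ a ∈ A, a * u = u * a) → u = 1)
    (hKQ : K ≤ Q) (hQK : Q ≤ normalizer (K : Set Λ))
    (hA : A ≤ stabQ Q K) : Q ≤ K := by
  obtain ⟨c₂, hc₂, c₁, hc₁, hc₁1, hc21⟩ :=
    Helper48.exists_not_mem_zpowers A hAp (by rw [hAcard])
  have hKcop : (Nat.card K).Coprime p :=
    Nat.Coprime.coprime_dvd_left (Subgroup.card_dvd_of_le hKQ) hQ
  intro u hu
  -- key membership
  have hmem : ∀ c ∈ A, ∀ v ∈ Q, v⁻¹ * (c * v * c⁻¹) ∈ K := by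
    intro c hc v hv
    have h1 := (hA hc).2 v hv
    have h2 := (mem_normalizer_iff.mp (hQK (Q.inv_mem hv)) _).mp h1
    have e : v⁻¹ * (c * v * c⁻¹ * v⁻¹) * v⁻¹⁻¹ = v⁻¹ * (c * v * c⁻¹) := by group
    rwa [e] at h2
  obtain ⟨d₁, hd₁, h1⟩ := Helper48.exists_mul_mem_fixed K hKcop c₁ u 1
    (by rw [pow_one]; exact hAp c₁ hc₁) (mem_normalizer_of_mem_stabQ hKQ (hA hc₁))
    (hmem c₁ hc₁ u hu)
  set u₁ := u * d₁ with hu₁
  have hu₁Q : u₁ ∈ Q := Q.mul_mem hu (hKQ hd₁)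
  have hu₁c : u₁ ∈ centralizer ({c₁} : Set Λ) := by
    rw [mem_centralizer_singleton_iff]
    have : c₁ * u₁ * c₁⁻¹ * c₁ = u₁ * c₁ := by rw [h1]
    have h' : c₁ * u₁ = u₁ * c₁ := by simpa using this
    exact h'.symm
  have hc₂c : c₂ ∈ centralizer ({c₁} : Set Λ) := by
    rw [mem_centralizer_singleton_iff]
    exact hAc c₂ hc₂ c₁ hc₁
  set D₂ := K ⊓ centralizer ({c₁} : Set Λ) with hD₂
  have hD₂cop : (Nat.card D₂).Coprime p :=
    Nat.Coprime.coprime_dvd_left (Subgroup.card_dvd_of_le inf_le_left) hKcop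
  have hc₂D : c₂ ∈ normalizer (D₂ : Set Λ) :=
    Helper48.mem_normalizer_inf' (mem_normalizer_of_mem_stabQ hKQ (hA hc₂))
      (Helper48.mem_normalizer_centralizer_singleton (hAc c₂ hc₂ c₁ hc₁))
  obtain ⟨d₂, hd₂, h2⟩ := Helper48.exists_mul_mem_fixed D₂ hD₂cop c₂ u₁ 1
    (by rw [pow_one]; exact hAp c₂ hc₂) hc₂D
    ⟨hmem c₂ hc₂ u₁ hu₁Q, by
      exact (centralizer ({c₁} : Set Λ)).mul_mem ((centralizer ({c₁} : Set Λ)).inv_mem hu₁c)
        ((centralizer ({c₁} : Set Λ)).mul_mem ((centralizer ({c₁} : Set Λ)).mul_mem hc₂c hu₁c)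
          ((centralizer ({c₁} : Set Λ)).inv_mem hc₂c))⟩
  set w := u₁ * d₂ with hw
  have hwQ : w ∈ Q := Q.mul_mem hu₁Q (hKQ hd₂.1)
  have hwc₁ : c₁ * w = w * c₁ := by
    have : w ∈ centralizer ({c₁} : Set Λ) := (centralizer ({c₁} : Set Λ)).mul_mem hu₁c hd₂.2
    rw [mem_centralizer_singleton_iff] at this
    exact this.symm
  have hwc₂ : c₂ * w = w * c₂ := by
    have : c₂ * w * c₂⁻¹ * c₂ = w * c₂ := by rw [h2]
    simpa using this
  have hw1 : w = 1 :=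
    hCQ w hwQ (commute_of_commute_two A hAp hAcard hc₁ hc₁1 hc₂ hc21 hwc₁ hwc₂)
  have : u = (d₁ * d₂)⁻¹ := by
    have : u * (d₁ * d₂) = 1 := by rw [← mul_assoc]; exact hw1
    exact eq_inv_of_mul_eq_one_left this
  rw [this]
  exact K.inv_mem (K.mul_mem hd₁ hd₂.1)

theorem zpowers_le_normalizer_zpowers (b : Λ) : b ∈ normalizer ((zpowers b : Subgroup Λ) : Set Λ) :=
  le_normalizer (mem_zpowers b)

theorem mem_normalizer_zpowers_of_commute {x b : Λ} (h : b * x = x * b) :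
    x ∈ normalizer ((zpowers b : Subgroup Λ) : Set Λ) := by
  apply Subgroup.centralizer_le_normalizer
  rw [mem_centralizer_iff]
  intro y hy
  obtain ⟨k, rfl⟩ := hy
  have : Commute b x := h
  exact (this.zpow_left k).eq

/-- (P2): if `b₀` (which centralizes `S`) acts trivially on `Q/K` then `Q = K`. -/
theorem le_of_mem_stabQ (S Q K : Subgroup Λ) (b₀ : Λ) (hb₀p : b₀ ^ p = 1)
    (hb₀Q : b₀ ∈ normalizer (Q : Set Λ)) (hSQ : S ≤ normalizer (Q : Set Λ))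
    (hQ : (Nat.card Q).Coprime p)
    (hb₀S : ∀ x ∈ S, b₀ * x = x * b₀)
    (hH2 : ∀ u ∈ Q, b₀ * u = u * b₀ → ∀ x ∈ S, u * x = x * u)
    (hH3 : Q ≤ ⁅Q, S⁆)
    (hb : b₀ ∈ stabQ Q K) : Q ≤ K := by
  set B := zpowers b₀ with hB
  set D := ⁅Q, B⁆ with hD
  have hBQ : B ≤ normalizer (Q : Set Λ) := by rw [hB, zpowers_le]; exact hb₀Q
  have hBst : B ≤ stabQ Q K := by rw [hB, zpowers_le]; exact hb
  have hDK : D ≤ K := by
    rw [hD, Subgroup.commutator_le]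
    intro u hu b hbB
    have h1 := K.inv_mem ((hBst hbB).2 u hu)
    have e : (b * u * b⁻¹ * u⁻¹)⁻¹ = ⁅u, b⁆ := by rw [commutatorElement_def]; group
    rwa [e] at h1
  have hDQ : D ≤ Q := commutator_le_left_of_le_normalizer hBQ
  have hQD : Q ≤ normalizer (D : Set Λ) := left_le_normalizer_commutator Q B
  have hSD : S ≤ normalizer (D : Set Λ) := fun x hx =>
    mem_normalizer_commutator_of_mem (hSQ hx) (mem_normalizer_zpowers_of_commute (hb₀S x hx))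
  have hb₀D : b₀ ∈ normalizer (D : Set Λ) :=
    mem_normalizer_commutator_of_mem hb₀Q (zpowers_le_normalizer_zpowers b₀)
  have hDcop : (Nat.card D).Coprime p :=
    Nat.Coprime.coprime_dvd_left (Subgroup.card_dvd_of_le hDQ) hQ
  have hQS : ⁅Q, S⁆ ≤ D := by
    rw [Subgroup.commutator_le]
    intro u hu x hx
    obtain ⟨d, hd, hfix⟩ := Helper48.exists_mul_mem_fixed D hDcop b₀ u 1
      (by rw [pow_one]; exact hb₀p) hb₀D (by
        have : ⁅u⁻¹, b₀⁆ ∈ D :=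
          Subgroup.commutator_mem_commutator (Q.inv_mem hu) (mem_zpowers b₀)
        have e : ⁅u⁻¹, b₀⁆ = u⁻¹ * (b₀ * u * b₀⁻¹) := by rw [commutatorElement_def]; group
        rwa [e] at this)
    set w := u * d with hw
    have hwQ : w ∈ Q := Q.mul_mem hu (hDQ hd)
    have hwb : b₀ * w = w * b₀ := by
      have : b₀ * w * b₀⁻¹ * b₀ = w * b₀ := by rw [hfix]
      simpa using this
    have hwx : w * x = x * w := hH2 w hwQ hwb x hx
    have e1 : x⁻¹ * w⁻¹ = w⁻¹ * x⁻¹ := by rw [← mul_inv_rev, ← mul_inv_rev, hwx]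
    have hu' : u = w * d⁻¹ := by rw [hw]; group
    have e2 : ⁅u, x⁆ = w * (d⁻¹ * (x * d * x⁻¹)) * w⁻¹ := by
      rw [commutatorElement_def, hu']
      have : w * d⁻¹ * x * (w * d⁻¹)⁻¹ * x⁻¹ = w * d⁻¹ * x * d * (w⁻¹ * x⁻¹) := by group
      rw [this, ← e1]
      group
    rw [e2]
    have h3 : x * d * x⁻¹ ∈ D := (mem_normalizer_iff.mp (hSD hx) d).mp hd
    exact (mem_normalizer_iff.mp (hQD hwQ) _).mp (D.mul_mem (D.inv_mem hd) h3)
  exact (hH3.trans hQS).trans hDK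

/-- **The counting core.** -/
theorem core_S (A S Q K : Subgroup Λ)
    (hAc : ∀ a ∈ A, ∀ b ∈ A, a * b = b * a) (hAp : ∀ a ∈ A, a ^ p = 1)
    (hAcard : Nat.card A = p ^ 2)
    (hAS : A ≤ normalizer (S : Set Λ)) (hAQ : A ≤ normalizer (Q : Set Λ))
    (hSQ : S ≤ normalizer (Q : Set Λ))
    (hS : (Nat.card S).Coprime p) (hQ : (Nat.card Q).Coprime p)
    (b₀ : Λ) (hb₀ : b₀ ∈ A) (hb₀1 : b₀ ≠ 1) (hb₀S : ∀ x ∈ S, b₀ * x = x * b₀)
    (hCS : ∀ x ∈ S, (∀ a ∈ A, a * x = x * a) → x = 1)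
    (hCQ : ∀ u ∈ Q, (∀ a ∈ A, a * u = u * a) → u = 1)
    (hH2 : ∀ u ∈ Q, b₀ * u = u * b₀ → ∀ x ∈ S, u * x = x * u)
    (hH3 : Q ≤ ⁅Q, S⁆)
    (hKQ : K ≤ Q) (hQK : Q ≤ normalizer (K : Set Λ)) (hKne : K ≠ Q)
    (hstar : ∀ x ∈ S, ∃ c ∈ A, c ≠ 1 ∧ x * c * x⁻¹ ∈ stabQ Q K) : False := by
  have hQnK : ¬ Q ≤ K := fun h => hKne (le_antisymm hKQ h)
  set 𝔖 := stabQ Q K with h𝔖
  obtain ⟨c₁, hc₁A, hc₁1, hc₁𝔖'⟩ := hstar 1 (one_mem S)
  have hc₁𝔖 : c₁ ∈ 𝔖 := by simpa using hc₁𝔖'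
  have hb₀c₁ : b₀ ∉ zpowers c₁ := by
    intro h
    have : b₀ ∈ 𝔖 := (zpowers_le.mpr hc₁𝔖) h
    exact hQnK (le_of_mem_stabQ S Q K b₀ (hAp b₀ hb₀) (hAQ hb₀) hSQ hQ hb₀S hH2 hH3 this)
  have hCS1 : ∀ x ∈ S, c₁ * x = x * c₁ → x = 1 := by
    intro x hx hcx
    exact hCS x hx (commute_of_commute_two A hAp hAcard hc₁A hc₁1 hb₀ hb₀c₁ hcx (hb₀S x hx))
  set T := 𝔖 ⊓ S with hT
  have hTcop : (Nat.card T).Coprime p :=
    Nat.Coprime.coprime_dvd_left (Subgroup.card_dvd_of_le inf_le_right) hS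
  have hc₁T : c₁ ∈ normalizer (T : Set Λ) := stabQ_normalizes_self_inf hc₁𝔖 (hAS hc₁A)
  have hclaim : ∀ x ∈ S, x * c₁ * x⁻¹ ∈ 𝔖 := by
    intro x hx
    obtain ⟨c, hcA, hc1, hcx⟩ := hstar x hx
    by_cases hcc : c ∈ zpowers c₁
    · have : c₁ ∈ zpowers c := mem_zpowers_of_mem_zpowers (hAp c₁ hc₁A) hcc hc1
      obtain ⟨k, hk⟩ := Subgroup.mem_zpowers_iff.mp this
      have e : x * c₁ * x⁻¹ = (x * c * x⁻¹) ^ k := by rw [conj_zpow, hk]
      rw [e]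
      exact 𝔖.zpow_mem hcx k
    · exfalso
      set t := x * c * x⁻¹ * c⁻¹ with ht
      have htS : t ∈ S := by
        have h1 : c * x⁻¹ * c⁻¹ ∈ S := (mem_normalizer_iff.mp (hAS hcA) _).mp (S.inv_mem hx)
        have e : t = x * (c * x⁻¹ * c⁻¹) := by rw [ht]; group
        rw [e]
        exact S.mul_mem hx h1
      have htc : t * c ∈ 𝔖 := by
        have e : t * c = x * c * x⁻¹ := by rw [ht]; group
        rw [e]; exact hcx
      have h1 : c₁ * t * c₁⁻¹ * t⁻¹ ∈ T := by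
        refine ⟨?_, ?_⟩
        · have h2 : c₁ * (t * c) * c₁⁻¹ ∈ 𝔖 := 𝔖.mul_mem (𝔖.mul_mem hc₁𝔖 htc) (𝔖.inv_mem hc₁𝔖)
          have h3 := 𝔖.mul_mem h2 (𝔖.inv_mem htc)
          have hcc₁ : c * c₁⁻¹ = c₁⁻¹ * c := by
            have := hAc c hcA c₁⁻¹ (A.inv_mem hc₁A)
            exact this
          have e : c₁ * (t * c) * c₁⁻¹ * (t * c)⁻¹ = c₁ * t * c₁⁻¹ * t⁻¹ := by
            have : c₁ * (t * c) * c₁⁻¹ = c₁ * t * (c * c₁⁻¹) := by group
            rw [this, hcc₁]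
            group
          rwa [e] at h3
        · exact S.mul_mem ((mem_normalizer_iff.mp (hAS hc₁A) t).mp htS) (S.inv_mem htS)
      obtain ⟨d, hd, hfix⟩ := Helper48.exists_mul_mem_fixed T hTcop c₁ t⁻¹ 1
        (by rw [pow_one]; exact hAp c₁ hc₁A) hc₁T (by
          have := T.inv_mem h1
          have e : (c₁ * t * c₁⁻¹ * t⁻¹)⁻¹ = t⁻¹⁻¹ * (c₁ * t⁻¹ * c₁⁻¹) := by group
          rwa [e] at this)
      have h2 : t⁻¹ * d = 1 := by
        apply hCS1 _ (S.mul_mem (S.inv_mem htS) hd.2)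
        have : c₁ * (t⁻¹ * d) * c₁⁻¹ * c₁ = (t⁻¹ * d) * c₁ := by rw [hfix]
        simpa using this
      have htd : t = d := by
        have h3 := congrArg (fun z => t * z) h2
        simp only [mul_inv_cancel_left, mul_one] at h3
        exact h3.symm
      have ht𝔖 : t ∈ 𝔖 := by rw [htd]; exact hd.1
      have hc𝔖 : c ∈ 𝔖 := by
        have := 𝔖.mul_mem (𝔖.inv_mem ht𝔖) htc
        simpa using this
      have hA𝔖 : A ≤ 𝔖 :=
        (le_sup_zpowers A hAp hAcard hc₁A hc₁1 hcA hcc).trans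
          (sup_le (zpowers_le.mpr hc₁𝔖) (zpowers_le.mpr hc𝔖))
      exact hQnK (le_of_le_stabQ A Q K hAp hAcard hAc hQ hCQ hKQ hQK hA𝔖)
  -- injection S → T
  have hST : Nat.card S ≤ Nat.card T := by
    let f : ↥S → ↥T := fun x => ⟨(x : Λ) * c₁ * (x : Λ)⁻¹ * c₁⁻¹,
      𝔖.mul_mem (hclaim x x.2) (𝔖.inv_mem hc₁𝔖), by
        have h1 : c₁ * (x : Λ)⁻¹ * c₁⁻¹ ∈ S :=
          (mem_normalizer_iff.mp (hAS hc₁A) _).mp (S.inv_mem x.2)
        have e : (x : Λ) * c₁ * (x : Λ)⁻¹ * c₁⁻¹ = (x : Λ) * (c₁ * (x : Λ)⁻¹ * c₁⁻¹) := by group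
        rw [e]
        exact S.mul_mem x.2 h1⟩
    have hf : Function.Injective f := by
      intro x y hxy
      have h1 : (x : Λ) * c₁ * (x : Λ)⁻¹ * c₁⁻¹ = (y : Λ) * c₁ * (y : Λ)⁻¹ * c₁⁻¹ :=
        congrArg (fun z : ↥T => (z : Λ)) hxy
      have h2 : (x : Λ) * c₁ * (x : Λ)⁻¹ = (y : Λ) * c₁ * (y : Λ)⁻¹ := mul_right_cancel h1
      have h3 : c₁ * ((y : Λ)⁻¹ * (x : Λ)) = ((y : Λ)⁻¹ * (x : Λ)) * c₁ := by
        have : (y : Λ)⁻¹ * ((x : Λ) * c₁ * (x : Λ)⁻¹) * (x : Λ) =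
            (y : Λ)⁻¹ * ((y : Λ) * c₁ * (y : Λ)⁻¹) * (x : Λ) := by rw [h2]
        have e1 : (y : Λ)⁻¹ * ((x : Λ) * c₁ * (x : Λ)⁻¹) * (x : Λ) =
            ((y : Λ)⁻¹ * (x : Λ)) * c₁ := by group
        have e2 : (y : Λ)⁻¹ * ((y : Λ) * c₁ * (y : Λ)⁻¹) * (x : Λ) =
            c₁ * ((y : Λ)⁻¹ * (x : Λ)) := by group
        rw [e1, e2] at this
        exact this.symm
      have h4 := hCS1 _ (S.mul_mem (S.inv_mem y.2) x.2) h3
      have : (x : Λ) = (y : Λ) := by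
        have := congrArg (fun t => (y : Λ) * t) h4
        simpa using this
      exact Subtype.ext this
    exact Nat.card_le_card_of_injective f hf
  have hTS : T = S := Subgroup.eq_of_le_of_card_ge inf_le_right hST
  have hS𝔖 : S ≤ 𝔖 := by
    rw [← hTS]; exact inf_le_left
  have hQSK : ⁅Q, S⁆ ≤ K := by
    rw [Subgroup.commutator_le]
    intro u hu x hx
    have h1 := K.inv_mem ((hS𝔖 hx).2 u hu)
    have e : (x * u * x⁻¹ * u⁻¹)⁻¹ = ⁅u, x⁆ := by rw [commutatorElement_def]; group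
    rwa [e] at h1
  exact hQnK (hH3.trans hQSK)

end core

end Cfsg.Agent.Helper31.Ward
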