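import Mathlib

/-!
# Modules for Ward's theorem (helper31)

A finite group `Λ` acting on a commutative group `V` through `φ : Λ →* MulAut V`.
Fixed points, commutator submodules, the coprime decomposition `C_Y(H) ∩ [Y,H] = 1`,
and the Frobenius lemma: a Frobenius group `N ⋊ H` acting on `M` with `C_M(N) = 1 = C_M(H)`
and `(|N|, |M|) = 1` forces `M = 1`.
-/

set_option autoImplicit false

namespace Cfsg.Agent.Helper31.Ward

open Subgroup

variable {Λ : Type*} [Group Λ] {V : Type*} [CommGroup V]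

/-- Fixed points of the subgroup `H` on `V`. -/
def fixM (φ : Λ →* MulAut V) (H : Subgroup Λ) : Subgroup V where
  carrier := {v | ∀ h ∈ H, φ h v = v}
  one_mem' := fun h _ => map_one _
  mul_mem' := fun {a b} ha hb h hh => by rw [map_mul, ha h hh, hb h hh]
  inv_mem' := fun {a} ha h hh => by rw [map_inv, ha h hh]

theorem mem_fixM {φ : Λ →* MulAut V} {H : Subgroup Λ} {v : V} :
    v ∈ fixM φ H ↔ ∀ h ∈ H, φ h v = v := Iff.rfl

theorem fixM_anti (φ : Λ →* MulAut V) {H K : Subgroup Λ} (h : H ≤ K) : fixM φ K ≤ fixM φ H :=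
  fun _ hv x hx => hv x (h hx)

/-- `Y` is invariant under `H`. -/
def InvBy (φ : Λ →* MulAut V) (H : Subgroup Λ) (Y : Subgroup V) : Prop :=
  ∀ h ∈ H, ∀ y ∈ Y, φ h y ∈ Y

/-- The commutator `[Y, H]`. -/
def commY (φ : Λ →* MulAut V) (H : Subgroup Λ) (Y : Subgroup V) : Subgroup V :=
  Subgroup.closure {w | ∃ h ∈ H, ∃ y ∈ Y, w = φ h y * y⁻¹}

theorem mem_commY_gen {φ : Λ →* MulAut V} {H : Subgroup Λ} {Y : Subgroup V} {h : Λ} (hh : h ∈ H)
    {y : V} (hy : y ∈ Y) : φ h y * y⁻¹ ∈ commY φ H Y :=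
  Subgroup.subset_closure ⟨h, hh, y, hy, rfl⟩

theorem commY_le {φ : Λ →* MulAut V} {H : Subgroup Λ} {Y : Subgroup V} (hinv : InvBy φ H Y) :
    commY φ H Y ≤ Y := by
  rw [commY, Subgroup.closure_le]
  rintro w ⟨h, hh, y, hy, rfl⟩
  exact Y.mul_mem (hinv h hh y hy) (Y.inv_mem hy)

theorem commY_mono (φ : Λ →* MulAut V) {H K : Subgroup Λ} {Y Y' : Subgroup V} (h : H ≤ K)
    (hY : Y ≤ Y') : commY φ H Y ≤ commY φ K Y' := by
  apply Subgroup.closure_mono
  rintro w ⟨x, hx, y, hy, rfl⟩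
  exact ⟨x, h hx, y, hY hy, rfl⟩

theorem commY_le_iff {φ : Λ →* MulAut V} {H : Subgroup Λ} {Y W : Subgroup V} :
    commY φ H Y ≤ W ↔ ∀ h ∈ H, ∀ y ∈ Y, φ h y * y⁻¹ ∈ W := by
  rw [commY, Subgroup.closure_le]
  constructor
  · intro h x hx y hy
    exact h ⟨x, hx, y, hy, rfl⟩
  · rintro h w ⟨x, hx, y, hy, rfl⟩
    exact h x hx y hy

theorem commY_eq_bot_iff {φ : Λ →* MulAut V} {H : Subgroup Λ} {Y : Subgroup V} :
    commY φ H Y = ⊥ ↔ ∀ h ∈ H, ∀ y ∈ Y, φ h y = y := by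
  rw [eq_bot_iff, commY_le_iff]
  constructor
  · intro h x hx y hy
    have := h x hx y hy
    rw [Subgroup.mem_bot, mul_inv_eq_one] at this
    exact this
  · intro h x hx y hy
    rw [Subgroup.mem_bot, mul_inv_eq_one]
    exact h x hx y hy

/-- If `φ g` carries `Y` into `Y'` and normalizes `H` modulo the kernel, it carries `[Y,H]` into
`[Y',H]`. -/
theorem map_commY {φ : Λ →* MulAut V} {H : Subgroup Λ} {Y Y' : Subgroup V} (g : Λ)
    (hg : ∀ h ∈ H, ∃ h' ∈ H, φ g * φ h = φ h' * φ g)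
    (hY : ∀ y ∈ Y, φ g y ∈ Y') :
    ∀ w ∈ commY φ H Y, φ g w ∈ commY φ H Y' := by
  intro w hw
  have : commY φ H Y ≤ (commY φ H Y').comap (φ g).toMonoidHom := by
    rw [commY_le_iff]
    intro h hh y hy
    obtain ⟨h', hh', he⟩ := hg h hh
    show φ g (φ h y * y⁻¹) ∈ commY φ H Y'
    rw [map_mul, map_inv]
    have e1 : φ g (φ h y) = φ h' (φ g y) := by
      have := congrArg (fun f : MulAut V => f y) he
      simpa [MulAut.mul_apply] using this
    rw [e1]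
    exact mem_commY_gen hh' (hY y hy)
  exact this hw

/-- If `φ g` normalizes `H` modulo the kernel, it preserves the fixed points of `H`. -/
theorem map_fixM {φ : Λ →* MulAut V} {H : Subgroup Λ} (g : Λ)
    (hg : ∀ h ∈ H, ∃ h' ∈ H, φ h * φ g = φ g * φ h') :
    ∀ v ∈ fixM φ H, φ g v ∈ fixM φ H := by
  intro v hv h hh
  obtain ⟨h', hh', he⟩ := hg h hh
  have := congrArg (fun f : MulAut V => f v) he
  simp only [MulAut.mul_apply] at this
  rw [this, hv h' hh']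

section finite

variable [Finite Λ] [Finite V]

/-- The trace map of a subgroup. -/
noncomputable def trH (φ : Λ →* MulAut V) (H : Subgroup Λ) : V →* V :=
  letI := Fintype.ofFinite ↥H
  ∏ h : ↥H, ((φ (h : Λ) : MulAut V).toMonoidHom : V →* V)

theorem trH_apply (φ : Λ →* MulAut V) (H : Subgroup Λ) (v : V) :
    letI := Fintype.ofFinite ↥H
    trH φ H v = ∏ h : ↥H, φ (h : Λ) v := by
  letI := Fintype.ofFinite ↥H
  unfold trH
  rw [MonoidHom.finset_prod_apply]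
  rfl

theorem trH_map (φ : Λ →* MulAut V) (H : Subgroup Λ) {h₀ : Λ} (h₀H : h₀ ∈ H) (v : V) :
    trH φ H (φ h₀ v) = trH φ H v := by
  letI := Fintype.ofFinite ↥H
  rw [trH_apply, trH_apply]
  refine Fintype.prod_equiv (Equiv.mulRight (⟨h₀, h₀H⟩ : ↥H)) _ _ ?_
  intro h
  show φ (h : Λ) (φ h₀ v) = φ ((h * ⟨h₀, h₀H⟩ : ↥H) : Λ) v
  rw [Subgroup.coe_mul, map_mul, MulAut.mul_apply]

theorem trH_mem_fixM (φ : Λ →* MulAut V) (H : Subgroup Λ) (v : V) : trH φ H v ∈ fixM φ H := by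
  letI := Fintype.ofFinite ↥H
  intro h₀ h₀H
  rw [trH_apply, map_prod]
  refine Fintype.prod_equiv (Equiv.mulLeft (⟨h₀, h₀H⟩ : ↥H)) _ _ ?_
  intro h
  show φ h₀ (φ (h : Λ) v) = φ ((⟨h₀, h₀H⟩ * h : ↥H) : Λ) v
  rw [Subgroup.coe_mul, map_mul, MulAut.mul_apply]

theorem trH_of_mem_fixM (φ : Λ →* MulAut V) (H : Subgroup Λ) {v : V} (hv : v ∈ fixM φ H) :
    trH φ H v = v ^ Nat.card H := by
  letI := Fintype.ofFinite ↥H
  rw [trH_apply]
  have : ∀ h : ↥H, φ (h : Λ) v = v := fun h => hv h h.2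
  simp only [this, Finset.prod_const, Finset.card_univ, Nat.card_eq_fintype_card]

theorem trH_mem_of_invBy (φ : Λ →* MulAut V) (H : Subgroup Λ) {M : Subgroup V}
    (hM : InvBy φ H M) {v : V} (hv : v ∈ M) : trH φ H v ∈ M := by
  letI := Fintype.ofFinite ↥H
  rw [trH_apply]
  exact Subgroup.prod_mem _ fun h _ => hM h h.2 v hv

theorem eq_one_of_pow_card_eq_one {v : V} {n : ℕ} (h : v ^ n = 1)
    (hcop : n.Coprime (Nat.card V)) : v = 1 := by
  have h1 : orderOf v ∣ n := orderOf_dvd_of_pow_eq_one h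
  have h2 : orderOf v ∣ Nat.card V := orderOf_dvd_natCard v
  have : orderOf v ∣ 1 := by
    have := Nat.dvd_gcd h1 h2
    rwa [Nat.Coprime.gcd_eq_one hcop] at this
  exact orderOf_eq_one_iff.mp (Nat.dvd_one.mp this)

/-- Coprime action on an abelian group: `C_Y(H) ∩ [Y,H] = 1`. -/
theorem fixM_inf_commY (φ : Λ →* MulAut V) (H : Subgroup Λ) (Y : Subgroup V)
    (hcop : (Nat.card H).Coprime (Nat.card V)) :
    fixM φ H ⊓ commY φ H Y = ⊥ := by
  rw [eq_bot_iff]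
  rintro v ⟨hv1, hv2⟩
  have hker : commY φ H Y ≤ (trH φ H).ker := by
    rw [commY_le_iff]
    intro h hh y _
    rw [MonoidHom.mem_ker, map_mul, map_inv, trH_map φ H hh, mul_inv_cancel]
  have h1 : trH φ H v = 1 := hker hv2
  rw [trH_of_mem_fixM φ H hv1] at h1
  exact eq_one_of_pow_card_eq_one h1 hcop

/-- **Frobenius lemma.** If `H` normalizes `N` and acts on it without fixed points, and `N`, `H`
both act on `M` (of order prime to `|N|`) without fixed points, then `M = 1`. -/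
theorem frob_lemma (φ : Λ →* MulAut V) (N H : Subgroup Λ) (M : Subgroup V)
    (hHN : H ≤ normalizer (N : Set Λ))
    (hfpf : ∀ h ∈ H, h ≠ 1 → ∀ n ∈ N, h * n = n * h → n = 1)
    (hcop : (Nat.card N).Coprime (Nat.card V))
    (hMN : InvBy φ N M) (hMH : InvBy φ H M)
    (hN : fixM φ N ⊓ M = ⊥) (hH : fixM φ H ⊓ M = ⊥) : M = ⊥ := by
  classical
  letI := Fintype.ofFinite ↥N
  letI := Fintype.ofFinite ↥H
  rw [eq_bot_iff]
  intro m hm
  rw [Subgroup.mem_bot]
  have htrH : ∀ m' ∈ M, trH φ H m' = 1 := by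
    intro m' hm'
    have : trH φ H m' ∈ fixM φ H ⊓ M := ⟨trH_mem_fixM φ H m', trH_mem_of_invBy φ H hMH hm'⟩
    rw [hH] at this
    exact this
  have htrN : ∀ m' ∈ M, trH φ N m' = 1 := by
    intro m' hm'
    have : trH φ N m' ∈ fixM φ N ⊓ M := ⟨trH_mem_fixM φ N m', trH_mem_of_invBy φ N hMN hm'⟩
    rw [hN] at this
    exact this
  set F : ↥H → V := fun h => ∏ n : ↥N, φ ((n : Λ) * (h : Λ)) m with hF
  set Gf : ↥H → V := fun h => ∏ x : ↥N, φ ((x : Λ) * (h : Λ) * (x : Λ)⁻¹) m with hGf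
  have hF1 : F 1 = 1 := by
    have := htrN m hm
    rw [trH_apply] at this
    simp only [hF, Subgroup.coe_one, mul_one]
    convert this
  have hG1 : Gf 1 = m ^ Nat.card N := by
    simp only [hGf, Subgroup.coe_one, mul_one, mul_inv_cancel, map_one, MulAut.one_apply,
      Finset.prod_const, Finset.card_univ, Nat.card_eq_fintype_card]
  have hFG : ∀ h : ↥H, h ≠ 1 → F h = Gf h := by
    intro h hh1
    have hmem : ∀ x : ↥N, (x : Λ) * (h : Λ) * (x : Λ)⁻¹ * (h : Λ)⁻¹ ∈ N := by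
      intro x
      have h1 : (h : Λ) * (x : Λ)⁻¹ * (h : Λ)⁻¹ ∈ N :=
        (Subgroup.mem_normalizer_iff.mp (hHN h.2) _).mp (N.inv_mem x.2)
      have : (x : Λ) * (h : Λ) * (x : Λ)⁻¹ * (h : Λ)⁻¹ =
          (x : Λ) * ((h : Λ) * (x : Λ)⁻¹ * (h : Λ)⁻¹) := by group
      rw [this]
      exact N.mul_mem x.2 h1
    set σ : ↥N → ↥N := fun x => ⟨_, hmem x⟩ with hσ
    have hσinj : Function.Injective σ := by
      intro x y hxy
      have h1 : (x : Λ) * (h : Λ) * (x : Λ)⁻¹ * (h : Λ)⁻¹ =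
          (y : Λ) * (h : Λ) * (y : Λ)⁻¹ * (h : Λ)⁻¹ := congrArg Subtype.val hxy
      have h2 : (x : Λ) * (h : Λ) * (x : Λ)⁻¹ = (y : Λ) * (h : Λ) * (y : Λ)⁻¹ :=
        mul_right_cancel h1
      have h3 : (h : Λ) * ((y : Λ)⁻¹ * (x : Λ)) = ((y : Λ)⁻¹ * (x : Λ)) * (h : Λ) := by
        have : (y : Λ)⁻¹ * ((x : Λ) * (h : Λ) * (x : Λ)⁻¹) * (x : Λ) =
            (y : Λ)⁻¹ * ((y : Λ) * (h : Λ) * (y : Λ)⁻¹) * (x : Λ) := by rw [h2]
        have e1 : (y : Λ)⁻¹ * ((x : Λ) * (h : Λ) * (x : Λ)⁻¹) * (x : Λ) =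
            ((y : Λ)⁻¹ * (x : Λ)) * (h : Λ) := by group
        have e2 : (y : Λ)⁻¹ * ((y : Λ) * (h : Λ) * (y : Λ)⁻¹) * (x : Λ) =
            (h : Λ) * ((y : Λ)⁻¹ * (x : Λ)) := by group
        rw [e1, e2] at this
        exact this.symm
      have hne : (h : Λ) ≠ 1 := fun he => hh1 (Subtype.ext he)
      have h4 := hfpf h h.2 hne _ (N.mul_mem (N.inv_mem y.2) x.2) h3
      have : (x : Λ) = (y : Λ) := by
        have := congrArg (fun t => (y : Λ) * t) h4
        simpa using this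
      exact Subtype.ext this
    have hσbij : Function.Bijective σ := hσinj.bijective_of_finite
    simp only [hF, hGf]
    symm
    refine Fintype.prod_bijective σ hσbij _ _ ?_
    intro x
    congr 2
    show (x : Λ) * (h : Λ) * (x : Λ)⁻¹ = (x : Λ) * (h : Λ) * (x : Λ)⁻¹ * (h : Λ)⁻¹ * (h : Λ)
    group
  have hFprod : ∏ h : ↥H, F h = 1 := by
    simp only [hF]
    rw [Finset.prod_comm]
    have : ∀ n : ↥N, ∏ h : ↥H, φ ((n : Λ) * (h : Λ)) m = 1 := by
      intro n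
      have h1 : ∀ h : ↥H, φ ((n : Λ) * (h : Λ)) m = φ (n : Λ) (φ (h : Λ) m) := by
        intro h
        rw [map_mul, MulAut.mul_apply]
      simp only [h1]
      rw [← map_prod]
      have := htrH m hm
      rw [trH_apply] at this
      rw [show (∏ h : ↥H, φ (h : Λ) m) = 1 by convert this]
      exact map_one _
    simp only [this, Finset.prod_const_one]
  have hGprod : ∏ h : ↥H, Gf h = 1 := by
    simp only [hGf]
    rw [Finset.prod_comm]
    have : ∀ x : ↥N, ∏ h : ↥H, φ ((x : Λ) * (h : Λ) * (x : Λ)⁻¹) m = 1 := by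
      intro x
      have h1 : ∀ h : ↥H, φ ((x : Λ) * (h : Λ) * (x : Λ)⁻¹) m =
          φ (x : Λ) (φ (h : Λ) (φ ((x : Λ)⁻¹) m)) := by
        intro h
        rw [map_mul, map_mul, MulAut.mul_apply, MulAut.mul_apply]
      simp only [h1]
      rw [← map_prod]
      have hm' : φ ((x : Λ)⁻¹) m ∈ M := hMN _ (N.inv_mem x.2) m hm
      have := htrH _ hm'
      rw [trH_apply] at this
      rw [show (∏ h : ↥H, φ (h : Λ) (φ ((x : Λ)⁻¹) m)) = 1 by convert this]
      exact map_one _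
    simp only [this, Finset.prod_const_one]
  have e1 : ∏ h : ↥H, F h = F 1 * ∏ h ∈ Finset.univ.erase (1 : ↥H), F h :=
    (Finset.mul_prod_erase Finset.univ F (Finset.mem_univ 1)).symm
  have e2 : ∏ h : ↥H, Gf h = Gf 1 * ∏ h ∈ Finset.univ.erase (1 : ↥H), Gf h :=
    (Finset.mul_prod_erase Finset.univ Gf (Finset.mem_univ 1)).symm
  have e3 : ∏ h ∈ Finset.univ.erase (1 : ↥H), F h = ∏ h ∈ Finset.univ.erase (1 : ↥H), Gf h := by
    apply Finset.prod_congr rfl
    intro h hh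
    exact hFG h (Finset.ne_of_mem_erase hh)
  rw [hFprod, hF1, one_mul] at e1
  rw [hGprod, hG1, ← e3, ← e1, mul_one] at e2
  exact eq_one_of_pow_card_eq_one e2.symm hcop

end finite

end Cfsg.Agent.Helper31.Ward
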