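import Mathlib
import Cfsg.Agent.Lib.Helper31.WardMod
import Cfsg.Agent.Lib.Helper31.WardCore

/-!
# The final configuration of Ward's theorem (helper31)
-/

set_option autoImplicit false

namespace Cfsg.Agent.Helper31.Ward

open Subgroup
open scoped commutatorElement

variable {Λ : Type*} [Group Λ] {V : Type*} [CommGroup V]

/-- The elements of `Q` fixing `Y` pointwise. -/
def fixer (φ : Λ →* MulAut V) (Q : Subgroup Λ) (Y : Subgroup V) : Subgroup Λ where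
  carrier := {u | u ∈ Q ∧ ∀ y ∈ Y, φ u y = y}
  one_mem' := ⟨one_mem _, fun y _ => by simp⟩
  mul_mem' := by
    rintro a b ⟨ha, ha'⟩ ⟨hb, hb'⟩
    refine ⟨Q.mul_mem ha hb, fun y hy => ?_⟩
    rw [map_mul, MulAut.mul_apply, hb' y hy, ha' y hy]
  inv_mem' := by
    rintro a ⟨ha, ha'⟩
    refine ⟨Q.inv_mem ha, fun y hy => ?_⟩
    rw [map_inv, MulAut.inv_apply, MulEquiv.symm_apply_eq, ha' y hy]

theorem mem_fixer {φ : Λ →* MulAut V} {Q : Subgroup Λ} {Y : Subgroup V} {u : Λ} :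
    u ∈ fixer φ Q Y ↔ u ∈ Q ∧ ∀ y ∈ Y, φ u y = y := Iff.rfl

theorem fixer_le (φ : Λ →* MulAut V) (Q : Subgroup Λ) (Y : Subgroup V) : fixer φ Q Y ≤ Q :=
  fun _ h => h.1

theorem fixer_anti (φ : Λ →* MulAut V) (Q : Subgroup Λ) {Y Y' : Subgroup V} (h : Y ≤ Y') :
    fixer φ Q Y' ≤ fixer φ Q Y := fun _ hu => ⟨hu.1, fun y hy => hu.2 y (h hy)⟩

/-- If `g` normalizes `Q` and preserves `Y`, it normalizes the fixer. -/
theorem mem_normalizer_fixer {φ : Λ →* MulAut V} {Q : Subgroup Λ} {Y : Subgroup V} {g : Λ}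
    (hgQ : g ∈ normalizer (Q : Set Λ)) (hgY : ∀ y ∈ Y, φ g y ∈ Y)
    (hgY' : ∀ y ∈ Y, φ g⁻¹ y ∈ Y) : g ∈ normalizer ((fixer φ Q Y : Subgroup Λ) : Set Λ) := by
  have key : ∀ g : Λ, g ∈ normalizer (Q : Set Λ) → (∀ y ∈ Y, φ g⁻¹ y ∈ Y) →
      ∀ d ∈ fixer φ Q Y, g * d * g⁻¹ ∈ fixer φ Q Y := by
    rintro g hgQ hgY' d ⟨hdQ, hd⟩
    refine ⟨(mem_normalizer_iff.mp hgQ d).mp hdQ, fun y hy => ?_⟩
    rw [map_mul, map_mul, MulAut.mul_apply, MulAut.mul_apply, hd _ (hgY' y hy)]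
    rw [← MulAut.mul_apply, ← map_mul, mul_inv_cancel, map_one, MulAut.one_apply]
  apply mem_normalizer_of_forall (key g hgQ hgY')
  intro d hd
  have := key g⁻¹ (inv_mem hgQ) (by simpa using hgY) d hd
  simpa using this

/-- `{u ∈ Q | c u c⁻¹ u⁻¹ ∈ K}`, a subgroup when `Q` normalizes `K`. -/
def cstab (c : Λ) (Q K : Subgroup Λ) (hQK : Q ≤ normalizer (K : Set Λ)) : Subgroup Λ where
  carrier := {u | u ∈ Q ∧ c * u * c⁻¹ * u⁻¹ ∈ K}
  one_mem' := ⟨one_mem _, by simp⟩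
  mul_mem' := by
    rintro a b ⟨ha, ha'⟩ ⟨hb, hb'⟩
    refine ⟨Q.mul_mem ha hb, ?_⟩
    have h1 : a * (c * b * c⁻¹ * b⁻¹) * a⁻¹ ∈ K := (mem_normalizer_iff.mp (hQK ha) _).mp hb'
    have e : c * (a * b) * c⁻¹ * (a * b)⁻¹ =
        (c * a * c⁻¹ * a⁻¹) * (a * (c * b * c⁻¹ * b⁻¹) * a⁻¹) := by group
    rw [e]
    exact K.mul_mem ha' h1
  inv_mem' := by
    rintro a ⟨ha, ha'⟩
    refine ⟨Q.inv_mem ha, ?_⟩
    have h1 : a⁻¹ * (c * a * c⁻¹ * a⁻¹)⁻¹ * a⁻¹⁻¹ ∈ K :=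
      (mem_normalizer_iff.mp (hQK (Q.inv_mem ha)) _).mp (K.inv_mem ha')
    have e : a⁻¹ * (c * a * c⁻¹ * a⁻¹)⁻¹ * a⁻¹⁻¹ = c * a⁻¹ * c⁻¹ * a⁻¹⁻¹ := by group
    rwa [e] at h1

theorem mem_normalizer_lcs {Q : Subgroup Λ} {g : Λ} (hg : g ∈ normalizer (Q : Set Λ)) (i : ℕ) :
    g ∈ normalizer ((Q.lowerCentralSeries i : Subgroup Λ) : Set Λ) := by
  induction i with
  | zero => exact hg
  | succ i ih =>
    rw [Subgroup.lowerCentralSeries_succ]
    exact mem_normalizer_commutator_of_mem ih hg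

section FL

variable [Finite Λ] [Finite V] {p q : ℕ} [hp : Fact p.Prime] [hq : Fact q.Prime]

/-- Common hypotheses: an elementary abelian group `A` of order `p²` acting on a `q`-group `Q`,
which acts on the module `V`. -/
structure Base (φ : Λ →* MulAut V) (A Q : Subgroup Λ) (p q : ℕ) : Prop where
  hAc : ∀ a ∈ A, ∀ b ∈ A, a * b = b * a
  hAp : ∀ a ∈ A, a ^ p = 1
  hAcard : Nat.card A = p ^ 2
  hAQ : A ≤ normalizer (Q : Set Λ)
  hQq : IsPGroup q Q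
  hqp : q ≠ p
  hVq : (Nat.card V).Coprime q
  hCQ : ∀ u ∈ Q, (∀ a ∈ A, a * u = u * a) → u = 1
  hN1 : ∀ b ∈ A, b ≠ 1 → ∀ u ∈ Q, b * u = u * b → ∀ v : V, φ b v = v → φ u v = v

namespace Base

variable {φ : Λ →* MulAut V} {A Q : Subgroup Λ}

theorem card_coprime_p (h : Base φ A Q p q) {X : Subgroup Λ} (hX : X ≤ Q) :
    (Nat.card X).Coprime p := by
  obtain ⟨k, hk⟩ := (h.hQq.to_le hX).exists_card_eq
  rw [hk]
  exact Nat.Coprime.pow_left k ((Nat.coprime_primes hq.out hp.out).mpr h.hqp)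

theorem card_coprime_V (h : Base φ A Q p q) {X : Subgroup Λ} (hX : X ≤ Q) :
    (Nat.card X).Coprime (Nat.card V) := by
  obtain ⟨k, hk⟩ := (h.hQq.to_le hX).exists_card_eq
  rw [hk]
  exact Nat.Coprime.pow_left k h.hVq.symm

/-- Steps 3–4: for `Z ≤ Q` central modulo the kernel and `c ∈ A`, elements of `C_Q(b)` with
`b ∉ ⟨c⟩` act trivially on `[V, C_Z(c)]`. -/
theorem fixes_comm (h : Base φ A Q p q) (Z : Subgroup Λ) (hZQ : Z ≤ Q)
    (hAZ : A ≤ normalizer (Z : Set Λ))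
    (hcomm : ∀ z ∈ Z, ∀ u ∈ Q, φ z * φ u = φ u * φ z)
    {c : Λ} (hc : c ∈ A) (hc1 : c ≠ 1) {b : Λ} (hb : b ∈ A) (hbc : b ∉ zpowers c)
    {u : Λ} (hu : u ∈ Q) (hbu : b * u = u * b) :
    ∀ y ∈ commY φ (Z ⊓ centralizer ({c} : Set Λ)) ⊤, φ u y = y := by
  set Zc := Z ⊓ centralizer ({c} : Set Λ) with hZc
  set Y := commY φ Zc ⊤ with hY
  have hZcQ : Zc ≤ Q := inf_le_left.trans hZQ
  have hb1 : b ≠ 1 := fun h1 => hbc (h1 ▸ one_mem _)
  -- invariance of Y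
  have hYQ : InvBy φ Q Y := by
    intro u' hu' y hy
    exact map_commY u' (fun z hz => ⟨z, hz, (hcomm z (Subgroup.mem_inf.mp hz).1 u' hu').symm⟩)
      (fun _ _ => Subgroup.mem_top _) y hy
  have hAZc : ∀ a ∈ A, a ∈ normalizer (Zc : Set Λ) := fun a ha =>
    Helper48.mem_normalizer_inf' (hAZ ha)
      (Helper48.mem_normalizer_centralizer_singleton (h.hAc a ha c hc))
  have hYA : InvBy φ A Y := by
    intro a ha y hy
    refine map_commY a (fun z hz => ⟨a * z * a⁻¹, (mem_normalizer_iff.mp (hAZc a ha) z).mp hz, ?_⟩)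
      (fun _ _ => Subgroup.mem_top _) y hy
    rw [← map_mul, ← map_mul]
    congr 1
    group
  have hfixZ : fixM φ Zc ⊓ Y = ⊥ := fixM_inf_commY φ Zc ⊤ (h.card_coprime_V hZcQ)
  -- the module M = [Y, u]
  set U := zpowers u with hU
  have hUQ : U ≤ Q := by rw [hU, zpowers_le]; exact hu
  have hUY : InvBy φ U Y := fun x hx y hy => hYQ x (hUQ hx) y hy
  set M := commY φ U Y with hM
  have hMY : M ≤ Y := commY_le hUY
  have hMbot : M = ⊥ := by
    apply frob_lemma φ Zc (zpowers b) M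
    · rw [zpowers_le]; exact hAZc b hb
    · intro x hx hx1 n hn hxn
      have hbx : b ∈ zpowers x := mem_zpowers_of_mem_zpowers (h.hAp b hb) hx hx1
      obtain ⟨k, hk⟩ := Subgroup.mem_zpowers_iff.mp hbx
      have hbn : b * n = n * b := by
        have : Commute x n := hxn
        rw [← hk]
        exact (this.zpow_left k).eq
      have hcn : c * n = n * c := by
        have := (Subgroup.mem_inf.mp hn).2
        rw [mem_centralizer_singleton_iff] at this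
        exact this.symm
      exact h.hCQ n (hZcQ hn)
        (commute_of_commute_two A h.hAp h.hAcard hc hc1 hb hbc hcn hbn)
    · exact h.card_coprime_V hZcQ
    · intro z hz m hm
      exact map_commY z (fun x hx => ⟨x, hx, hcomm z (Subgroup.mem_inf.mp hz).1 x (hUQ hx)⟩)
        (fun y hy => hYQ z (hZcQ hz) y hy) m hm
    · intro x hx m hm
      have hxA : x ∈ A := (zpowers_le.mpr hb) hx
      refine map_commY x (fun w hw => ⟨w, hw, ?_⟩) (fun y hy => hYA x hxA y hy) m hm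
      -- x commutes with w ∈ ⟨u⟩
      obtain ⟨k, rfl⟩ := Subgroup.mem_zpowers_iff.mp hx
      obtain ⟨j, rfl⟩ := Subgroup.mem_zpowers_iff.mp hw
      rw [← map_mul, ← map_mul]
      congr 1
      have : Commute b u := hbu
      exact ((this.zpow_left k).zpow_right j).eq
    · rw [eq_bot_iff]
      rintro m ⟨hm1, hm2⟩
      have : m ∈ fixM φ Zc ⊓ Y := ⟨hm1, hMY hm2⟩
      rwa [hfixZ] at this
    · rw [eq_bot_iff]
      rintro m ⟨hm1, hm2⟩
      have h1 : φ u m = m := h.hN1 b hb hb1 u hu hbu m (hm1 b (mem_zpowers b))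
      have h2 : m ∈ fixM φ U := by
        intro x hx
        obtain ⟨k, rfl⟩ := Subgroup.mem_zpowers_iff.mp hx
        rw [map_zpow]
        have : (φ u) m = m := h1
        have hstab : φ u ∈ MulAction.stabilizer (MulAut V) m := this
        exact (MulAction.stabilizer (MulAut V) m).zpow_mem hstab k
      have : m ∈ fixM φ U ⊓ commY φ U Y := ⟨h2, hm2⟩
      rwa [fixM_inf_commY φ U Y (h.card_coprime_V hUQ)] at this
  intro y hy
  exact (commY_eq_bot_iff.mp hMbot) u (mem_zpowers u) y hy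

/-- Step 5: `c` acts trivially on `Q` modulo the fixer of `[V, C_Z(c)]`. -/
theorem mem_stabQ_fixer (h : Base φ A Q p q) (Z : Subgroup Λ) (hZQ : Z ≤ Q)
    (hAZ : A ≤ normalizer (Z : Set Λ))
    (hcomm : ∀ z ∈ Z, ∀ u ∈ Q, φ z * φ u = φ u * φ z)
    {c : Λ} (hc : c ∈ A) (hc1 : c ≠ 1) :
    c ∈ stabQ Q (fixer φ Q (commY φ (Z ⊓ centralizer ({c} : Set Λ)) ⊤)) := by
  set Zc := Z ⊓ centralizer ({c} : Set Λ) with hZc
  set Y := commY φ Zc ⊤ with hY
  have hYQ : InvBy φ Q Y := by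
    intro u' hu' y hy
    exact map_commY u' (fun z hz => ⟨z, hz, (hcomm z (Subgroup.mem_inf.mp hz).1 u' hu').symm⟩)
      (fun _ _ => Subgroup.mem_top _) y hy
  have hAZc : ∀ a ∈ A, a ∈ normalizer (Zc : Set Λ) := fun a ha =>
    Helper48.mem_normalizer_inf' (hAZ ha)
      (Helper48.mem_normalizer_centralizer_singleton (h.hAc a ha c hc))
  have hYA : InvBy φ A Y := by
    intro a ha y hy
    refine map_commY a (fun z hz => ⟨a * z * a⁻¹, (mem_normalizer_iff.mp (hAZc a ha) z).mp hz, ?_⟩)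
      (fun _ _ => Subgroup.mem_top _) y hy
    rw [← map_mul, ← map_mul]
    congr 1
    group
  set KY := fixer φ Q Y with hKY
  have hQKY : Q ≤ normalizer (KY : Set Λ) := fun u hu =>
    mem_normalizer_fixer (le_normalizer hu) (fun y hy => hYQ u hu y hy)
      (fun y hy => hYQ _ (Q.inv_mem hu) y hy)
  have hcKY : c ∈ normalizer (KY : Set Λ) :=
    mem_normalizer_fixer (h.hAQ hc) (fun y hy => hYA c hc y hy)
      (fun y hy => hYA _ (A.inv_mem hc) y hy)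
  have hle : Q ≤ cstab c Q KY hQKY := by
    apply Helper48.le_of_forall_inf_centralizer_le A Q _ h.hAc h.hAp (by rw [h.hAcard]) h.hAQ
      (h.card_coprime_p le_rfl)
    intro c' hc' hc'1 u huu
    obtain ⟨hu, huc'⟩ := Subgroup.mem_inf.mp huu
    rw [mem_centralizer_singleton_iff] at huc'
    by_cases hcc : c' ∈ zpowers c
    · have hcz : c ∈ zpowers c' := mem_zpowers_of_mem_zpowers (h.hAp c hc) hcc hc'1
      obtain ⟨k, hk⟩ := Subgroup.mem_zpowers_iff.mp hcz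
      have hcu : c * u = u * c := by
        have : Commute c' u := huc'.symm
        rw [← hk]
        exact (this.zpow_left k).eq
      refine ⟨hu, ?_⟩
      have : c * u * c⁻¹ * u⁻¹ = 1 := by rw [hcu]; group
      rw [this]
      exact one_mem _
    · have hfix := h.fixes_comm Z hZQ hAZ hcomm hc hc1 hc' hcc hu huc'.symm
      have huK : u ∈ KY := ⟨hu, hfix⟩
      refine ⟨hu, ?_⟩
      exact KY.mul_mem ((mem_normalizer_iff.mp hcKY u).mp huK) (KY.inv_mem huK)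
  exact ⟨h.hAQ hc, fun u hu => (hle hu).2⟩

/-- Step 7: an irreducible `Q`-submodule `U` of `[V,Z]` has a fixer containing some `[Q,c]`. -/
theorem exists_mem_stabQ (h : Base φ A Q p q) (Z : Subgroup Λ) (hZQ : Z ≤ Q)
    (hAZ : A ≤ normalizer (Z : Set Λ))
    (hcomm : ∀ z ∈ Z, ∀ u ∈ Q, φ z * φ u = φ u * φ z)
    (U : Subgroup V) (hUV : U ≤ commY φ Z ⊤) (hU1 : U ≠ ⊥) (hUQ : InvBy φ Q U)
    (hmin : ∀ U' : Subgroup V, U' ≤ commY φ Z ⊤ → U' ≠ ⊥ → InvBy φ Q U' →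
      Nat.card U ≤ Nat.card U') :
    ∃ c ∈ A, c ≠ 1 ∧ c ∈ stabQ Q (fixer φ Q U) ∧ fixer φ Q U ≠ Q := by
  have hfixZ : fixM φ Z ⊓ commY φ Z ⊤ = ⊥ := fixM_inf_commY φ Z ⊤ (h.card_coprime_V hZQ)
  have h1 : ¬ Z ≤ fixer φ Z U := by
    intro hle
    apply hU1
    rw [eq_bot_iff, ← hfixZ]
    intro y hy
    exact ⟨fun z hz => (hle hz).2 y hy, hUV hy⟩
  have h2 : ∃ c ∈ A, c ≠ 1 ∧ ¬ Z ⊓ centralizer ({c} : Set Λ) ≤ fixer φ Z U := by
    by_contra hcon
    push_neg at hcon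
    exact h1 (Helper48.le_of_forall_inf_centralizer_le A Z _ h.hAc h.hAp (by rw [h.hAcard]) hAZ
      (h.card_coprime_p hZQ) hcon)
  obtain ⟨c, hc, hc1, hnle⟩ := h2
  refine ⟨c, hc, hc1, ?_, ?_⟩
  · set Zc := Z ⊓ centralizer ({c} : Set Λ) with hZc
    have hZcQ : Zc ≤ Q := inf_le_left.trans hZQ
    have hUZc : InvBy φ Zc U := fun z hz y hy => hUQ z (hZcQ hz) y hy
    set U' := commY φ Zc U with hU'
    have hU'U : U' ≤ U := commY_le hUZc
    have hU'ne : U' ≠ ⊥ := by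
      intro hbot
      apply hnle
      intro z hz
      exact ⟨(Subgroup.mem_inf.mp hz).1, fun y hy => (commY_eq_bot_iff.mp hbot) z hz y hy⟩
    have hU'Q : InvBy φ Q U' := by
      intro u hu y hy
      exact map_commY u (fun z hz => ⟨z, hz, (hcomm z (Subgroup.mem_inf.mp hz).1 u hu).symm⟩)
        (fun y hy => hUQ u hu y hy) y hy
    have hcard := hmin U' (hU'U.trans hUV) hU'ne hU'Q
    have hUeq : U' = U := Subgroup.eq_of_le_of_card_ge hU'U hcard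
    have hUY : U ≤ commY φ Zc ⊤ := by
      rw [← hUeq]
      exact commY_mono φ le_rfl le_top
    exact stabQ_mono Q (fixer_anti φ Q hUY) (h.mem_stabQ_fixer Z hZQ hAZ hcomm hc hc1)
  · intro heq
    apply hnle
    intro z hz
    have hzQ : z ∈ Q := hZQ (Subgroup.mem_inf.mp hz).1
    have : z ∈ fixer φ Q U := by rw [heq]; exact hzQ
    exact ⟨(Subgroup.mem_inf.mp hz).1, this.2⟩

end Base

/-- **The final configuration**: `A` elementary abelian of order `p²`, `S` centralized by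
`b₀ ∈ A`, `Q = [Q,S]` a `q`-group acting on the module `V`; under the nilpotency conditions
`hN1`, `hH2` the group `Q` acts trivially on `V`. -/
theorem fl_main {φ : Λ →* MulAut V} {A Q : Subgroup Λ} (h : Base φ A Q p q) (S : Subgroup Λ)
    (hAS : A ≤ normalizer (S : Set Λ)) (hSQ : S ≤ normalizer (Q : Set Λ))
    (hS : (Nat.card S).Coprime p)
    (b₀ : Λ) (hb₀ : b₀ ∈ A) (hb₀1 : b₀ ≠ 1) (hb₀S : ∀ x ∈ S, b₀ * x = x * b₀)
    (hCS : ∀ x ∈ S, (∀ a ∈ A, a * x = x * a) → x = 1)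
    (hH2 : ∀ u ∈ Q, b₀ * u = u * b₀ → ∀ x ∈ S, u * x = x * u)
    (hH3 : Q ≤ ⁅Q, S⁆) : ∀ u ∈ Q, φ u = 1 := by
  classical
  by_contra hne
  push_neg at hne
  obtain ⟨u₀, hu₀, hu₀1⟩ := hne
  set K := Q ⊓ φ.ker with hK
  have hQK : ¬ Q ≤ K := fun hle => hu₀1 (MonoidHom.mem_ker.mp (Subgroup.mem_inf.mp (hle hu₀)).2)
  -- Step 1: the subgroup Z
  haveI : Finite ↥Q := inferInstance
  have hnil : Group.IsNilpotent ↥Q := h.hQq.isNilpotent
  obtain ⟨n, hn⟩ := (Subgroup.isNilpotent_iff_lowerCentralSeries Q).mp hnil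
  have hex : ∃ i, Q.lowerCentralSeries i ≤ K := ⟨n, by rw [hn]; exact bot_le⟩
  have hi₀ := Nat.find_spec hex
  have hi₀0 : Nat.find hex ≠ 0 := by
    intro h0
    rw [h0] at hi₀
    exact hQK hi₀
  obtain ⟨j, hj⟩ := Nat.exists_eq_succ_of_ne_zero hi₀0
  set Z := Q.lowerCentralSeries j with hZ
  have hZK : ¬ Z ≤ K := Nat.find_min hex (by omega)
  have hZcomm' : ⁅Z, Q⁆ ≤ K := by
    rw [hZ, ← Subgroup.lowerCentralSeries_succ, ← Nat.succ_eq_add_one, ← hj]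
    exact hi₀
  have hZQ : Z ≤ Q := Subgroup.lowerCentralSeries_le_self Q j
  have hAZ : A ≤ normalizer (Z : Set Λ) := fun a ha => mem_normalizer_lcs (h.hAQ ha) j
  have hSZ : S ≤ normalizer (Z : Set Λ) := fun a ha => mem_normalizer_lcs (hSQ ha) j
  have hcomm : ∀ z ∈ Z, ∀ u ∈ Q, φ z * φ u = φ u * φ z := by
    intro z hz u hu
    have := MonoidHom.mem_ker.mp
      (Subgroup.mem_inf.mp (hZcomm' (Subgroup.commutator_mem_commutator hz hu))).2
    rw [commutatorElement_def, map_mul, map_mul, map_mul, map_inv, map_inv,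
      mul_inv_eq_one, mul_inv_eq_iff_eq_mul] at this
    exact this
  -- Step 7: a minimal Q-submodule of [V,Z]
  set VZ := commY φ Z ⊤ with hVZ
  have hVZne : VZ ≠ ⊥ := by
    intro hbot
    apply hZK
    intro z hz
    refine Subgroup.mem_inf.mpr ⟨hZQ hz, MonoidHom.mem_ker.mpr ?_⟩
    ext y
    exact (commY_eq_bot_iff.mp hbot) z hz y (Subgroup.mem_top y)
  have hVZQ : InvBy φ Q VZ := by
    intro u hu y hy
    exact map_commY u (fun z hz => ⟨z, hz, (hcomm z hz u hu).symm⟩)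
      (fun _ _ => Subgroup.mem_top _) y hy
  have hexU : ∃ m, ∃ U : Subgroup V, (U ≤ VZ ∧ U ≠ ⊥ ∧ InvBy φ Q U) ∧ Nat.card U = m :=
    ⟨_, VZ, ⟨le_rfl, hVZne, hVZQ⟩, rfl⟩
  obtain ⟨U₀, ⟨hU₀V, hU₀1, hU₀Q⟩, hcard₀⟩ := Nat.find_spec hexU
  have hmin : ∀ U' : Subgroup V, U' ≤ VZ → U' ≠ ⊥ → InvBy φ Q U' → Nat.card U₀ ≤ Nat.card U' := by
    intro U' h1 h2 h3
    rw [hcard₀]
    exact Nat.find_min' hexU ⟨U', ⟨h1, h2, h3⟩, rfl⟩
  set K₀ := fixer φ Q U₀ with hK₀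
  obtain ⟨-, -, -, -, hK₀ne⟩ := h.exists_mem_stabQ Z hZQ hAZ hcomm U₀ hU₀V hU₀1 hU₀Q hmin
  have hQK₀ : Q ≤ normalizer (K₀ : Set Λ) := fun u hu =>
    mem_normalizer_fixer (le_normalizer hu) (fun y hy => hU₀Q u hu y hy)
      (fun y hy => hU₀Q _ (Q.inv_mem hu) y hy)
  -- conjugates of U₀ under S
  have hstar : ∀ x ∈ S, ∃ c ∈ A, c ≠ 1 ∧ x * c * x⁻¹ ∈ stabQ Q K₀ := by
    intro x hx
    set Ux := U₀.map (φ x⁻¹).toMonoidHom with hUx
    have hxinj : Function.Injective (φ x⁻¹).toMonoidHom := (φ x⁻¹).injective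
    have hUxV : Ux ≤ VZ := by
      rintro y' ⟨y, hy, rfl⟩
      refine map_commY x⁻¹ (fun z hz => ⟨x⁻¹ * z * x⁻¹⁻¹,
        (mem_normalizer_iff.mp ((normalizer (Z : Set Λ)).inv_mem (hSZ hx)) z).mp hz, ?_⟩)
        (fun _ _ => Subgroup.mem_top _) y (hU₀V hy)
      rw [← map_mul, ← map_mul]
      congr 1
      group
    have hUx1 : Ux ≠ ⊥ := by
      intro hbot
      apply hU₀1
      exact (Subgroup.map_eq_bot_iff_of_injective U₀ hxinj).mp hbot
    have hUxQ : InvBy φ Q Ux := by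
      rintro u hu y' ⟨y, hy, rfl⟩
      have hu' : x * u * x⁻¹ ∈ Q := (mem_normalizer_iff.mp (hSQ hx) u).mp hu
      refine ⟨φ (x * u * x⁻¹) y, hU₀Q _ hu' y hy, ?_⟩
      show φ x⁻¹ (φ (x * u * x⁻¹) y) = φ u (φ x⁻¹ y)
      rw [← MulAut.mul_apply, ← MulAut.mul_apply, ← map_mul, ← map_mul]
      congr 2
      group
    have hUxcard : Nat.card Ux = Nat.card U₀ := Subgroup.card_map_of_injective hxinj
    have hminx : ∀ U' : Subgroup V, U' ≤ VZ → U' ≠ ⊥ → InvBy φ Q U' →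
        Nat.card Ux ≤ Nat.card U' := by
      intro U' h1 h2 h3
      rw [hUxcard]
      exact hmin U' h1 h2 h3
    obtain ⟨c, hc, hc1, hcst, -⟩ := h.exists_mem_stabQ Z hZQ hAZ hcomm Ux hUxV hUx1 hUxQ hminx
    refine ⟨c, hc, hc1, ?_⟩
    have hxQ : x ∈ normalizer (Q : Set Λ) := hSQ hx
    refine ⟨mul_mem (mul_mem hxQ hcst.1) (inv_mem hxQ), fun u hu => ?_⟩
    have hu' : x⁻¹ * u * x ∈ Q := by
      have := (mem_normalizer_iff.mp (inv_mem hxQ) u).mp hu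
      simpa using this
    have hk := hcst.2 _ hu'
    set k := c * (x⁻¹ * u * x) * c⁻¹ * (x⁻¹ * u * x)⁻¹ with hkdef
    have e : x * c * x⁻¹ * u * (x * c * x⁻¹)⁻¹ * u⁻¹ = x * k * x⁻¹ := by
      rw [hkdef]; group
    rw [e]
    refine ⟨(mem_normalizer_iff.mp hxQ k).mp hk.1, fun y hy => ?_⟩
    have hy' : φ x⁻¹ y ∈ Ux := ⟨y, hy, rfl⟩
    rw [map_mul, map_mul, MulAut.mul_apply, MulAut.mul_apply, hk.2 _ hy']
    rw [← MulAut.mul_apply, ← map_mul, mul_inv_cancel, map_one, MulAut.one_apply]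
  exact core_S A S Q K₀ h.hAc h.hAp h.hAcard hAS h.hAQ hSQ hS (h.card_coprime_p le_rfl)
    b₀ hb₀ hb₀1 hb₀S hCS h.hCQ hH2 hH3 (fixer_le φ Q U₀) hQK₀ hK₀ne hstar

end FL

end Cfsg.Agent.Helper31.Ward
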