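import Mathlib
import Cfsg.Agent.Lib.Helper31.WardFL
import Cfsg.Agent.Lib.Helper52.Coprime

/-!
# Ward's theorem: the final configuration for a general `s`-group `S` (helper31)
-/

set_option autoImplicit false

namespace Cfsg.Agent.Helper31.Ward

open Subgroup
open scoped commutatorElement

variable {Λ : Type*} [Group Λ] {V : Type*} [CommGroup V]
variable [Finite Λ] [Finite V] {p q : ℕ} [hp : Fact p.Prime] [hq : Fact q.Prime]

/-- `A` elementary abelian of order `p²`, `Q` an `A`-invariant `q`-group acting on `V`,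
`S` an `A`-invariant `s`-group (`s ≠ q`) normalizing `Q`: under the nilpotency conditions
`[Q,S]` acts trivially on `V`. -/
theorem fl_prime {φ : Λ →* MulAut V} {A Q : Subgroup Λ} (h : Base φ A Q p q) (S : Subgroup Λ)
    {s : ℕ} [hs : Fact s.Prime] (hSs : IsPGroup s S) (hsq : s ≠ q)
    (hScop : (Nat.card S).Coprime p)
    (hAS : A ≤ normalizer (S : Set Λ)) (hSQ : S ≤ normalizer (Q : Set Λ))
    (hCS : ∀ x ∈ S, (∀ a ∈ A, a * x = x * a) → x = 1)
    (hN2 : ∀ b ∈ A, b ≠ 1 → ∀ u ∈ Q, b * u = u * b → ∀ x ∈ S, b * x = x * b → u * x = x * u) :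
    ∀ u ∈ ⁅Q, S⁆, φ u = 1 := by
  set R := ⁅Q, S⁆ with hR
  have hRQ : R ≤ Q := commutator_le_left_of_le_normalizer hSQ
  have hAR : A ≤ normalizer (R : Set Λ) := fun a ha =>
    mem_normalizer_commutator_of_mem (h.hAQ ha) (hAS ha)
  have hSR : S ≤ normalizer (R : Set Λ) := fun x hx =>
    mem_normalizer_commutator_of_mem (hSQ hx) (le_normalizer hx)
  have hcop : ∀ {S' Q' : Subgroup Λ}, S' ≤ S → Q' ≤ Q →
      (Nat.card S').Coprime (Nat.card Q') := by
    intro S' Q' hS' hQ'
    obtain ⟨i, hi⟩ := (hSs.to_le hS').exists_card_eq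
    obtain ⟨j, hj⟩ := (h.hQq.to_le hQ').exists_card_eq
    rw [hi, hj]
    exact Nat.Coprime.pow i j ((Nat.coprime_primes hs.out hq.out).mpr hsq)
  have hsolv : ∀ {S' : Subgroup Λ}, S' ≤ S → Group.IsSolvable ↥S' := by
    intro S' hS'
    haveI : Group.IsNilpotent ↥S' := (hSs.to_le hS').isNilpotent
    infer_instance
  set K := R ⊓ φ.ker with hK
  have hS_le : S ≤ stabQ R K := by
    apply Helper48.le_of_forall_inf_centralizer_le A S _ h.hAc h.hAp (by rw [h.hAcard]) hAS hScop
    intro c hc hc1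
    set Sc := S ⊓ centralizer ({c} : Set Λ) with hSc
    set Rc := ⁅R, Sc⁆ with hRc
    have hScS : Sc ≤ S := inf_le_left
    have hScR : Sc ≤ normalizer (R : Set Λ) := hScS.trans hSR
    have hRcR : Rc ≤ R := commutator_le_left_of_le_normalizer hScR
    have hRcQ : Rc ≤ Q := hRcR.trans hRQ
    have hASc : A ≤ normalizer (Sc : Set Λ) := fun a ha =>
      Helper48.mem_normalizer_inf' (hAS ha)
        (Helper48.mem_normalizer_centralizer_singleton (h.hAc a ha c hc))
    have hARc : A ≤ normalizer (Rc : Set Λ) := fun a ha =>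
      mem_normalizer_commutator_of_mem (hAR ha) (hASc ha)
    have hbase : Base φ A Rc p q :=
      { hAc := h.hAc
        hAp := h.hAp
        hAcard := h.hAcard
        hAQ := hARc
        hQq := h.hQq.to_le hRcQ
        hqp := h.hqp
        hVq := h.hVq
        hCQ := fun u hu => h.hCQ u (hRcQ hu)
        hN1 := fun b hb hb1 u hu => h.hN1 b hb hb1 u (hRcQ hu) }
    have hfl := fl_main hbase Sc hASc
      (fun x hx => mem_normalizer_commutator_of_mem (hScR hx) (le_normalizer hx))
      (Nat.Coprime.coprime_dvd_left (Subgroup.card_dvd_of_le hScS) hScop)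
      c hc hc1
      (fun x hx => by
        have := (Subgroup.mem_inf.mp hx).2
        rw [mem_centralizer_singleton_iff] at this
        exact this.symm)
      (fun x hx => hCS x (hScS hx))
      (fun u hu hcu x hx => hN2 c hc hc1 u (hRcQ hu) hcu x (hScS hx) (by
        have := (Subgroup.mem_inf.mp hx).2
        rw [mem_centralizer_singleton_iff] at this
        exact this.symm))
      (by
        rw [hRc, Helper52.commutator_commutator_eq R Sc hScR (hcop hScS hRQ)
          (Or.inl (hsolv hScS))])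
    intro x hx
    refine ⟨hScR hx, fun u hu => ?_⟩
    have h1 : ⁅u, x⁆ ∈ Rc := Subgroup.commutator_mem_commutator hu hx
    have e : x * u * x⁻¹ * u⁻¹ = (⁅u, x⁆)⁻¹ := by rw [commutatorElement_def]; group
    rw [e]
    exact K.inv_mem (Subgroup.mem_inf.mpr ⟨hRcR h1, MonoidHom.mem_ker.mpr (hfl _ h1)⟩)
  have hRS : R ≤ ⁅R, S⁆ := by
    rw [hR, Helper52.commutator_commutator_eq Q S hSQ (hcop le_rfl le_rfl) (Or.inl (hsolv le_rfl))]
  have hRSK : ⁅R, S⁆ ≤ K := by
    rw [Subgroup.commutator_le]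
    intro u hu x hx
    have h1 := K.inv_mem ((hS_le hx).2 u hu)
    have e : (x * u * x⁻¹ * u⁻¹)⁻¹ = ⁅u, x⁆ := by rw [commutatorElement_def]; group
    rwa [e] at h1
  intro u hu
  exact MonoidHom.mem_ker.mp (Subgroup.mem_inf.mp (hRSK (hRS hu))).2

end Cfsg.Agent.Helper31.Ward
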