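import Mathlib
import Cfsg.Agent.Lib.Helper31.WardFL2
import Cfsg.Agent.Lib.Helper31.Cores
import Cfsg.Agent.Lib.Helper22.Fitting
import Cfsg.Agent.S1473

/-!
# Ward's theorem: nilpotency of a faithful quotient (helper31)
-/

set_option autoImplicit false

namespace Cfsg.Agent.Helper31.Ward

open Subgroup
open scoped commutatorElement

section sylow

variable {X : Type*} [Group X] [Finite X]

/-- A Sylow subgroup whose normalizer contains a term of the lower central series is normal. -/
theorem sylow_normal_of_lcs {s : ℕ} [Fact s.Prime] (S : Sylow s X) (N : Subgroup X)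
    (k : ℕ) (hk : (⊤ : Subgroup X).lowerCentralSeries k ≤ N)
    (hN : N ≤ normalizer ((S : Subgroup X) : Set X)) : (S : Subgroup X).Normal := by
  set H := normalizer ((S : Subgroup X) : Set X) with hH
  have hself : normalizer (H : Set X) = H := Sylow.normalizer_normalizer S
  have key : ∀ i, i ≤ k → (⊤ : Subgroup X).lowerCentralSeries (k - i) ≤ H := by
    intro i
    induction i with
    | zero => intro _; exact hk.trans hN
    | succ i ih =>
      intro hi
      have h1 := ih (by omega)
      have e : k - i = (k - (i + 1)) + 1 := by omega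
      rw [e, Subgroup.lowerCentralSeries_succ] at h1
      have h2 : (⊤ : Subgroup X).lowerCentralSeries (k - (i + 1)) ≤ normalizer (H : Set X) := by
        rw [Subgroup.le_normalizer_iff_commutator_le_right]
        exact (Subgroup.commutator_mono le_rfl le_top).trans h1
      rwa [hself] at h2
  have := key k le_rfl
  rw [Nat.sub_self, Subgroup.lowerCentralSeries_zero] at this
  exact Subgroup.normalizer_eq_top_iff.mp (top_le_iff.mp this)

theorem isNilpotent_of_exists_sylow_normal
    (h : ∀ (s : ℕ) [Fact s.Prime], ∃ S : Sylow s X, (S : Subgroup X).Normal) :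
    Group.IsNilpotent X := by
  refine ((Group.isNilpotent_of_finite_tfae (G := X)).out 3 0).mp ?_
  intro s hs P
  obtain ⟨S, hS⟩ := h s
  obtain ⟨g, rfl⟩ := MulAction.exists_smul_eq X S P
  rw [Sylow.smul_eq_of_normal]
  exact hS

theorem pCore_normal' (q : ℕ) : (Cfsg.pCore q X).Normal :=
  Subgroup.sSup_normal _ (fun _ h => h.1)

theorem pCore_characteristic' (q : ℕ) [Fact q.Prime] : (Cfsg.pCore q X).Characteristic := by
  rw [pCore_eq_cardCore]
  exact cardCore_characteristic _ _

end sylow

/-- The key nilpotency statement: `L` acts faithfully on the `r`-group `V`, `O_r(L) = 1`,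
`L` has a nilpotent normal subgroup `N` with `L/N` nilpotent, and the centralizers of the
nonidentity elements of `A` are nilpotent and act "nilpotently" on `V`.  Then `L` is nilpotent. -/
theorem nil_of_faithful {Λ : Type*} [Group Λ] [Finite Λ] {V : Type*} [CommGroup V] [Finite V]
    {p r : ℕ} [hp : Fact p.Prime] [hr : Fact r.Prime]
    (φ : Λ →* MulAut V) (A L N : Subgroup Λ) [hLn : L.Normal]
    (hAc : ∀ a ∈ A, ∀ b ∈ A, a * b = b * a) (hAp : ∀ a ∈ A, a ^ p = 1)
    (hAcard : Nat.card A = p ^ 2)
    (hLp : (Nat.card L).Coprime p)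
    (hCL : ∀ u ∈ L, (∀ a ∈ A, a * u = u * a) → u = 1)
    (hV : IsPGroup r V)
    (hfaith : ∀ u ∈ L, φ u = 1 → u = 1)
    (hOr : Cfsg.pCore r ↥L = ⊥)
    (hN1 : ∀ q : ℕ, q.Prime → q ≠ r → ∀ b ∈ A, b ≠ 1 → ∀ u ∈ L, (∃ i : ℕ, u ^ q ^ i = 1) →
      b * u = u * b → ∀ v : V, φ b v = v → φ u v = v)
    (hN2 : ∀ b ∈ A, b ≠ 1 → Group.IsNilpotent ↥(L ⊓ centralizer ({b} : Set Λ)))
    (hNL : N ≤ L) (hNn : N.Normal) (hNnil : Group.IsNilpotent ↥N) (k : ℕ)
    (hk : L.lowerCentralSeries k ≤ N) :
    Group.IsNilpotent ↥L := by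
  apply isNilpotent_of_exists_sylow_normal
  intro s hs
  have hA : IsPGroup p A := by
    intro a
    refine ⟨1, Subtype.ext ?_⟩
    rw [pow_one]
    simpa using hAp a a.2
  have hAL : A ≤ normalizer (L : Set Λ) := by
    rw [Subgroup.normalizer_eq_top_iff.mpr hLn]
    exact le_top
  obtain ⟨S, hS⟩ := Helper48.exists_sylow_normalized_by s A L hA hAL hLp
  refine ⟨S, ?_⟩
  set Sh : Subgroup Λ := (S : Subgroup ↥L).map L.subtype with hSh
  have hShL : Sh ≤ L := map_subtype_le _
  have hShs : IsPGroup s Sh := S.isPGroup'.map _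
  apply sylow_normal_of_lcs S (N.subgroupOf L) k
  · intro x hx
    rw [mem_subgroupOf]
    apply hk
    rw [← Subgroup.top_subtype_lowerCentralSeries L k]
    exact mem_map_of_mem _ hx
  · have hN'n : (N.subgroupOf L).Normal := inferInstance
    have hN'nil : Group.IsNilpotent ↥(N.subgroupOf L) :=
      S1473.isNilpotent_of_injective hNnil (Subgroup.subgroupOfEquivOfLe hNL).toMonoidHom
        (Subgroup.subgroupOfEquivOfLe hNL).injective
    have h1 : N.subgroupOf L ≤ ⨆ q : {q : ℕ // q.Prime}, Cfsg.pCore (q : ℕ) ↥L :=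
      Helper22.nilpotent_le_iSup_pCore (Subgroup.Normal.isSubnormal hN'n) le_rfl le_normalizer
        hN'nil
    refine h1.trans (iSup_le ?_)
    rintro ⟨q, hq⟩
    haveI := Fact.mk hq
    show Cfsg.pCore q ↥L ≤ _
    have hPq : IsPGroup q (Cfsg.pCore q ↥L) := Helper22.isPGroup_pCore q
    by_cases hqs : q = s
    · subst hqs
      haveI := pCore_normal' (X := ↥L) q
      exact (hPq.le_sylow_of_normal S).trans le_normalizer
    by_cases hqr : q = r
    · subst hqr
      rw [hOr]
      exact bot_le
    by_cases hqp : q = p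
    · subst hqp
      have : Cfsg.pCore q ↥L = ⊥ := by
        obtain ⟨j, hj⟩ := hPq.exists_card_eq
        have hdvd : Nat.card (Cfsg.pCore q ↥L) ∣ Nat.card L := Subgroup.card_subgroup_dvd_card _
        have hcop : (Nat.card (Cfsg.pCore q ↥L)).Coprime q :=
          Nat.Coprime.coprime_dvd_left hdvd hLp
        rw [hj] at hcop
        rw [← Subgroup.card_eq_one, hj]
        rcases Nat.eq_zero_or_pos j with h0 | h0
        · rw [h0, pow_zero]
        · exfalso
          have := (Nat.coprime_pow_left_iff h0 q q).mp hcop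
          rw [Nat.coprime_self] at this
          exact hp.out.one_lt.ne' this
      rw [this]
      exact bot_le
    -- the main case
    haveI := pCore_characteristic' (X := ↥L) q
    set Qh : Subgroup Λ := (Cfsg.pCore q ↥L).map L.subtype with hQh
    have hQhn : Qh.Normal := ConjAct.normal_of_characteristic_of_normal
    have hQhL : Qh ≤ L := map_subtype_le _
    have hQhq : IsPGroup q Qh := hPq.map _
    have htop : normalizer (Qh : Set Λ) = ⊤ := Subgroup.normalizer_eq_top_iff.mpr hQhn
    have hqel : ∀ u ∈ Qh, ∃ i : ℕ, u ^ q ^ i = 1 := by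
      intro u hu
      obtain ⟨i, hi⟩ := hQhq ⟨u, hu⟩
      exact ⟨i, by simpa using congrArg Subtype.val hi⟩
    have hsel : ∀ x ∈ Sh, ∃ j : ℕ, x ^ s ^ j = 1 := by
      intro x hx
      obtain ⟨j, hj⟩ := hShs ⟨x, hx⟩
      exact ⟨j, by simpa using congrArg Subtype.val hj⟩
    have hbase : Base φ A Qh p q :=
      { hAc := hAc
        hAp := hAp
        hAcard := hAcard
        hAQ := by rw [htop]; exact le_top
        hQq := hQhq
        hqp := hqp
        hVq := by
          obtain ⟨m, hm⟩ := hV.exists_card_eq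
          rw [hm]
          exact Nat.Coprime.pow_left m ((Nat.coprime_primes hr.out hq).mpr (Ne.symm hqr))
        hCQ := fun u hu => hCL u (hQhL hu)
        hN1 := fun b hb hb1 u hu hbu v hv =>
          hN1 q hq hqr b hb hb1 u (hQhL hu) (hqel u hu) hbu v hv }
    have hfl := fl_prime hbase Sh hShs (Ne.symm hqs)
      (Nat.Coprime.coprime_dvd_left (Subgroup.card_dvd_of_le hShL) hLp)
      hS (by rw [htop]; exact le_top)
      (fun x hx => hCL x (hShL hx))
      (by
        intro b hb hb1 u hu hbu x hx hbx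
        have hnil := hN2 b hb hb1
        have huY : u ∈ L ⊓ centralizer ({b} : Set Λ) :=
          Subgroup.mem_inf.mpr ⟨hQhL hu, mem_centralizer_singleton_iff.mpr hbu.symm⟩
        have hxY : x ∈ L ⊓ centralizer ({b} : Set Λ) :=
          Subgroup.mem_inf.mpr ⟨hShL hx, mem_centralizer_singleton_iff.mpr hbx.symm⟩
        obtain ⟨i, hi⟩ := hqel u hu
        obtain ⟨j, hj⟩ := hsel x hx
        have := S1473.commute_of_nilpotent hnil hq hs.out hqs
          (⟨u, huY⟩ : ↥(L ⊓ centralizer ({b} : Set Λ))) ⟨x, hxY⟩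
          ⟨i, Subtype.ext (by simpa using hi)⟩ ⟨j, Subtype.ext (by simpa using hj)⟩
        exact congrArg Subtype.val this.eq)
    have hcomm1 : ∀ w ∈ ⁅Qh, Sh⁆, w = 1 := by
      intro w hw
      have hwQ : w ∈ Qh := Subgroup.commutator_le_left Qh Sh hw
      exact hfaith w (hQhL hwQ) (hfl w hw)
    refine le_trans ?_ (Subgroup.centralizer_le_normalizer _)
    intro x hx
    rw [mem_centralizer_iff]
    intro y hy
    have h1 : ⁅(x : Λ), (y : Λ)⁆ = 1 :=
      hcomm1 _ (Subgroup.commutator_mem_commutator (mem_map_of_mem _ hx) (mem_map_of_mem _ hy))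
    have h2 := commutatorElement_eq_one_iff_mul_comm.mp h1
    exact Subtype.ext h2.symm

end Cfsg.Agent.Helper31.Ward
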