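import Mathlib
import Cfsg.Agent.Lib.Helper31.WardCore
import Cfsg.Agent.S1473
import Cfsg.Agent.S0033

/-!
# Ward's theorem: hypotheses, quotients, centralizers (helper31)
-/

set_option autoImplicit false

namespace Cfsg.Agent.Helper31.Ward

open Subgroup
open scoped commutatorElement

variable {Γ : Type*} [Group Γ]

/-- The hypotheses of Ward's theorem, inside an ambient group `Γ`. -/
structure Hyp (G A : Subgroup Γ) (p : ℕ) : Prop where
  hGn : G.Normal
  hsolv : Group.IsSolvable ↥G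
  hAc : ∀ a ∈ A, ∀ b ∈ A, a * b = b * a
  hAp : ∀ a ∈ A, a ^ p = 1
  hAcard : Nat.card A = p ^ 2
  hGp : (Nat.card G).Coprime p
  hfix : ∀ g ∈ G, (∀ a ∈ A, a * g = g * a) → g = 1

/-- Conjugation by an element of the normalizer, as an automorphism of the subgroup. -/
def conjEquiv (H : Subgroup Γ) (a : Γ) (ha : a ∈ normalizer (H : Set Γ)) : ↥H ≃* ↥H where
  toFun x := ⟨a * x * a⁻¹, (mem_normalizer_iff.mp ha x).mp x.2⟩
  invFun x := ⟨a⁻¹ * x * a, by
    have := (mem_normalizer_iff.mp (inv_mem ha) x).mp x.2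
    simpa using this⟩
  left_inv x := by
    apply Subtype.ext
    show a⁻¹ * (a * x * a⁻¹) * a = x
    group
  right_inv x := by
    apply Subtype.ext
    show a * (a⁻¹ * x * a) * a⁻¹ = x
    group
  map_mul' x y := by
    apply Subtype.ext
    show a * (x * y) * a⁻¹ = (a * x * a⁻¹) * (a * y * a⁻¹)
    group

theorem conjEquiv_apply (H : Subgroup Γ) (a : Γ) (ha : a ∈ normalizer (H : Set Γ)) (x : ↥H) :
    ((conjEquiv H a ha x : ↥H) : Γ) = a * x * a⁻¹ := rfl

theorem conjEquiv_pow (H : Subgroup Γ) (a : Γ) (ha : a ∈ normalizer (H : Set Γ)) (n : ℕ)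
    (x : ↥H) : (((conjEquiv H a ha) ^ n) x : Γ) = a ^ n * x * (a ^ n)⁻¹ := by
  induction n generalizing x with
  | zero => simp
  | succ n ih =>
    rw [pow_succ, MulAut.mul_apply, ih, conjEquiv_apply, pow_succ]
    group

section

variable [Finite Γ] {p : ℕ} [hp : Fact p.Prime] {G A : Subgroup Γ}

theorem Hyp.exists_not_mem_zpowers (h : Hyp G A p) {b : Γ} (hb : b ∈ A) (hb1 : b ≠ 1) :
    ∃ a ∈ A, a ∉ zpowers b := by
  by_contra hcon
  push_neg at hcon
  have hle : A ≤ zpowers b := fun a ha => hcon a ha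
  have h1 := Subgroup.card_le_of_le hle
  rw [h.hAcard, card_zpowers_eq (h.hAp b hb) hb1] at h1
  have hp1 : 1 < p := hp.out.one_lt
  nlinarith

theorem Hyp.isPGroup (h : Hyp G A p) : IsPGroup p A := by
  intro a
  refine ⟨1, Subtype.ext ?_⟩
  rw [pow_one]
  simpa using h.hAp a a.2

theorem Hyp.le_normalizer (h : Hyp G A p) (X : Subgroup Γ) : X ≤ normalizer (G : Set Γ) := by
  rw [Subgroup.normalizer_eq_top_iff.mpr h.hGn]
  exact le_top

theorem Hyp.card_coprime (h : Hyp G A p) {X : Subgroup Γ} (hX : X ≤ G) :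
    (Nat.card X).Coprime p :=
  Nat.Coprime.coprime_dvd_left (Subgroup.card_dvd_of_le hX) h.hGp

/-- Thompson: the centralizer in `G` of a nonidentity element of `A` is nilpotent. -/
theorem Hyp.isNilpotent_centralizer (h : Hyp G A p) {b : Γ} (hb : b ∈ A) (hb1 : b ≠ 1) :
    Group.IsNilpotent ↥(G ⊓ centralizer ({b} : Set Γ)) := by
  obtain ⟨a, ha, hab⟩ := h.exists_not_mem_zpowers hb hb1
  set Cb := G ⊓ centralizer ({b} : Set Γ) with hCb
  have haCb : a ∈ normalizer (Cb : Set Γ) :=
    Helper48.mem_normalizer_inf' (h.le_normalizer A ha)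
      (Helper48.mem_normalizer_centralizer_singleton (h.hAc a ha b hb))
  set ψ := conjEquiv Cb a haCb with hψ
  have hfpf : ∀ x : ↥Cb, ψ x = x → x = 1 := by
    intro x hx
    have h1 : a * (x : Γ) * a⁻¹ = x := congrArg Subtype.val hx
    have hax : a * (x : Γ) = x * a := by
      have : a * (x : Γ) * a⁻¹ * a = x * a := by rw [h1]
      simpa using this
    have hbx : b * (x : Γ) = x * b := by
      have := (Subgroup.mem_inf.mp x.2).2
      rw [mem_centralizer_singleton_iff] at this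
      exact this.symm
    have := h.hfix x (Subgroup.mem_inf.mp x.2).1
      (commute_of_commute_two A h.hAp h.hAcard hb hb1 ha hab hbx hax)
    exact Subtype.ext this
  by_cases hψ1 : ψ = 1
  · have : Subsingleton ↥Cb := by
      constructor
      intro x y
      have hx : x = 1 := hfpf x (by rw [hψ1]; rfl)
      have hy : y = 1 := hfpf y (by rw [hψ1]; rfl)
      rw [hx, hy]
    infer_instance
  · have hpow : ψ ^ p = 1 := by
      ext x
      rw [hψ, conjEquiv_pow, h.hAp a ha]
      simp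
    have hord : orderOf ψ = p := orderOf_eq_prime hpow hψ1
    exact Cfsg.Agent.S0033.result ψ (fun x hx => hfpf x hx) p hp.out hord

end

section quotient

variable [Finite Γ] {p : ℕ} [hp : Fact p.Prime] {G A : Subgroup Γ}

/-- Lifting fixed points through a normal subgroup `M ≤ G`. -/
theorem Hyp.lift_fixed (h : Hyp G A p) (M : Subgroup Γ) [M.Normal] (hMG : M ≤ G) {b : Γ}
    (hb : b ∈ A) {g : Γ} (hg : g ∈ G)
    (hfix : (QuotientGroup.mk' M b) * (QuotientGroup.mk' M g) =
      (QuotientGroup.mk' M g) * (QuotientGroup.mk' M b)) :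
    ∃ u ∈ G ⊓ centralizer ({b} : Set Γ), QuotientGroup.mk' M u = QuotientGroup.mk' M g := by
  have hbM : b ∈ normalizer (M : Set Γ) := by
    rw [Subgroup.normalizer_eq_top_iff.mpr inferInstance]
    exact Subgroup.mem_top b
  have hmem : g⁻¹ * (b * g * b⁻¹) ∈ M := by
    rw [← QuotientGroup.eq_one_iff, ← QuotientGroup.mk'_apply, map_mul, map_mul, map_mul, hfix,
      map_inv, map_inv]
    group
  obtain ⟨d, hd, hfx⟩ := Helper48.exists_mul_mem_fixed M (h.card_coprime hMG) b g 1
    (by rw [pow_one]; exact h.hAp b hb) hbM hmem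
  refine ⟨g * d, Subgroup.mem_inf.mpr ⟨G.mul_mem hg (hMG hd), ?_⟩, ?_⟩
  · rw [mem_centralizer_singleton_iff]
    have : b * (g * d) * b⁻¹ * b = g * d * b := by rw [hfx]
    have h' : b * (g * d) = g * d * b := by simpa using this
    exact h'.symm
  · rw [map_mul, (QuotientGroup.eq_one_iff d).mpr hd |> fun e => (by
      rw [QuotientGroup.mk'_apply]; exact e : QuotientGroup.mk' M d = 1), mul_one]

/-- The hypotheses pass to quotients by normal subgroups of `Γ` inside `G`. -/
theorem Hyp.map (h : Hyp G A p) (M : Subgroup Γ) [hMn : M.Normal] (hMG : M ≤ G) :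
    Hyp (G.map (QuotientGroup.mk' M)) (A.map (QuotientGroup.mk' M)) p := by
  have hsurj := QuotientGroup.mk'_surjective M
  have hinj : Function.Injective ((QuotientGroup.mk' M).subgroupMap A) := by
    rw [injective_iff_map_eq_one]
    intro x hx
    have h1 : QuotientGroup.mk' M (x : Γ) = 1 := congrArg Subtype.val hx
    have hxM : (x : Γ) ∈ M := by
      rw [QuotientGroup.mk'_apply, QuotientGroup.eq_one_iff] at h1
      exact h1
    have h2 : orderOf (x : Γ) ∣ Nat.card M := Subgroup.orderOf_dvd_natCard M hxM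
    have h3 : orderOf (x : Γ) ∣ p := orderOf_dvd_of_pow_eq_one (h.hAp x x.2)
    have h4 : orderOf (x : Γ) ∣ 1 := by
      have := Nat.dvd_gcd h2 h3
      rwa [Nat.Coprime.gcd_eq_one (h.card_coprime hMG)] at this
    have h5 : (x : Γ) = 1 := orderOf_eq_one_iff.mp (Nat.dvd_one.mp h4)
    exact Subtype.ext h5
  refine
    { hGn := Subgroup.Normal.map h.hGn _ hsurj
      hsolv := by
        haveI := h.hsolv
        exact solvable_of_surjective ((QuotientGroup.mk' M).subgroupMap_surjective G)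
      hAc := by
        rintro _ ⟨a, ha, rfl⟩ _ ⟨b, hb, rfl⟩
        rw [← map_mul, ← map_mul, h.hAc a ha b hb]
      hAp := by
        rintro _ ⟨a, ha, rfl⟩
        rw [← map_pow, h.hAp a ha, map_one]
      hAcard := by
        rw [← h.hAcard]
        exact (Nat.card_congr (Equiv.ofBijective _
          ⟨hinj, (QuotientGroup.mk' M).subgroupMap_surjective A⟩)).symm
      hGp := Nat.Coprime.coprime_dvd_left (Subgroup.card_map_dvd _ _) h.hGp
      hfix := ?_ }
  -- fixed points
  rintro _ ⟨g, hg, rfl⟩ hfx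
  set Ah := A.map (QuotientGroup.mk' M) with hAh
  set Q : Subgroup Γ := G ⊓ (centralizer (Ah : Set (Γ ⧸ M))).comap (QuotientGroup.mk' M) with hQ
  have hMQ : M ≤ Q := by
    intro m hm
    refine Subgroup.mem_inf.mpr ⟨hMG hm, ?_⟩
    rw [Subgroup.mem_comap, QuotientGroup.mk'_apply, (QuotientGroup.eq_one_iff m).mpr hm]
    exact one_mem _
  have hQn : Q ≤ normalizer (M : Set Γ) := by
    rw [Subgroup.normalizer_eq_top_iff.mpr hMn]
    exact le_top
  have hcomm : ∀ a ∈ A, ∀ u ∈ Q, QuotientGroup.mk' M a * QuotientGroup.mk' M u =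
      QuotientGroup.mk' M u * QuotientGroup.mk' M a := by
    intro a ha u hu
    have h1 := (Subgroup.mem_inf.mp hu).2
    rw [Subgroup.mem_comap, mem_centralizer_iff] at h1
    exact h1 _ (mem_map_of_mem _ ha)
  have hAst : A ≤ stabQ Q M := by
    intro a ha
    have key : ∀ a ∈ A, ∀ u ∈ Q, a * u * a⁻¹ ∈ Q := by
      intro a ha u hu
      refine Subgroup.mem_inf.mpr ⟨h.hGn.conj_mem u (Subgroup.mem_inf.mp hu).1 a, ?_⟩
      rw [Subgroup.mem_comap]
      have e : QuotientGroup.mk' M (a * u * a⁻¹) = QuotientGroup.mk' M u := by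
        rw [map_mul, map_mul, hcomm a ha u hu, map_inv]
        group
      rw [e]
      exact (Subgroup.mem_inf.mp hu).2
    refine ⟨mem_normalizer_of_forall (key a ha) (fun u hu => ?_), fun u hu => ?_⟩
    · have := key a⁻¹ (A.inv_mem ha) u hu
      simpa using this
    · rw [← QuotientGroup.eq_one_iff, ← QuotientGroup.mk'_apply, map_mul, map_mul, map_mul,
        hcomm a ha u hu, map_inv, map_inv]
      group
  have hQM : Q ≤ M := le_of_le_stabQ A Q M h.hAp h.hAcard h.hAc
    (h.card_coprime inf_le_left) (fun u hu => h.hfix u (Subgroup.mem_inf.mp hu).1) hMQ hQn hAst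
  have hgQ : g ∈ Q := by
    refine Subgroup.mem_inf.mpr ⟨hg, ?_⟩
    rw [Subgroup.mem_comap, mem_centralizer_iff]
    intro y hy
    exact hfx y hy
  have := hQM hgQ
  rw [QuotientGroup.mk'_apply, (QuotientGroup.eq_one_iff g).mpr this]

theorem card_map_mk_lt (G M : Subgroup Γ) [M.Normal] (hMG : M ≤ G) (hM : M ≠ ⊥) :
    Nat.card (G.map (QuotientGroup.mk' M)) < Nat.card G := by
  by_contra hcon
  rw [not_lt] at hcon
  have hbij := ((QuotientGroup.mk' M).subgroupMap_surjective G).bijective_of_nat_card_le hcon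
  obtain ⟨m, hm, hm1⟩ := (Subgroup.ne_bot_iff_exists_ne_one).mp hM |> fun ⟨x, hx⟩ =>
    (⟨(x : Γ), x.2, fun e => hx (Subtype.ext e)⟩ : ∃ m : Γ, m ∈ M ∧ m ≠ 1)
  have h1 : (QuotientGroup.mk' M).subgroupMap G ⟨m, hMG hm⟩ =
      (QuotientGroup.mk' M).subgroupMap G 1 := by
    apply Subtype.ext
    show QuotientGroup.mk' M m = QuotientGroup.mk' M 1
    rw [map_one, QuotientGroup.mk'_apply, (QuotientGroup.eq_one_iff m).mpr hm]
  have := hbij.1 h1
  exact hm1 (congrArg Subtype.val this)

/-- A `q`-element of the image lifts to a `q`-element, inside the cyclic group of any lift. -/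
theorem exists_qelt_lift {Λ : Type*} [Group Λ] (f : Γ →* Λ) {q : ℕ} [hq : Fact q.Prime]
    (u : Γ) (i : ℕ) (hi : (f u) ^ q ^ i = 1) :
    ∃ u' ∈ zpowers u, f u' = f u ∧ ∃ a : ℕ, u' ^ q ^ a = 1 := by
  have hn0 : orderOf u ≠ 0 := (orderOf_pos u).ne'
  obtain ⟨a, m, hqm, hnm⟩ := Nat.exists_eq_pow_mul_and_not_dvd hn0 q hq.out.ne_one
  have hcop : m.Coprime (orderOf (f u)) := by
    have h1 : orderOf (f u) ∣ q ^ i := orderOf_dvd_of_pow_eq_one hi
    obtain ⟨j, -, hj⟩ := (Nat.dvd_prime_pow hq.out).mp h1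
    rw [hj]
    exact Nat.Coprime.pow_right j ((Nat.Prime.coprime_iff_not_dvd hq.out).mpr hqm).symm
  obtain ⟨j, hj⟩ := exists_pow_eq_self_of_coprime hcop
  refine ⟨(u ^ m) ^ j, ?_, ?_, a, ?_⟩
  · exact (zpowers u).pow_mem ((zpowers u).pow_mem (mem_zpowers u) m) j
  · rw [map_pow, map_pow, hj]
  · rw [← pow_mul, ← pow_mul]
    have e : m * (j * q ^ a) = (q ^ a * m) * j := by ring
    rw [e, ← hnm, pow_mul, pow_orderOf_eq_one, one_pow]

end quotient

end Cfsg.Agent.Helper31.Ward
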