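import Mathlib
import Cfsg.Agent.Lib.Helper31.WardNil
import Cfsg.Agent.Lib.Helper31.WardQuot

/-!
# Ward's theorem: the induction (helper31)
-/

set_option autoImplicit false

namespace Cfsg.Agent.Helper31.Ward

open Subgroup
open scoped commutatorElement

universe u

section minimal

variable {Γ : Type*} [Group Γ] [Finite Γ]

/-- A minimal normal subgroup of `Γ` inside the solvable normal subgroup `G`: it is an abelian
`r`-group. -/
theorem exists_minimal_normal (G : Subgroup Γ) [hGn : G.Normal] (hG : Group.IsSolvable ↥G)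
    (hbot : G ≠ ⊥) :
    ∃ V : Subgroup Γ, V.Normal ∧ V ≤ G ∧ V ≠ ⊥ ∧
      (∀ W : Subgroup Γ, W.Normal → W ≤ V → W ≠ ⊥ → W = V) ∧
      (∀ x ∈ V, ∀ y ∈ V, x * y = y * x) ∧ ∃ r : ℕ, r.Prime ∧ IsPGroup r V := by
  obtain ⟨M, -, hMmin⟩ := Finite.exists_le_minimal
    (p := fun K : Subgroup Γ => K.Normal ∧ K ≤ G ∧ K ≠ ⊥) (a := G) ⟨hGn, le_rfl, hbot⟩
  obtain ⟨hMn, hMG, hMbot⟩ := hMmin.prop
  haveI := hMn
  have hmin : ∀ W : Subgroup Γ, W.Normal → W ≤ M → W ≠ ⊥ → W = M := by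
    intro W hWn hWM hW
    exact le_antisymm hWM (hMmin.le_of_le ⟨hWn, hWM.trans hMG, hW⟩ hWM)
  have hMsolv : Group.IsSolvable M := by
    haveI := hG
    exact Group.isSolvable_of_isSolvable_injective (f := Subgroup.inclusion hMG)
      (Subgroup.inclusion_injective hMG)
  have hcomm : ⁅M, M⁆ = ⊥ := by
    by_contra hne
    have hnorm : (⁅M, M⁆ : Subgroup Γ).Normal := inferInstance
    have hlt := S1473.commutator_lt_of_solvable M hMsolv hMbot
    have := hmin _ hnorm hlt.le hne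
    exact absurd this hlt.ne
  have hMc : ∀ a ∈ M, ∀ b ∈ M, a * b = b * a := by
    intro a ha b hb
    have : ⁅a, b⁆ ∈ ⁅M, M⁆ := Subgroup.commutator_mem_commutator ha hb
    rw [hcomm, Subgroup.mem_bot] at this
    exact commutatorElement_eq_one_iff_mul_comm.mp this
  obtain ⟨r, hr, N, hNn, hNM, hNbot, hNr⟩ := S1473.exists_normal_pgroup M hMsolv hMbot
  have hNM' : N = M := hmin N hNn hNM hNbot
  exact ⟨M, hMn, hMG, hMbot, hmin, hMc, r, hr, hNM' ▸ hNr⟩

end minimal

/-- Claim 1: `G / C_G(V)` is nilpotent for a minimal normal subgroup `V`. -/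
theorem claim1 {Γ : Type u} [Group Γ] [Finite Γ] {G A : Subgroup Γ} {p : ℕ} [hp : Fact p.Prime]
    (h : Hyp G A p) (V : Subgroup Γ) [hVn : V.Normal] (hVG : V ≤ G) (hVbot : V ≠ ⊥)
    (hVmin : ∀ W : Subgroup Γ, W.Normal → W ≤ V → W ≠ ⊥ → W = V)
    (hVc : ∀ x ∈ V, ∀ y ∈ V, x * y = y * x) {r : ℕ} [hr : Fact r.Prime] (hVr : IsPGroup r V)
    (ih : ∀ (Γ' : Type u) [Group Γ'] [Finite Γ'] (G' A' : Subgroup Γ'),
      Nat.card G' < Nat.card G → Hyp G' A' p →
      ∃ N : Subgroup Γ', N ≤ G' ∧ N.Normal ∧ Group.IsNilpotent ↥N ∧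
        ∃ k : ℕ, G'.lowerCentralSeries k ≤ N) :
    ∃ k : ℕ, G.lowerCentralSeries k ≤ G ⊓ centralizer (V : Set Γ) := by
  haveI := h.hGn
  set C := G ⊓ centralizer (V : Set Γ) with hC
  haveI hCn : C.Normal := inferInstance
  have hVC : V ≤ C := le_inf hVG (fun x hx => mem_centralizer_iff.mpr (fun y hy => hVc y hy x hx))
  have hCG : C ≤ G := inf_le_left
  have hCbot : C ≠ ⊥ := fun e => hVbot (le_bot_iff.mp (e ▸ hVC))
  set mk := QuotientGroup.mk' C with hmk
  set L := G.map mk with hL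
  set Ah := A.map mk with hAh
  have hH : Hyp L Ah p := h.map C hCG
  haveI hLn : L.Normal := hH.hGn
  obtain ⟨Nh, hNhL, hNhn, hNhnil, k, hk⟩ := ih (Γ ⧸ C) L Ah (card_map_mk_lt G C hCG hCbot) hH
  -- the action on V
  letI : CommGroup ↥V :=
    { (inferInstance : Group ↥V) with mul_comm := fun x y => Subtype.ext (hVc x x.2 y y.2) }
  set φ₀ : Γ →* MulAut ↥V := MulAut.conjNormal with hφ₀
  have hφ₀ : ∀ (g : Γ) (v : ↥V), ((φ₀ g v : ↥V) : Γ) = g * v * g⁻¹ := fun g v => rfl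
  have hker : C ≤ φ₀.ker := by
    intro c hc
    rw [MonoidHom.mem_ker]
    ext v
    rw [hφ₀]
    have := mem_centralizer_iff.mp (Subgroup.mem_inf.mp hc).2 v v.2
    rw [← this]
    simp
  set φ : Γ ⧸ C →* MulAut ↥V := QuotientGroup.lift C φ₀ hker with hφdef
  have hφ : ∀ (g : Γ) (v : ↥V), ((φ (mk g) v : ↥V) : Γ) = g * v * g⁻¹ := fun g v => rfl
  have hmk1 : ∀ g : Γ, mk g = 1 ↔ g ∈ C := by
    intro g
    rw [hmk, QuotientGroup.mk'_apply, QuotientGroup.eq_one_iff]
  have hfaith : ∀ u ∈ L, φ u = 1 → u = 1 := by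
    rintro _ ⟨g, hg, rfl⟩ hφg
    rw [hmk1]
    refine Subgroup.mem_inf.mpr ⟨hg, ?_⟩
    rw [mem_centralizer_iff]
    intro v hv
    have h1 := hφ g ⟨v, hv⟩
    rw [hφg] at h1
    have h2 : v = g * v * g⁻¹ := h1
    have h3 : v * g = g * v * g⁻¹ * g := by rw [← h2]
    simpa using h3
  -- O_r(L) = 1
  have hOr : Cfsg.pCore r ↥L = ⊥ := by
    haveI := pCore_characteristic' (X := ↥L) r
    set P := Cfsg.pCore r ↥L with hP
    set Rh : Subgroup (Γ ⧸ C) := P.map L.subtype with hRh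
    have hRhn : Rh.Normal := ConjAct.normal_of_characteristic_of_normal
    have hRhr : IsPGroup r Rh := (Helper22.isPGroup_pCore r).map _
    have hRhL : Rh ≤ L := map_subtype_le _
    set R := Rh.comap mk with hR
    haveI hRn : R.Normal := hRhn.comap _
    set F := V ⊓ centralizer (R : Set Γ) with hF
    have hFn : F.Normal := inferInstance
    have hFne : F ≠ ⊥ := by
      letI : MulAction ↥Rh ↥V := MulAction.compHom ↥V (φ.comp Rh.subtype)
      have hdvd : r ∣ Nat.card ↥V := by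
        obtain ⟨m, hm⟩ := hVr.exists_card_eq
        have hm0 : m ≠ 0 := by
          rintro rfl
          rw [pow_zero, Subgroup.card_eq_one] at hm
          exact hVbot hm
        rw [hm]
        exact dvd_pow_self r hm0
      have h1 : (1 : ↥V) ∈ MulAction.fixedPoints ↥Rh ↥V := by
        intro x
        show φ (x : Γ ⧸ C) 1 = 1
        exact map_one _
      obtain ⟨v, hv, hv1⟩ :=
        hRhr.exists_fixed_point_of_prime_dvd_card_of_fixed_point ↥V hdvd h1
      intro hbot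
      apply hv1
      have hvF : (v : Γ) ∈ F := by
        refine Subgroup.mem_inf.mpr ⟨v.2, ?_⟩
        rw [mem_centralizer_iff]
        intro x hx
        have hfx : φ (mk x) v = v := hv ⟨mk x, hx⟩
        have h2 : x * (v : Γ) * x⁻¹ = v := by rw [← hφ x v, hfx]
        have h3 : x * (v : Γ) * x⁻¹ * x = v * x := by rw [h2]
        simpa using h3
      rw [hbot, Subgroup.mem_bot] at hvF
      exact (Subtype.ext hvF).symm
    have hFV : F = V := hVmin F hFn inf_le_left hFne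
    have hRC : R ≤ C := by
      intro x hx
      have hxG : x ∈ G := by
        obtain ⟨g, hg, hgx⟩ := hRhL hx
        have h1 : g⁻¹ * x ∈ C := by
          rw [← hmk1, map_mul, map_inv, hgx]
          group
        have := G.mul_mem hg (hCG h1)
        simpa using this
      refine Subgroup.mem_inf.mpr ⟨hxG, ?_⟩
      rw [mem_centralizer_iff]
      intro v hv
      have hvF : v ∈ F := hFV ▸ hv
      have := (mem_centralizer_iff.mp (Subgroup.mem_inf.mp hvF).2) x hx
      exact this.symm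
    rw [eq_bot_iff]
    intro y hy
    have hyRh : (y : Γ ⧸ C) ∈ Rh := mem_map_of_mem _ hy
    obtain ⟨g, hg⟩ := QuotientGroup.mk'_surjective C (y : Γ ⧸ C)
    have hgR : g ∈ R := by
      rw [hR, Subgroup.mem_comap, hmk, hg]
      exact hyRh
    have hgC := hRC hgR
    have hy1 : (y : Γ ⧸ C) = 1 := by
      rw [← hg]
      exact (hmk1 g).mpr hgC
    rw [Subgroup.mem_bot]
    exact Subtype.ext hy1
  -- (N1)
  have hN1 : ∀ q : ℕ, q.Prime → q ≠ r → ∀ b ∈ Ah, b ≠ 1 → ∀ u ∈ L, (∃ i : ℕ, u ^ q ^ i = 1) →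
      b * u = u * b → ∀ v : ↥V, φ b v = v → φ u v = v := by
    rintro q hq hqr _ ⟨b, hb, rfl⟩ hb1 _ ⟨u₀, hu₀, rfl⟩ ⟨i, hi⟩ hbu v hv
    have hb1' : b ≠ 1 := by
      rintro rfl
      exact hb1 (map_one _)
    obtain ⟨u, hu, hmku⟩ := h.lift_fixed C hCG hb hu₀ hbu
    haveI := Fact.mk hq
    obtain ⟨u', hu'z, hmku', a, hu'a⟩ := exists_qelt_lift mk u i (by rw [hmku]; exact hi)
    have hu'Cb : u' ∈ G ⊓ centralizer ({b} : Set Γ) := (zpowers_le.mpr hu) hu'z
    have hvCb : (v : Γ) ∈ G ⊓ centralizer ({b} : Set Γ) := by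
      refine Subgroup.mem_inf.mpr ⟨hVG v.2, ?_⟩
      rw [mem_centralizer_singleton_iff]
      have h2 : b * (v : Γ) * b⁻¹ = v := by rw [← hφ b v, hv]
      have h3 : b * (v : Γ) * b⁻¹ * b = v * b := by rw [h2]
      have h4 : b * (v : Γ) = v * b := by simpa using h3
      exact h4.symm
    have hnil := h.isNilpotent_centralizer hb hb1'
    obtain ⟨j, hj⟩ : ∃ j : ℕ, (v : Γ) ^ r ^ j = 1 := by
      obtain ⟨j, hj⟩ := hVr v
      exact ⟨j, by simpa using congrArg Subtype.val hj⟩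
    have hcomm := S1473.commute_of_nilpotent hnil hq hr.out hqr
      (⟨u', hu'Cb⟩ : ↥(G ⊓ centralizer ({b} : Set Γ))) ⟨v, hvCb⟩
      ⟨a, Subtype.ext (by simpa using hu'a)⟩ ⟨j, Subtype.ext (by simpa using hj)⟩
    have hcomm' : u' * (v : Γ) = v * u' := congrArg Subtype.val hcomm.eq
    rw [← hmku, ← hmku']
    apply Subtype.ext
    rw [hφ, hcomm']
    group
  -- (N2)
  have hN2 : ∀ b ∈ Ah, b ≠ 1 →
      Group.IsNilpotent ↥(L ⊓ centralizer ({b} : Set (Γ ⧸ C))) := by
    rintro _ ⟨b, hb, rfl⟩ hb1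
    have hb1' : b ≠ 1 := by
      rintro rfl
      exact hb1 (map_one _)
    have hnil := h.isNilpotent_centralizer hb hb1'
    have hle : L ⊓ centralizer ({mk b} : Set (Γ ⧸ C)) ≤
        (G ⊓ centralizer ({b} : Set Γ)).map mk := by
      intro y hy
      obtain ⟨hyL, hyc⟩ := Subgroup.mem_inf.mp hy
      obtain ⟨g, hg, rfl⟩ := hyL
      rw [mem_centralizer_singleton_iff] at hyc
      obtain ⟨u, hu, hmku⟩ := h.lift_fixed C hCG hb hg hyc.symm
      exact ⟨u, hu, hmku⟩
    exact S1473.isNilpotent_of_le (S1473.isNilpotent_map _ hnil mk) hle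
  have hLnil : Group.IsNilpotent ↥L :=
    nil_of_faithful φ Ah L Nh hH.hAc hH.hAp hH.hAcard hH.hGp hH.hfix hVr hfaith hOr hN1 hN2
      hNhL hNhn hNhnil k hk
  obtain ⟨k', hk'⟩ := (Subgroup.isNilpotent_iff_lowerCentralSeries L).mp hLnil
  refine ⟨k', ?_⟩
  have h1 : (G.lowerCentralSeries k').map mk = ⊥ := by
    rw [Subgroup.map_lowerCentralSeries]
    exact hk'
  have h2 := (Subgroup.map_eq_bot_iff _).mp h1
  rwa [hmk, QuotientGroup.ker_mk'] at h2

/-- **Ward's theorem**, internal form, by induction on `|G|`. -/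
theorem ward_aux (n : ℕ) : ∀ (Γ : Type u) [Group Γ] [Finite Γ] (G A : Subgroup Γ) (p : ℕ)
    [Fact p.Prime], Nat.card G = n → Hyp G A p →
    ∃ N : Subgroup Γ, N ≤ G ∧ N.Normal ∧ Group.IsNilpotent ↥N ∧
      ∃ k : ℕ, G.lowerCentralSeries k ≤ N := by
  induction n using Nat.strong_induction_on with
  | _ n ih =>
  intro Γ _ _ G A p _ hn h
  by_cases hbot : G = ⊥
  · refine ⟨⊥, bot_le, inferInstance, inferInstance, 0, ?_⟩
    rw [Subgroup.lowerCentralSeries_zero, hbot]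
  haveI := h.hGn
  obtain ⟨V, hVn, hVG, hVbot, hVmin, hVc, r, hr, hVr⟩ := exists_minimal_normal G h.hsolv hbot
  haveI := hVn
  haveI := Fact.mk hr
  -- induction on Γ/V
  obtain ⟨Eb, hEbG, hEbn, hEbnil, k₁, hk₁⟩ :=
    ih _ (hn ▸ card_map_mk_lt G V hVG hVbot) (Γ ⧸ V) _ _ p rfl (h.map V hVG)
  set C := G ⊓ centralizer (V : Set Γ) with hC
  haveI hCn : C.Normal := inferInstance
  have hCG : C ≤ G := inf_le_left
  obtain ⟨k₂, hk₂⟩ := claim1 h V hVG hVbot hVmin hVc hVr
    (fun Γ' _ _ G' A' hlt hH' => ih _ (hn ▸ hlt) Γ' G' A' p rfl hH')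
  set mkV := QuotientGroup.mk' V with hmkV
  set E := Eb.comap mkV with hE
  haveI hEn : E.Normal := hEbn.comap _
  set N := E ⊓ C with hN
  refine ⟨N, inf_le_right.trans hCG, inferInstance, ?_, max k₁ k₂, ?_⟩
  · obtain ⟨j, hj⟩ := (Subgroup.isNilpotent_iff_lowerCentralSeries Eb).mp hEbnil
    have hNE : N.map mkV ≤ Eb := by
      rw [Subgroup.map_le_iff_le_comap]
      exact inf_le_left
    have h1 : (N.lowerCentralSeries j).map mkV = ⊥ := by
      rw [Subgroup.map_lowerCentralSeries, eq_bot_iff, ← hj]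
      exact Subgroup.lowerCentralSeries_mono j hNE
    have h2 : N.lowerCentralSeries j ≤ V := by
      have := (Subgroup.map_eq_bot_iff _).mp h1
      rwa [hmkV, QuotientGroup.ker_mk'] at this
    rw [Subgroup.isNilpotent_iff_lowerCentralSeries]
    refine ⟨j + 1, ?_⟩
    rw [Subgroup.lowerCentralSeries_succ, eq_bot_iff, Subgroup.commutator_le]
    intro v hv c hc
    rw [Subgroup.mem_bot, commutatorElement_eq_one_iff_mul_comm]
    have hcC : c ∈ centralizer (V : Set Γ) := (Subgroup.mem_inf.mp (Subgroup.mem_inf.mp hc).2).2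
    exact (mem_centralizer_iff.mp hcC v (h2 hv))
  · apply le_inf
    · refine (Subgroup.lowerCentralSeries_antitone G (le_max_left k₁ k₂)).trans ?_
      rw [hE, ← Subgroup.map_le_iff_le_comap, Subgroup.map_lowerCentralSeries]
      exact hk₁
    · exact (Subgroup.lowerCentralSeries_antitone G (le_max_right k₁ k₂)).trans hk₂

end Cfsg.Agent.Helper31.Ward
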